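/- Tower E8F (row S5920): the slot `Opt` (a dominant weight of least norm). -/
import Cfsg.Agent.H40.E8FSpec

set_option autoImplicit false

namespace H66.E8FOpt

open Cfsg.Lie H63 H64 H40.E8F

variable {D : ChevalleyDatum} [RS D]

theorem lin_comp {μ : Rt D → ℝ} (h : Lin μ) (w : (H64.wdata D).W) : Lin fun r => μ (w.1 r) := by
  obtain ⟨f, hf, -⟩ := exists_lin w.2
  intro r
  have e : rt r = ∑ j, rt r j • rt (simpleR j : Rt D) := by
    ext i; simp [Pi.single_apply]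
  have e2 : ∀ j, μ (w.1 (simpleR j)) = _ := fun j => h _
  have e3 : ∀ i, rt (w.1 r) i = ∑ j, rt r j * rt (w.1 (simpleR j)) i := fun i => by
    conv_lhs => rw [hf, e, map_sum]
    simp only [map_smul, ← hf, Finset.sum_apply, Pi.smul_apply, smul_eq_mul]
  simp only [e2, Finset.mul_sum]
  rw [h, Finset.sum_comm]
  simp only [e3, Int.cast_sum, Int.cast_mul, Finset.sum_mul, mul_assoc]

theorem lin_neg {μ : Rt D → ℝ} (h : Lin μ) (r : Rt D) : μ (negR r) = - μ r := by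
  rw [h, h r, ← Finset.sum_neg_distrib]
  exact Finset.sum_congr rfl fun i _ => by rw [rt_negR]; simp

/-- the admissible weights -/
def Ad (𝒮 : Set (Set (Rt D))) (μ : Rt D → ℝ) : Prop := Lin μ ∧ ∃ S ∈ 𝒮, ∀ r ∈ S, 1 ≤ μ r

theorem exists_min {𝒮 : Set (Set (Rt D))} (h : ∃ S ∈ 𝒮, ∀ r ∈ S, Pos r) :
    ∃ μ, Ad 𝒮 μ ∧ ∀ ν, Ad 𝒮 ν → ∑ r, μ r ^ 2 ≤ ∑ r, ν r ^ 2 := by
  let C : Set (EuclideanSpace ℝ (Rt D)) := {y | Ad 𝒮 fun r => y r}
  have hc : IsClosed C := by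
    have : C = (⋂ r, {y | y r = ∑ i, (rt r i : ℝ) * y (simpleR i)}) ∩ ⋃ S ∈ 𝒮, ⋂ r ∈ S, {y | 1 ≤ y r} := by
      ext y; simp [C, Ad, Lin]
    rw [this]
    exact (isClosed_iInter fun r => isClosed_eq (by fun_prop) (by fun_prop)).inter
      ((Set.toFinite 𝒮).isClosed_biUnion fun S _ => isClosed_biInter fun r _ =>
        isClosed_le (by fun_prop) (by fun_prop))
  obtain ⟨S, h1, h2⟩ := h
  obtain ⟨y, y1, y2⟩ := hc.exists_infDist_eq_dist ⟨WithLp.toLp 2 fun r => (ht r : ℝ), fun r => by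
    simp only [ht_simpleR, Int.cast_one, mul_one]; simp [ht], S, h1,
    fun r hr => show (1 : ℝ) ≤ (ht r : ℝ) by exact_mod_cast pos_iff_ht.1 (h2 r hr)⟩ 0
  refine ⟨_, y1, fun ν hν => ?_⟩
  have := Metric.infDist_le_dist_of_mem (x := 0) (show WithLp.toLp 2 ν ∈ C from hν)
  rw [y2, dist_zero_left, dist_zero_left] at this
  have := pow_le_pow_left₀ (norm_nonneg _) this 2
  rwa [EuclideanSpace.real_norm_sq_eq, EuclideanSpace.real_norm_sq_eq] at this

theorem exists_dom {μ : Rt D → ℝ} (h : Lin μ) :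
    ∃ w : (H64.wdata D).W, ∀ i, 0 ≤ μ (w.1 (simpleR i)) := by
  classical
  let P : Finset (Rt D) := Finset.univ.filter Pos
  obtain ⟨w, hw⟩ := Finite.exists_max fun w : (H64.wdata D).W => ∑ r ∈ P, μ (w.1 r)
  refine ⟨w, fun i => ?_⟩
  have m : simpleR i ∈ P := by simp [P, pos_simpleR]
  have k : ∀ r ∈ P.erase (simpleR i), sref i r ∈ P.erase (simpleR i) := fun r hr => by
    simp only [P, Finset.mem_erase, Finset.mem_filter, Finset.mem_univ, true_and] at hr ⊢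
    refine ⟨fun e => ?_, pos_sref hr.2 hr.1⟩
    rw [← sref_sref i r, e, sref_simpleR_self, pos_negR] at hr
    exact hr.2 (pos_simpleR i)
  have := hw (w * (H64.wdata D).sW i)
  rw [← Finset.add_sum_erase _ _ m, ← Finset.add_sum_erase _ _ m,
    Finset.sum_nbij' (f := fun r => μ ((w * (H64.wdata D).sW i).1 r)) (g := fun r => μ (w.1 r))
      (sref i) (sref i) k k
      (fun r _ => sref_sref i r) (fun r _ => sref_sref i r) fun r _ => rfl] at this
  have e : μ ((w * (H64.wdata D).sW i).1 (simpleR i)) = -μ (w.1 (simpleR i)) := by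
    rw [← lin_neg (lin_comp h w), ← sref_simpleR_self]; rfl
  linarith

theorem jobOpt : JobOpt := fun D _ 𝒮 h1 h2 => by
  obtain ⟨μ, ⟨l, S, s1, s2⟩, m⟩ := exists_min h1
  obtain ⟨w, hw⟩ := exists_dom l
  have l' := lin_comp l w
  refine ⟨_, h2 S s1 w⁻¹, fun r => μ (w.1 r), l', hw, ?_, fun S' s3 u s4 r => ?_⟩
  · rintro _ ⟨r, hr, rfl⟩
    simpa using s2 r hr
  have l2 := lin_comp l' u
  have a := m (fun r => (μ (w.1 r) + μ (w.1 (u.1 r))) / 2) ⟨fun r => by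
    have a1 := l' r
    have a2 := l2 r
    beta_reduce at a1 a2 ⊢
    rw [a1, a2, ← Finset.sum_add_distrib, Finset.sum_div]
    exact Finset.sum_congr rfl fun i _ => by ring, S', s3, fun r hr => by linarith [s4 r hr]⟩
  have b : ∑ r, μ (w.1 r) ^ 2 = ∑ r, μ r ^ 2 := Equiv.sum_comp w.1 fun r => μ r ^ 2
  have c : ∑ r, μ (w.1 (u.1 r)) ^ 2 = ∑ r, μ (w.1 r) ^ 2 := Equiv.sum_comp u.1 fun r => μ (w.1 r) ^ 2
  have d : ∑ r, (μ (w.1 (u.1 r)) - μ (w.1 r)) ^ 2 = 2 * ∑ r, μ (w.1 r) ^ 2 +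
      2 * ∑ r, μ (w.1 (u.1 r)) ^ 2 - 4 * ∑ r, ((μ (w.1 r) + μ (w.1 (u.1 r))) / 2) ^ 2 := by
    simp only [Finset.mul_sum, ← Finset.sum_add_distrib, ← Finset.sum_sub_distrib]
    exact Finset.sum_congr rfl fun i _ => by ring
  have e := Finset.single_le_sum (f := fun r => (μ (w.1 (u.1 r)) - μ (w.1 r)) ^ 2)
    (fun r _ => sq_nonneg _) (Finset.mem_univ r)
  exact sub_eq_zero.1 (pow_eq_zero_iff two_ne_zero |>.1 (le_antisymm (by linarith) (sq_nonneg _)))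

end H66.E8FOpt
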