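import Cfsg.Agent.H66.OT4

/-! Odd transpositions with connected commuting graph: `⟨E_d, x⟩` is not a Suzuki group. -/

set_option autoImplicit false

open Cfsg H70

namespace H66.RI

universe u

section

variable {G : Type*} [Group G] {D : Set G} {R : Subgroup G} {a b c d e g r t u v w x y : G}

/-- congruence modulo `R` in the normaliser of `R` -/
def Cg (R : Subgroup G) (a b : G) : Prop := a ∈ Subgroup.normalizer (R : Set G) ∧ a⁻¹ * b ∈ R

theorem Cg.refl (h : a ∈ Subgroup.normalizer (R : Set G)) : Cg R a a := ⟨h, by simp⟩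

theorem Cg.right (h : Cg R a b) : b ∈ Subgroup.normalizer (R : Set G) := by
  simpa using mul_mem h.1 (Subgroup.le_normalizer h.2)

theorem Cg.symm (h : Cg R a b) : Cg R b a := ⟨h.right, by simpa using inv_mem h.2⟩

theorem Cg.trans (h : Cg R a b) (h' : Cg R b c) : Cg R a c := ⟨h.1, by simpa [mul_assoc] using mul_mem h.2 h'.2⟩

theorem conj_mem_of_nm (hg : g ∈ Subgroup.normalizer (R : Set G)) (hr : r ∈ R) : g * r * g⁻¹ ∈ R :=
  (Subgroup.mem_normalizer_iff.1 hg r).1 hr

theorem Cg.mul (h : Cg R a b) (h' : Cg R c d) : Cg R (a * c) (b * d) :=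
  ⟨mul_mem h.1 h'.1, by simpa [mul_assoc] using mul_mem (conj_mem_of_nm (inv_mem h'.1) h.2) h'.2⟩

theorem Cg.inv (h : Cg R a b) : Cg R a⁻¹ b⁻¹ :=
  ⟨inv_mem h.1, by simpa [mul_assoc] using conj_mem_of_nm h.1 (inv_mem h.2)⟩

theorem Cg.pow (h : Cg R a b) (n : ℕ) : Cg R (a ^ n) (b ^ n) := by
  induction n with
  | zero => simpa using Cg.refl (one_mem _)
  | succ n ih => simpa only [pow_succ] using ih.mul h

theorem Cg.conj (h : Cg R a b) (hg : g ∈ Subgroup.normalizer (R : Set G)) : Cg R (g * a * g⁻¹) (g * b * g⁻¹) :=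
  ((Cg.refl hg).mul h).mul (.refl (inv_mem hg))

theorem Cg.conj_mem (ha : a ∈ Subgroup.normalizer (R : Set G)) (hr : r ∈ R) : Cg R a (r * a * r⁻¹) := by
  have : Cg R 1 r := ⟨one_mem _, by simpa using hr⟩
  simpa using (this.mul (.refl ha)).mul this.inv

theorem Cg.mul_mem (h : Cg R a b) (sa : a * a = 1) : a * b ∈ R := by simpa only [inv_of_sq sa] using h.2

theorem mid_eq_of_pow {j : ℕ} (o : Odd (orderOf (a * b))) (h : (a * b) ^ (2 * j + 1) = 1) :
    mid a b = (a * b) ^ j * a := by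
  rw [mid, mul_left_inj, pow_eq_pow_iff_modEq]
  refine Nat.ModEq.cancel_left_of_coprime (c := 2) (Nat.coprime_two_right.2 o) (Nat.ModEq.add_right_cancel' 1 ?_)
  rw [Nat.two_mul_div_two_add_one_of_odd o]
  exact Nat.modEq_zero_iff_dvd.2 dvd_rfl |>.trans (Nat.modEq_zero_iff_dvd.2 (orderOf_dvd_of_pow_eq_one h)).symm

theorem Cg.mid (h : Cg R a b) (h' : Cg R c d) (o : IOpp a c) (o' : IOpp b d) : Cg R (mid a c) (mid b d) := by
  obtain ⟨j, hj⟩ := o.2.mul o'.2
  rw [mid_eq_of_pow (j := j) o.2 (by rw [← hj, pow_mul, pow_orderOf_eq_one, one_pow]),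
    mid_eq_of_pow (j := j) o'.2 (by rw [← hj, mul_comm, pow_mul, pow_orderOf_eq_one, one_pow])]
  exact ((h.mul h').pow j).mul h

variable (hD : IsOddTranspositionSet D) (hR : IsPGroup 2 R)
include hD hR

theorem Cg.commute (h : Cg R a b) (ha : a ∈ D) (hb : b ∈ D) : Commute a b :=
  commute_of_mem_two hD hR ha hb (h.mul_mem (ri_sq hD.1 ha))

theorem Cg.opp (h : Cg R a b) (ha : a ∈ D) (hb : b ∈ D) (hy : y ∈ D) (hn : y ∈ Subgroup.normalizer (R : Set G))
    (o : IOpp a y) : IOpp b y :=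
  ot_opp hD hb hy fun c => ot_nc hD ha hy o (commute_of_cong hD hR hy hb ha
    (fun _ => conj_mem_of_nm (Subgroup.mul_mem _ hn h.right)) c.symm (h.symm.mul_mem (ri_sq hD.1 hb))).symm

theorem not_mem_of_opp (ha : a ∈ D) (hy : y ∈ D) (hn : y ∈ Subgroup.normalizer (R : Set G)) (o : IOpp a y) :
    a ∉ R := fun h =>
  not_opp_of_pgroup hR (ri_sq hD.1 ha) (R.mul_mem h (by simpa only [ri_inv hD.1 hy] using conj_mem_of_nm hn h))
    (o.sq (ri_sq hD.1 ha) (ri_sq hD.1 hy))

omit hR in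
theorem commute_comm {u' v' : G} (hu : u ∈ D) (hu' : u' ∈ D) (h : Cg R u u') (hv : v * v' ∈ R)
    (sv : v * v' * (v * v') = 1) (hy : ∀ w ∈ D, Cg R u w → Commute y w) :
    Commute y (u * u' * (v * v') * (u * u') * (v * v')) := by
  have k : ∀ w ∈ D, Cg R u w → Commute y (v * v' * w * (v * v')) := fun w hw k =>
    hy _ (ri_conj' hD.1 hw sv) (k.trans (by simpa only [inv_of_sq sv] using Cg.conj_mem k.right hv))
  have := ((hy u hu (.refl h.1)).mul_right (hy u' hu' h)).mul_right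
    ((k u hu (.refl h.1)).mul_right (k u' hu' h))
  generalize v * v' = n at sv this
  simpa only [mul_assoc, sqc sv] using this

end

namespace OC

variable {G : Type u} [Group G] [Finite G] {D : Set G} {a b c d e g p s t w x y z : G} {R : Subgroup G}
  (h : OC D) (hd : d ∈ D) (hx : x ∈ D) (o : IOpp d x) (hZD : ZD.{u}) (hH : H51.HubSimple.{u})
  (hg : g ∈ XX D d x) (g2 : g * g = d)
include h hd hx o hZD hH hg g2

omit hZD hH in
theorem opp_mid_conj : IOpp (mid d x) (g * mid d x * g⁻¹) := by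
  have hD := h.ot
  have sd := ri_sq hD.1 hd; have sx := ri_sq hD.1 hx
  have hm := ri_mid_mem hD.1 hd hx o
  have hX : mid d x ∈ XX D d x := mid_mem (mem_XX_left hd (.refl d)) mem_XX_right
  refine ot_opp hD hm (ri_conj hD.1 hm g) fun c => ?_
  have k := h.se_X' hd hx o hm hX (ri_conj hD.1 hm g) (mul_mem (mul_mem hg hX) (inv_mem hg)) c
  have k' := k.trans (k.conj hD.1 g)
  rw [show g * (g * mid d x * g⁻¹) * g⁻¹ = g * g * mid d x * (g * g)⁻¹ by group, g2, inv_of_sq sd] at k'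
  exact ot_nc hD hm (ri_conj' hD.1 hm sd) ((opp_mid_left sd sx o).sq (ri_sq hD.1 hm) sd)
    (k'.commute (ri_conj' hD.1 hm sd))

variable (hR : IsPGroup 2 R) (hX : XX D d x ≤ Subgroup.normalizer (R : Set G)) (ht : t ∈ D) (k : Cg R d t)
include hR hX ht k

theorem comm_central : ∀ p ∈ XX D d x, Commute (mid d x * mid t x * (g * (mid d x * mid t x) * g⁻¹) *
    (mid d x * mid t x) * (g * (mid d x * mid t x) * g⁻¹)) p := by
  have hD := h.ot
  have ot := k.opp hD hR hd ht hx (hX mem_XX_right) o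
  have hm := ri_mid_mem hD.1 hd hx o
  have hm' := ri_mid_mem hD.1 ht hx ot
  have mX : mid d x ∈ XX D d x := mid_mem (mem_XX_left hd (.refl d)) mem_XX_right
  have km := k.mid (.refl (hX mem_XX_right)) o ot
  have om := h.opp_mid_conj hd hx o hg g2
  generalize mid d x = m at hm mX km om
  generalize mid t x = m' at hm' km
  have km' := km.conj (hX hg)
  have s1 := sq_mul_of_commute (ri_sq hD.1 hm) (ri_sq hD.1 hm') (km.commute hD hR hm hm')
  have hn := ri_conj hD.1 hm g; have hn' := ri_conj hD.1 hm' g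
  have s2 := sq_mul_of_commute (ri_sq hD.1 hn) (ri_sq hD.1 hn') (km'.commute hD hR hn hn')
  rw [← conj_mul]
  refine fun p => h.commute_X hd hx o hZD hH hm mX hn (mul_mem (mul_mem hg mX) (inv_mem hg)) om
    (fun e he k' => (commute_comm hD hm hm' km (km'.mul_mem (ri_sq hD.1 hn)) s2 fun w hw k =>
      (k' w hw).1 (k.commute hD hR hm hw)).symm) ?_
  have := (commute_comm hD hn hn' km' (km.mul_mem (ri_sq hD.1 hm)) s1 fun w hw k =>
    k.commute hD hR hn hw).inv_right
  generalize g * m * g⁻¹ * (g * m' * g⁻¹) = n₂ at s2 this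
  generalize m * m' = n at s1 this
  simpa only [mul_inv_rev, inv_of_sq s1, inv_of_sq s2, mul_assoc] using this.symm

theorem exists_data : ∃ n ζ : G, n = mid d x * mid t x ∧ n ∈ R ∧ n * n = 1 ∧ n * d * n = t ∧
    (∀ p ∈ XX D d x, Commute ζ p) ∧ Commute ζ n ∧ g * n * g⁻¹ * n * (g * n * g⁻¹) = n * ζ ∧
    g * n * g⁻¹ * t * (g * n * g⁻¹) = g * t * g⁻¹ * (d * t) := by
  have hD := h.ot
  have sd := ri_sq hD.1 hd; have sx := ri_sq hD.1 hx; have st := ri_sq hD.1 ht
  have ot := k.opp hD hR hd ht hx (hX mem_XX_right) o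
  have hm := ri_mid_mem hD.1 hd hx o
  have hm' := ri_mid_mem hD.1 ht hx ot
  have km := k.mid (.refl (hX mem_XX_right)) o ot
  have cm := km.commute hD hR hm hm'
  have s1 := sq_mul_of_commute (ri_sq hD.1 hm) (ri_sq hD.1 hm') cm
  have hz := h.comm_central hd hx o hZD hH hg g2 hR hX ht k
  have e1 : mid d x * mid t x * d * (mid d x * mid t x) = t := by
    nth_rewrite 1 [cm.eq]
    calc _ = mid t x * (mid d x * d * mid d x) * mid t x := by simp only [mul_assoc]
      _ = _ := by rw [mid_swap_left sd sx o.2, mid_swap_right st sx ot.2]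
  have km' := km.conj (hX hg)
  have hn := ri_conj hD.1 hm g; have hn' := ri_conj hD.1 hm' g
  have s2 := sq_mul_of_commute (ri_sq hD.1 hn) (ri_sq hD.1 hn') (km'.commute hD hR hn hn')
  have c1 : ∀ y ∈ D, Cg R (mid d x) y → Commute y _ := fun y hy k =>
    commute_comm hD hm hm' km (km'.mul_mem (ri_sq hD.1 hn)) s2 fun w hw k' => (k.symm.trans k').commute hD hR hy hw
  have c2 := (c1 _ hm (.refl km.1)).mul_left (c1 _ hm' km)
  have hn := km.mul_mem (ri_sq hD.1 hm)
  rw [conj_mul] at c2 s2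
  generalize mid d x * mid t x = n at s1 hz e1 c2 s2 hn
  have e2 : g * n * g⁻¹ * n * (g * n * g⁻¹) = n * (n * (g * n * g⁻¹) * n * (g * n * g⁻¹)) := by
    simp only [mul_assoc n, sqc s1]
  refine ⟨_, _, rfl, hn, s1, e1, hz, c2.symm, e2, ?_⟩
  have cg : Commute g d := g2 ▸ (Commute.refl g).mul_right (Commute.refl g)
  have e3 : g * (g * n * g⁻¹) * g⁻¹ = d * n * d := by
    rw [← inv_of_sq sd, inv_of_sq sd]; nth_rewrite 2 [← inv_of_sq sd]; rw [← g2]; group
  have e4 := conj_eq_of_commute (hz g hg).symm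
  rw [← conj_mul, ← conj_mul, ← conj_mul, e3] at e4
  have cd := hz d (mem_XX_left hd (.refl d))
  have e5 : g * t * g⁻¹ = g * n * g⁻¹ * d * (g * n * g⁻¹) := by
    rw [← e1, ← conj_mul, ← conj_mul, conj_eq_of_commute cg]
  rw [e5]
  generalize g * n * g⁻¹ = n₂ at s2 e2 e4 c2 cd
  generalize n * n₂ * n * n₂ = ζ at e2 e4 c2 cd
  have s3 := conj_sq s1 sd
  have sz : ζ * ζ = 1 := by
    have := conj_sq s1 s2
    rwa [e2, mul_assoc, ← mul_assoc ζ, ← c2.eq, mul_assoc, sqc s1] at this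
  have e6 : n₂ * (d * n * d) * n₂ = ζ * (d * n * d) := by
    rw [← e4, mul_assoc _ (d * n * d) (d * n * d), s3, mul_one]
  have e7 : n₂ * (d * t) * n₂ = d * t := by
    calc _ = n₂ * (d * n * d) * n₂ * (n₂ * n * n₂) := by rw [← e1]; simp only [mul_assoc, sqc s2]
      _ = _ := by
        rw [e6, e2, ← e1]
        simp only [mul_assoc, cd.left_comm, c2.symm.left_comm, sz, mul_one]
  calc _ = n₂ * d * n₂ * (n₂ * (d * t) * n₂) := by simp only [mul_assoc, sqc s2, sqc sd]
    _ = _ := by rw [e7]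

theorem prod_mem : g * t * g⁻¹ * (d * t) ∈ D := by
  obtain ⟨n, ζ, -, -, sn, -, -, -, -, e⟩ := h.exists_data hd hx o hZD hH hg g2 hR hX ht k
  exact e ▸ ri_conj' h.ot.1 ht (by rw [conj_mul, sn, mul_one, mul_inv_cancel])

theorem exists_moved (hc : c ∈ D) (c1 : Commute c d) (c2 : Commute c x) (oc : IOpp t c) :
    ∃ t ∈ D, Cg R d t ∧ IOpp t c ∧ ¬ Commute g t := by
  by_contra hn
  have hn' : ∀ t ∈ D, Cg R d t → IOpp t c → Commute g t := fun t ht k o => by_contra fun e => hn ⟨t, ht, k, o, e⟩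
  have hD := h.ot
  have sd := ri_sq hD.1 hd; have sx := ri_sq hD.1 hx; have st := ri_sq hD.1 ht; have sc := ri_sq hD.1 hc
  obtain ⟨n, ζ, en, hn, sn, e1, hz, cz, e2, e3⟩ := h.exists_data hd hx o hZD hH hg g2 hR hX ht k
  have ot := k.opp hD hR hd ht hx (hX mem_XX_right) o
  have hm := ri_mid_mem hD.1 hd hx o
  have hm' := ri_mid_mem hD.1 ht hx ot
  have mX : mid d x ∈ XX D d x := mid_mem (mem_XX_left hd (.refl d)) mem_XX_right
  have km := k.mid (.refl (hX mem_XX_right)) o ot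
  have om := h.opp_mid_conj hd hx o hg g2
  have od := opp_mid_left sd sx o
  have oc' : IOpp c (mid t x) := ot_opp hD hc hm' fun k => ot_nc hD ht hc oc
    (mid_swap_right st sx ot.2 ▸ (k.mul_right c2).mul_right k).symm
  generalize mid d x = m at hm mX km om od en
  generalize mid t x = m' at hm' km oc' en
  have sm := ri_sq hD.1 hm
  have cX : ∀ p ∈ XX D d x, Commute c p := fun p => commute_XX' hc c1 c2
  have cdt := k.commute hD hR hd ht
  have hn2 := conj_mem_of_nm (hX hg) hn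
  have s2 : g * n * g⁻¹ * (g * n * g⁻¹) = 1 := by rw [conj_mul, sn, mul_one, mul_inv_cancel]
  have e4 : g * (g * n * g⁻¹) * g⁻¹ = d * n * d := by
    rw [← inv_of_sq sd, inv_of_sq sd]; nth_rewrite 2 [← inv_of_sq sd]; rw [← g2]; group
  have e5 : g * n * g⁻¹ = g * m' * g⁻¹ * (g * m * g⁻¹) := by rw [en, (km.commute hD hR hm hm').eq, conj_mul]
  have cn : Commute n m := en ▸ (Commute.refl m).mul_left (km.commute hD hR hm hm').symm
  rw [conj_eq_of_commute (hn' t ht k oc), ← cdt.left_comm, st, mul_one] at e3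
  have hgn : ∀ y, g * (n * (g * n * g⁻¹)) * g⁻¹ = y → g * n * g⁻¹ * (d * n * d) = y := fun y e => by
    rw [← e, ← conj_mul, e4]
  generalize g * n * g⁻¹ = n₂ at e2 e3 hn2 s2 e5 hgn
  have hν := R.mul_mem hn2 hn
  have iν : (n₂ * n)⁻¹ = n * n₂ := by rw [mul_inv_rev, inv_of_sq sn, inv_of_sq s2]
  have cν : Commute (n₂ * n) d := mul_inv_eq_iff_eq_mul.1 (by
    rw [iν]
    calc _ = n₂ * (n * d * n) * n₂ := by simp only [mul_assoc]
      _ = _ := by rw [e1, e3])
  have cE : ∀ e ∈ D, SE D d e → Commute (n₂ * n) e := fun e he k => by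
    have k' := k.conj hD.1 (n₂ * n)
    rw [conj_eq_of_commute cν] at k'
    have he' := ri_conj hD.1 he (n₂ * n)
    refine mul_inv_eq_iff_eq_mul.1 (Eq.symm (by_contra fun hne => ?_))
    have m := h.mul e he _ he' (k.symm.trans k') hne
    have c := (k.symm.trans k').commute he'
    exact not_mem_of_opp hD hR m hx (hX mem_XX_right) ((k.trans (se_of_line hD he m
      ((Commute.refl e).mul_right c) (by rwa [sqc (ri_sq hD.1 he)]))).opp hD hd m hx o)
      ((Cg.conj_mem (hX (mem_XX_left he k)) hν).mul_mem (ri_sq hD.1 he))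
  have hw := ri_conj' hD.1 hm sd
  have kw := Cg.conj_mem (hX (mul_mem (mul_mem (mem_XX_left hd (.refl d)) mX) (mem_XX_left hd (.refl d)))) hν
  have hw' := ri_conj hD.1 hw (n₂ * n)
  have ow := od.sq sm sd
  have ow' := (kw.opp hD hR hw hw' hm (hX mX) ow.symm).symm
  have ht' := ri_mid_mem hD.1 hm hw' ow'
  have kt := (Cg.refl (hX mX)).mid kw ow ow'
  rw [mid_conj_self od sm sd] at kt
  have e6 := mid_swap_left sm (ri_sq hD.1 hw') ow'.2
  generalize mid m (n₂ * n * (d * m * d) * (n₂ * n)⁻¹) = t' at ht' kt e6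
  have st' := ri_sq hD.1 ht'
  have c3 : Commute (d * (n₂ * n)⁻¹ * t') g := h.commute_X hd hx o hZD hH hd (mem_XX_left hd (.refl d)) hm mX
    od.symm (fun e he k => ((k.commute he).mul_left (cE e he k).inv_left).mul_left
      ((k t' ht').1 (kt.commute hD hR hd ht')).symm) (mul_inv_eq_iff_eq_mul.1 (by
        calc _ = d * ((n₂ * n)⁻¹ * (t' * m * t') * (n₂ * n)) * d := by
              simp only [mul_inv_rev, inv_inv, inv_of_sq sd, inv_of_sq st', mul_assoc]
          _ = _ := by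
              rw [e6]; generalize n₂ * n = ν
              simp only [mul_assoc, inv_mul_cancel_left, sqc sd, sd, mul_one])) hg
  have o1 : IOpp t' c := (ot_opp hD hc ht' fun k => by
    have k1 : Commute (n₂ * n * (d * m * d) * (n₂ * n)⁻¹) c := e6 ▸ ((k.mul_right (cX m mX)).mul_right k).symm
    have k2 := (commute_conj_iff.1 k1).symm
    have k3 : Commute ((n₂ * n)⁻¹ * c * (n₂ * n)) d := (cν.inv_left.mul_left c1).mul_left cν
    have k4 := (k3.mul_right k2).mul_right k3
    rw [conj_conj sd, iν] at k4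
    have k5 := (cn.mul_left k4).mul_left cn
    have c4 := cX _ (mul_mem (mul_mem hg mX) (inv_mem hg))
    have hu := ri_conj hD.1 hm g; have hu' := ri_conj hD.1 hm' g
    have km' := km.conj (hX hg)
    have k6 : n * (n * n₂ * c * (n₂ * n)) * n = g * m' * g⁻¹ * c * (g * m' * g⁻¹) := by
      have c5 := km'.commute hD hR hu hu'
      have su := ri_sq hD.1 hu
      simp only [mul_assoc n, sqc sn, mul_assoc _ n n, sn, mul_one, ← mul_assoc _ n₂ n]
      rw [e5]
      generalize g * m * g⁻¹ = u at c4 c5 su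
      generalize g * m' * g⁻¹ = u' at c5
      simp only [mul_assoc, c4.symm.left_comm, c5.left_comm, su, mul_one]
    have o2 := oc'.conj g
    rw [conj_eq_of_commute (cX g hg).symm] at o2
    exact ot_nc hD hu' hm (km'.opp hD hR hu hu' hm (hX mX) om.symm)
      (commute_of_opp_conj o2 sc (ri_sq hD.1 hu') (cX m mX).symm (k6 ▸ k5).symm).symm).symm
  have cg : Commute g d := g2 ▸ (Commute.refl g).mul_right (Commute.refl g)
  have c4 := (cg.mul_right c3.symm).mul_right (hn' t' ht' kt o1)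
  rw [iν, mul_assoc, mul_assoc, st', mul_one, sqc sd] at c4
  have e7 := hgn _ (conj_eq_of_commute c4)
  have e8 : d * t = ζ := by
    calc _ = n₂ * (n₂ * (d * n * d)) * n := by rw [← e1]; simp only [mul_assoc, sqc s2]
      _ = _ := by rw [e7, ← mul_assoc, e2, ← cz.eq, mul_assoc, sn, mul_one]
  exact ot_nc hD hd hx o (commute_left_of_mul hD hd ht (fun e => ot_nc hD ht hc oc (e ▸ c1.symm)) hx
    (e8 ▸ hz x mem_XX_right))

omit hR hX ht k in
theorem false_of_four (hE : ∀ e ∈ D, SE D d e → Commute g e) (hc : c ∈ D) (c1 : Commute c d) (c2 : Commute c x)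
    (hb : b ∈ D) (c3 : Commute d b) (ob : IOpp b x) (oc : IOpp b c) : False := by
  have hD := h.ot
  have sd := ri_sq hD.1 hd; have sx := ri_sq hD.1 hx; have sc := ri_sq hD.1 hc
  have dX : d ∈ XX D d x := mem_XX_left hd (.refl d)
  obtain ⟨R, hR, hX, -, e, he, k, hde⟩ := h.exists_cong hd hx o hZD hH hb c3 ob
  obtain ⟨t, ht, kt, ot, ng⟩ := h.exists_moved hd hx o hZD hH hg g2 hR hX he ⟨hX dX, by rwa [inv_of_sq sd]⟩ hc c1 c2
    (k.opp hD hb he hc oc)
  have hp := h.prod_mem hd hx o hZD hH hg g2 hR hX ht kt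
  have st := ri_sq hD.1 ht
  have ht' := ri_conj hD.1 ht g
  have cg := hE d hd (.refl d)
  have kt' := kt.conj (hX hg)
  rw [conj_eq_of_commute cg] at kt'
  have c4 := kt.commute hD hR hd ht
  have c5 := kt'.commute hD hR hd ht'
  have c6 := (kt.symm.trans kt').commute hD hR ht ht'
  rw [← c5.left_comm] at hp
  have c7 : Commute g (d * (g * t * g⁻¹ * t)) := cg.mul_right (mul_inv_eq_iff_eq_mul.1 (by
    rw [← conj_mul, show g * (g * t * g⁻¹) * g⁻¹ = g * g * t * (g * g)⁻¹ by group, g2, conj_eq_of_commute c4,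
      c6.eq]))
  have op : IOpp (d * (g * t * g⁻¹ * t)) c := ot_opp hD hp hc fun k => ot_nc hD ht hc ot
    (commute_right_of_mul hD ht' ht (fun e => ng (mul_inv_eq_iff_eq_mul.1 e)) hc
      (by simpa only [sqc sd] using c1.symm.mul_left k))
  have hμ := ri_mid_mem hD.1 hp hc op
  have sμ := ri_sq hD.1 hμ
  have c8 : Commute g _ := commute_mid c7 (commute_XX' hc c1 c2 hg).symm
  have c9 : Commute d _ := commute_mid ((Commute.refl d).mul_right (c5.mul_right c4)) c1.symm
  have e1 := mid_swap_left (ri_sq hD.1 hp) sc op.2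
  generalize mid (d * (g * t * g⁻¹ * t)) c = μ at hμ sμ c8 c9 e1
  have hr := ri_conj' hD.1 ht sμ
  have cr : Commute d (μ * t * μ) := (c9.mul_right c4).mul_right c9
  have e2 : d * c = g * (μ * t * μ) * g⁻¹ * (μ * t * μ) := by
    rw [← e1]
    simp only [mul_assoc, c9.symm.left_comm, sqc sd, c8.left_comm, c8.inv_left.left_comm, sqc sμ]
  generalize μ * t * μ = r at hr cr e2
  have sr := ri_sq hD.1 hr
  rcases ot_tri hD hr hx with k' | or
  · rw [conj_eq_of_commute (commute_XX' hr cr.symm k' hg).symm, sr] at e2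
    exact ot_nc hD hd hx o (eq_of_mul_eq_one sd e2 ▸ c2)
  obtain ⟨R', hR', -, hX', e', he', k', hre⟩ := h.exists_cong hr hx or hZD hH hd cr.symm o
  have kr : Cg R' e' r := Cg.symm ⟨by
    simpa only [mul_assoc, ri_sq hD.1 he', mul_one] using
      mul_mem (Subgroup.le_normalizer hre) (hX' (mem_XX_left he' k')), by rwa [inv_of_sq sr]⟩
  have kr' := kr.conj (hX' hg)
  rw [conj_eq_of_commute (hE e' he' k')] at kr'
  have m := (kr'.symm.trans kr).mul_mem (ri_sq hD.1 (ri_conj hD.1 hr g))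
  rw [← e2] at m
  have := (Cg.conj_mem (hX' mem_XX_right) m).commute hD hR' hx (ri_conj hD.1 hx _)
  rw [show d * c * x * (d * c)⁻¹ = d * (c * x * c⁻¹) * d by simp only [mul_inv_rev, inv_of_sq sd, mul_assoc],
    conj_eq_of_commute c2] at this
  exact ot_nc hD hx (ri_conj' hD.1 hx sd) (o.symm.sq sx sd) this

end OC

section

variable {G : Type*} [Group G] {D : Set G} {a b c d e s u x y : G}

theorem exists_opp_opp (hD : IsOddTranspositionSet D) (h : RIC D) (hd : d ∈ D) (hb : b ∈ D) :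
    ∃ y ∈ D, IOpp d y ∧ IOpp b y := by
  by_contra hn
  have : ∀ u, Relation.ReflTransGen (OddAdj D) d u → ∀ y ∈ D, IOpp u y → ¬ IOpp b y := fun u hu => by
    induction hu with
    | refl => exact fun y hy o o' => hn ⟨y, hy, o, o'⟩
    | @tail u y _ o ih =>
      intro y' hy' o' ob
      obtain ⟨hu, hy, o⟩ := o
      have sy := ri_sq hD.1 hy; have sy' := ri_sq hD.1 hy'
      have hm := ri_mid_mem hD.1 hy hy' o'
      have c1 := ot_comm hD hu hy' fun o => ih y' hy' o ob
      rcases ot_tri hD hu hm with c | om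
      · exact ot_nc hD hu hy o (mid_swap_right sy sy' o'.2 ▸ (c.mul_right c1).mul_right c)
      · have c := ot_comm hD hb hm (ih _ hm om)
        exact ot_nc hD hb hy' ob (mid_swap_left sy sy' o'.2 ▸
          (c.mul_right (ot_comm hD hb hy (ih y hy o))).mul_right c)
  obtain ⟨y, hy, o⟩ := h.opp b hb
  exact this b (h.connected d hd b hb) y hy o o

variable [Finite G] (h : OC D)
include h

theorem OC.se_of_block (hd : d ∈ D) (hx : x ∈ D) (o : IOpp d x)
    (H : ∀ c ∈ D, Commute c d → Commute c x → ∀ b ∈ D, Commute d b → IOpp b x → Commute c b)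
    (ha : a ∈ D) (c : Commute d a) (oa : IOpp a x) : SE D d a := by
  have hD := h.ot
  refine se_of_subset hD h.cl hd ha fun b hb cb => ?_
  rcases ot_tri hD hb hx with k | ob
  · exact (H b hb cb.symm k a ha c oa).symm
  let S := {s | s ∈ D ∧ Commute d s ∧ IOpp s x}
  have hS : ∀ s ∈ S, s ∈ D ∧ IOpp s x := fun s hs => ⟨hs.1, hs.2.2⟩
  have k : ∀ e ∈ D, SE D d e → e ∈ S := fun e he k => ⟨he, k.commute he, k.opp hD hd he hx o⟩
  obtain ⟨e, he, ce, hde⟩ := h.lined d hd
  obtain ⟨h1, h2⟩ := disc_cls hD hx hS (k d hd (.refl d)) (k e he (se_of_line hD hd he ce hde)) ce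
    (k _ hde (se_of_line hD hd hde ((Commute.refl d).mul_right ce) (by rwa [sqc (ri_sq hD.1 hd)])))
    fun c hc _ c1 c2 s hs => H c hc c1 c2 s hs.1 hs.2.1 hs.2.2
  have m := fun s hs => mem_cls_of_opp hD hx (hxV := mem_cl_right) (hS s hs).1 (mem_cl_left hs) (hS s hs).2
  exact commute_coe.2 (commute_of_disc (ot_cls hD hx hS) h1 h2 (m a ⟨ha, c, oa⟩) (m d (k d hd (.refl d)))
    (m b ⟨hb, cb, ob⟩) (commute_coe.1 c.symm) (commute_coe.1 cb))

theorem OC.exists_mid_block (hd : d ∈ D) (hx : x ∈ D) (o : IOpp d x)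
    (H : ∀ c ∈ D, Commute c d → Commute c x → ∀ b ∈ D, Commute d b → IOpp b x → Commute c b)
    (hu : u ∈ D) (c1 : Commute u d) (c2 : Commute u x) (hy : y ∈ D) (ou : IOpp u y)
    (oy : IOpp y (u * d * y * (u * d))) :
    ∃ s ∈ D, Commute u s ∧ Commute d s ∧ Commute x s ∧ Commute (u * d * s) y := by
  have hD := h.ot
  have su := ri_sq hD.1 hu; have sd := ri_sq hD.1 hd; have sy := ri_sq hD.1 hy
  have s1 := sq_mul_of_commute su sd c1
  have hs := ri_mid_mem hD.1 hy (ri_conj' hD.1 hy s1) oy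
  have c3 := commute_mid_conj s1 sy oy
  have c4 := commute_mul_mid s1 sy oy
  generalize mid y (u * d * y * (u * d)) = s at hs c3 c4
  have hne : u ≠ d := fun e => oy.1 (by rw [e, sd, one_mul, mul_one])
  have c5 := commute_left_of_mul hD hu hd hne hs c3
  have c6 := commute_right_of_mul hD hu hd hne hs c3
  refine ⟨s, hs, c5, c6, (ot_comm hD hs hx fun os => ?_).symm, c4⟩
  have k := h.se_of_block hd hx o H hs c6 os
  refine ot_nc hD hu hy ou ?_
  by_cases e : d = s
  · rwa [← e, mul_assoc, sd, mul_one] at c4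
  have m := h.mul d hd s hs k e
  refine commute_left_of_mul hD hu m (fun e' => ot_nc hD m hx ?_ (e' ▸ c2)) hy (by rwa [← mul_assoc])
  exact (se_of_line hD hd m ((Commute.refl d).mul_right c6) (by rwa [sqc sd])).opp hD hd m hx o

theorem OC.exists_pair (hc : IsConnectedSet (CommAdj D) D) (hd : d ∈ D) (hx : x ∈ D) (o : IOpp d x) :
    ∃ c ∈ D, Commute c d ∧ Commute c x ∧ ∃ b ∈ D, Commute d b ∧ IOpp b x ∧ IOpp b c := by
  by_contra hn
  have hD := h.ot
  have sd := ri_sq hD.1 hd; have sx := ri_sq hD.1 hx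
  have H : ∀ c ∈ D, Commute c d → Commute c x → ∀ b ∈ D, Commute d b → IOpp b x → Commute c b :=
    fun c hc c1 c2 b hb c3 ob => (ot_comm hD hb hc fun o => hn ⟨c, hc, c1, c2, b, hb, c3, ob, o⟩).symm
  have H' : ∀ c ∈ D, Commute c x → Commute c d → ∀ b ∈ D, Commute x b → IOpp b d → Commute c b :=
    fun c hc c1 c2 b hb c3 ob => by
      have sm := mid_sq (a := d) sd sx
      have k := commute_conj' (H c hc c2 c1 _ (ri_conj' hD.1 hb sm)
        (by simpa only [mid_swap_right sd sx o.2] using commute_conj' c3 sm)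
        (by simpa only [mid_swap_left sd sx o.2] using ob.conj' sm)) sm
      rwa [conj_conj sm, conj_eq_of_commute' (commute_mid c2 c1).symm sm] at k
  obtain ⟨c, hc', c1, c2⟩ := exists_common hD h.lined hc hd hx
  obtain ⟨y, hy, od, oc⟩ := exists_opp_opp hD ⟨hD.1, h.cl, fun a ha => by
    obtain ⟨g, rfl⟩ := h.cl d hd a ha
    exact ⟨_, ri_conj hD.1 hx g, o.conj g⟩⟩ hd hc'
  have ox := ot_opp hD hx hy fun k => ot_nc hD hc' hy oc (H' c hc' c2 c1 y hy k od.symm)
  obtain ⟨e, he, ce, hce⟩ := h.lined c hc'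
  obtain ⟨u, hu, ku, -, ou⟩ := exists_opp_of_four hD hc' he hce ce hy oc hd c1
  have su := ri_sq hD.1 hu
  obtain ⟨e', he', ce', hue⟩ := h.lined u hu
  have se' := ri_sq hD.1 he'
  have ke := ku.trans (se_of_line hD hu he' ce' hue)
  obtain ⟨v, hv, kv, ev, ov⟩ := exists_opp_of_four hD he' (ce'.eq ▸ hue) (by rwa [sqc se'])
    ((Commute.refl e').mul_right ce'.symm) hy (ke.opp hD hc' he' hy oc) hx ((ke x hx).1 c2)
  replace kv := ke.trans kv
  have hne : u ≠ v := by
    rintro rfl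
    rcases ev with e | e
    · exact ne_of_line hD.1 he' hue e
    · exact ri_ne_one hD.1 he' (by simpa using e)
  obtain ⟨s, hs, s1, s2, s3, s4⟩ := h.exists_mid_block hd hx o H hu ((ku d hd).1 c1) ((ku x hx).1 c2) hy
    (ku.opp hD hc' hu hy oc) ou
  obtain ⟨t, ht, t1, t2, t3, t4⟩ := h.exists_mid_block hx hd o.symm H' hv ((kv x hx).1 c2) ((kv d hd).1 c1) hy
    (kv.opp hD hc' hv hy oc) ov
  have kuv := ku.symm.trans kv
  have hw := h.mul u hu v hv kuv hne
  have kw := se_of_line hD hu hw ((Commute.refl u).mul_right (kuv.commute hv)) (by rwa [sqc su])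
  have e1 : u * d * s * (v * x * t) = u * v * (d * x * (s * t)) := by
    simp only [mul_assoc, ((kuv s hs).1 s1).symm.left_comm, ((kv d hd).1 c1).symm.left_comm, s3.symm.left_comm]
  have c3 := s4.mul_left t4
  rw [e1] at c3
  have c4 : Commute (u * v) (d * x) := ((kw d hd).1 ((ku d hd).1 c1)).mul_right ((kw x hx).1 ((ku x hx).1 c2))
  have c5 : Commute (u * v) (s * t) := ((kw s hs).1 s1).mul_right ((kw t ht).1 ((kuv t ht).2 t1))
  have c6 : Commute (d * x) (s * t) := (s2.mul_right t3).mul_left (s3.mul_right t2)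
  have sw := ri_sq hD.1 hw
  rcases ot_tri hD hs ht with k | k
  · have := c3.pow_left 2
    rw [(c4.mul_right c5).mul_pow, c6.mul_pow, pow_two (u * v), sw, pow_two (s * t),
      sq_mul_of_commute (ri_sq hD.1 hs) (ri_sq hD.1 ht) k, one_mul, mul_one] at this
    exact ot_nc hD hd hy od (commute_left_of_mul hD hd (ri_conj' hD.1 hd sx) (o.sq sd sx).1 hy
      (by simpa only [pow_two, mul_assoc] using this))
  · obtain ⟨j, hj⟩ := o.2.mul k.2
    have := c3.pow_left (2 * j + 1)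
    rw [(c4.mul_right c5).mul_pow, c6.mul_pow, pow_succ (u * v), pow_mul, pow_two, sw, one_pow, one_mul, ← hj,
      pow_mul, pow_orderOf_eq_one, one_pow, mul_comm (orderOf _), pow_mul, pow_orderOf_eq_one, one_pow, mul_one,
      mul_one] at this
    exact ot_nc hD hw hy ((ku.trans kw).opp hD hc' hw hy oc) this

end

/-- S5052, conditionally. -/
theorem s5052_of {G : Type u} [Group G] [Finite G] {D : Set G} (hZD : ZD.{u}) (hH : H51.HubSimple.{u})
    (hD : IsOddTranspositionSet D) (hcl : IsRootInvolutionClass D) (hO : pCore 2 G = ⊥)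
    (hDD : (D ∩ commutingProducts D).Nonempty) (hc : IsConnectedSet (CommAdj D) D) {d : G} (hd : d ∈ D) :
    (sameCommutingSubgroup D d : Set G) = sameCommutingClass D d ∪ {1} ∧
    ∀ x ∈ oddPartners D d, ∃ (F : Type) (_ : Field F) (_ : Fintype F), CharP F 2 ∧ 4 ≤ Fintype.card F ∧
      Fintype.card F = Nat.card (sameCommutingSubgroup D d) ∧
      Nonempty (XX D d x ≃* Matrix.ProjectiveSpecialLinearGroup (Fin 2) F) := by
  have h : OC D := ⟨hD, hcl.2.2, lined_of hD.1 hcl.2.2 hDD, fun a ha b hb => mul_mem_of_se hD hcl.2.2 hO ha hb⟩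
  refine ⟨Set.ext fun w => ?_, fun x hx => ?_⟩
  · rw [SetLike.mem_coe, mem_E_iff hD h.mul, or_comm, ← mem_scc]; rfl
  obtain ⟨hx, o⟩ := mem_oddPartners.1 hx
  rcases ((h.hl hd hx o).main hZD hH).2.2 with ⟨F, _, _, h1, h2, h3, h4⟩ | ⟨-, g, g2, hg⟩
  · refine ⟨F, _, _, h1, h2, h3.trans (Nat.card_eq_of_bijective (fun e => ⟨e.1.1, (mem_E_iff hD h.mul).2
      (e.2.imp (congrArg Subtype.val) fun k => ⟨k.1, h.se_X hd hx o k.1 e.1.2 (commute_coe.2 k.2)⟩)⟩)
      ⟨fun e e' k => Subtype.ext (Subtype.ext (Subtype.mk.inj k)), fun w => ?_⟩), h4⟩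
    rcases (mem_E_iff hD h.mul).1 w.2 with e | ⟨hw, k⟩
    · exact ⟨⟨1, Or.inl rfl⟩, Subtype.ext e.symm⟩
    · exact ⟨⟨⟨w, mem_XX_left hw k⟩, Or.inr ⟨hw, commute_coe.1 (k.commute hw)⟩⟩, rfl⟩
  · obtain ⟨c, hc', c1, c2, b, hb, c3, ob, oc⟩ := h.exists_pair hc hd hx o
    exact (h.false_of_four hd hx o hZD hH g.2 (congrArg Subtype.val g2) (fun e he k =>
      commute_coe.2 (hg ⟨e, mem_XX_left he k⟩ he (commute_coe.1 (k.commute he)))) hc' c1 c2 hb c3 ob oc).elim

end H66.RI
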