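import Cfsg.Agent.H62.TDW
import Cfsg.Agent.H67.GAInd

/-! STD-3D4 (row S3136): `JobW0`, the germ of the wreath case gives `L₁ × L₂`. -/

set_option autoImplicit false
set_option linter.unusedSectionVars false

namespace H66.TDW0

open H64.SG (Cz Cs Ns cjs mem_Cs mem_Cz)
open H81.SU (cje cje_apply)
open H62.TW H98 Subgroup
open scoped commutatorElement

universe u

/-- A central extension of a perfect group with trivial multiplier has a section. -/
theorem exists_sec {X : Type} [Group X] (hm : FM.{u} X) (hp : commutator X = ⊤) {E : Type u}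
    [Group E] [Finite E] (π : E →* X) (hs : Function.Surjective π) (hk : π.ker ≤ center E) :
    ∃ φ : X →* E, ∀ a, π (φ a) = a := by
  have h1 : Function.Surjective (π.comp (commutator E).subtype) := by
    rw [← MonoidHom.range_eq_top, MonoidHom.range_comp, range_subtype, commutator_def,
      map_commutator, map_top_of_surjective π hs, ← commutator_def, hp]
  have h2 : commutator E ≤ ⁅commutator E, commutator E⁆ := commutator_le.2 fun a _ b _ => by
    obtain ⟨g, g1⟩ := h1 (π a)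
    obtain ⟨k, k1⟩ := h1 (π b)
    have g2 := mem_center_iff.1 (hk (show π (a * g.1⁻¹) = 1 by
      rw [map_mul, map_inv, ← g1]; exact mul_inv_cancel _))
    have k2 := mem_center_iff.1 (hk (show π (b * k.1⁻¹) = 1 by
      rw [map_mul, map_inv, ← k1]; exact mul_inv_cancel _))
    have e1 : ⁅a, b⁆ = ⁅g.1, b⁆ := by
      rw [commutatorElement_def, commutatorElement_def, show a * b * a⁻¹ =
        a * g.1⁻¹ * (g.1 * b * g.1⁻¹) * (a * g.1⁻¹)⁻¹ by group, ← g2, mul_inv_cancel_right]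
    have e2 : ⁅g.1, b⁆ = ⁅g.1, k.1⁆ := by
      rw [commutatorElement_def, commutatorElement_def, show g.1 * b * g.1⁻¹ * b⁻¹ =
        g.1 * (b * k.1⁻¹ * (k.1 * g.1⁻¹ * k.1⁻¹) * (b * k.1⁻¹)⁻¹) by group, ← k2,
        mul_inv_cancel_right]
      group
    rw [e1, e2]
    exact commutator_mem_commutator g.2 k.2
  have h3 := hm _ _ h1 (fun g hg => mem_center_iff.2 fun a => Subtype.ext
    (mem_center_iff.1 (hk hg) a)) (map_injective (subtype_injective _) (by
      rw [_root_.commutator_def (commutator E), map_commutator, ← MonoidHom.range_eq_map, range_subtype]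
      exact le_antisymm (commutator_le_self _) h2))
  let f := MulEquiv.ofBijective _ ⟨h3, h1⟩
  exact ⟨(commutator E).subtype.comp f.symm.toMonoidHom, fun a => f.apply_symm_apply a⟩

theorem jobW0 : JobW0.{u} := by
  intro X _ _ d wf G _ _ e t h z y w
  have := wf.i.simple
  have na : ¬ ∀ a b : X, a * b = b * a := fun k =>
    w.ne (mem_bot.1 (wf.i.cen ▸ mem_center_iff.2 fun a => k a z))
  have hp : commutator X = ⊤ := (IsSimpleGroup.eq_bot_or_eq_top_of_normal _ inferInstance).resolve_left fun k =>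
    na fun a b => commutatorElement_eq_one_iff_mul_comm.1
      (mem_bot.1 (k ▸ commutator_mem_commutator (mem_top a) (mem_top b)))
  obtain ⟨L, hL⟩ : ∃ L, L = closure (Set.range fun g => e g * y * (e g)⁻¹) := ⟨_, rfl⟩
  have y0 : ∀ g, e g * y * (e g)⁻¹ ∈ L := fun g => hL ▸ subset_closure ⟨g, rfl⟩
  have y1 : y ∈ L := by simpa using y0 1
  have c1 : L ≤ Cs (cj t L) := by
    rw [hL, cj, MonoidHom.map_closure, closure_le]
    rintro _ ⟨g, rfl⟩
    refine H64.SG.mem_Cs_closure.2 ?_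
    rintro _ ⟨_, ⟨k, rfl⟩, rfl⟩
    have := (w.comm (k⁻¹ * g)).map (MulAut.conj (e k))
    change t * (e k * y * (e k)⁻¹) * t⁻¹ * _ = _ * (t * (e k * y * (e k)⁻¹) * t⁻¹)
    rw [← conj_mul, ← conj_mul, ← conj_inv, h.conj_eq]
    simpa [mul_assoc] using this.symm.eq
  have n1 : ∀ g, e g ∈ Ns L := fun g => mem_normalizer_of_cj_le (by
    rw [hL, cj, MonoidHom.map_closure, closure_le]
    rintro _ ⟨_, ⟨k, rfl⟩, rfl⟩
    exact subset_closure ⟨g * k, by simp [mul_assoc]⟩)
  have n2 : ∀ g, e g ∈ Ns (cj t L) := fun g => by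
    rw [← H64.SG.cj_Ns, ← h.conj_eq]; exact conj_mem_cj (n1 g)
  have tt : cj t (cj t L) = L := (cj_cj t t L).trans (by rw [h.inv.1, cj_one])
  have nc : ∀ A : Subgroup G, (∀ g, e g ∈ Ns A) → A.comap e = ⊥ ∨ A.comap e = ⊤ := fun A hA =>
    IsSimpleGroup.eq_bot_or_eq_top_of_normal _ ⟨fun a ha b => by
      simpa using conj_mem_of_mem_normalizer (hA b) ha⟩
  have s1 : ∀ g, e g ∈ L ⊔ cj t L := fun g => by
    rcases nc (L ⊔ cj t L) fun g => le_normalizer_sup (zpowers_le.2 (n1 g)) (zpowers_le.2 (n2 g))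
      (mem_zpowers _) with k | k
    · exact absurd (mem_bot.1 (k ▸ show e z ∈ _ from w.dec ▸ mul_mem (mem_sup_left y1)
        (mem_sup_right (conj_mem_cj y1)))) w.ne
    · exact (k ▸ mem_top g : g ∈ (L ⊔ cj t L).comap e)
  have u1 : ∀ g, e g ∈ cj t L → g = 1 := fun g hg => by
    rcases nc _ n2 with k | k
    · exact mem_bot.1 (k ▸ hg)
    · have k1 : ∀ a, e a ∈ cj t L := fun a => (k ▸ mem_top a : a ∈ (cj t L).comap e)
      refine absurd (fun a b => h.inj ?_) na
      rw [map_mul, map_mul]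
      exact c1 (tt.le (h.conj_eq b ▸ conj_mem_cj (k1 b))) _ (k1 a)
  have u2 : ∀ {l g g'}, l⁻¹ * e g ∈ cj t L → l⁻¹ * e g' ∈ cj t L → g = g' := fun k1 k2 =>
    inv_mul_eq_one.1 (u1 _ (by simpa [mul_assoc] using mul_mem (inv_mem k1) k2))
  have m1 : ∀ {l l' g g'}, l' ∈ L → l⁻¹ * e g ∈ cj t L → l'⁻¹ * e g' ∈ cj t L →
      (l * l')⁻¹ * e (g * g') ∈ cj t L := fun {l l' g g'} k0 k1 k2 => by
    have := mul_mem k1 k2
    rwa [← mul_assoc, c1 (inv_mem k0) _ k1, ← mul_assoc, ← mul_inv_rev, mul_assoc, ← map_mul] at this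
  have ex : ∀ l : L, ∃ g, l.1⁻¹ * e g ∈ cj t L := fun ⟨l, hl⟩ => by
    rw [hL] at hl
    induction hl using closure_induction with
    | mem _ k =>
      obtain ⟨g, rfl⟩ := k
      refine ⟨g * z * g⁻¹, ?_⟩
      have := conj_mem_of_mem_normalizer (n2 g) (conj_mem_cj (g := t) y1)
      rw [map_mul, map_mul, map_inv, w.dec]
      simpa [mul_assoc] using this
    | one => exact ⟨1, by simp⟩
    | mul a b _ k2 k3 k4 =>
      obtain ⟨g, k3⟩ := k3 (hL ▸ ‹_›)
      obtain ⟨g', k4⟩ := k4 (hL ▸ k2)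
      exact ⟨_, m1 (hL ▸ k2) k3 k4⟩
    | inv a k1 k2 =>
      obtain ⟨g, k2⟩ := k2 (hL ▸ k1)
      refine ⟨g⁻¹, ?_⟩
      have k3 := conj_mem_of_mem_normalizer (n2 g) (inv_mem k2)
      simpa [mul_assoc] using k3
  choose p hp' using ex
  let π : L →* X := MonoidHom.mk' p fun a b => u2 (hp' _) (m1 b.2 (hp' a) (hp' b))
  obtain ⟨φ, hφ⟩ := exists_sec wf.m hp π (fun g => by
    obtain ⟨a, ha, b, hb, k⟩ := (mem_sup_left_norm (c1.trans (H64.SG.Cs_le_Ns _))).1 (s1 g)
    exact ⟨⟨a, ha⟩, u2 (hp' _) (by rwa [k, inv_mul_cancel_left])⟩) fun l hl =>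
      mem_center_iff.2 fun a => Subtype.ext (by
        have k := hp' l
        rw [show p l = 1 from hl, map_one, mul_one, inv_mem_iff] at k
        exact (c1 a.2 _ k).symm)
  let e₁ := L.subtype.comp φ
  have a1 : ∀ a, e₁ a ∈ L := fun a => (φ a).2
  have a2 : ∀ a, cje t e₁ a ∈ cj t L := fun a => conj_mem_cj (a1 a)
  have a3 : ∀ a, (e₁ a)⁻¹ * e a ∈ cj t L := fun a => by
    have := hp' (φ a)
    rwa [show p (φ a) = a from hφ a] at this
  have a4 : ∀ a, (cje t e₁ a)⁻¹ * e a ∈ L := fun a => by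
    have := tt.le (conj_mem_cj (a3 a))
    rwa [← conj_mul, ← conj_inv, h.conj_eq] at this
  have cm : ∀ a b, e₁ a * cje t e₁ b = cje t e₁ b * e₁ a := fun a b => (c1 (a1 a) _ (a2 b)).symm
  have key : ∀ a, ∀ g ∈ L ⊔ cj t L, Commute (e₁ a * cje t e₁ a * (e a)⁻¹) g := fun a g hg => by
    have k1 : e₁ a * cje t e₁ a * (e a)⁻¹ ∈ L := by
      simpa [mul_assoc] using mul_mem (a1 a) (conj_mem_of_mem_normalizer (n1 a) (inv_mem (a4 a)))
    have k2 : e₁ a * cje t e₁ a * (e a)⁻¹ ∈ cj t L := by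
      rw [cm]
      simpa [mul_assoc] using mul_mem (a2 a) (conj_mem_of_mem_normalizer (n2 a) (inv_mem (a3 a)))
    exact mem_Cz.1 ((sup_le (fun b hb => mem_Cz.2 (c1 hb _ k2))
      (fun b hb => mem_Cz.2 (c1 k1 b hb).symm) : _ ≤ Cz _) hg)
  refine ⟨e₁, cje t e₁, fun a b k => ?_, cm, fun a => ?_, fun _ => rfl⟩
  · rw [← hφ a, ← hφ b, show φ a = φ b from Subtype.ext k]
  · exact (DFunLike.congr_fun (H67.GA.hom_eq_of_central' hp (MonoidHom.mk' (fun a => e₁ a * cje t e₁ a)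
      fun a b => by rw [map_mul, map_mul, mul_assoc, mul_assoc, ← mul_assoc (e₁ b), cm, mul_assoc]) e
      (fun a b => key a _ (s1 b)) fun a b => key a _
        (mul_mem (mem_sup_left (a1 b)) (mem_sup_right (a2 b)))) a).symm

end H66.TDW0
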