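import Cfsg.Agent.H66.QGB1
import Cfsg.Agent.H98.CoLem
import Cfsg.Agent.H57.PslAutTwo

/-! Facts on `L₂(2ⁿ)` (slot LF of `blueprints/QTGEN.md`), part 1: coordinates. -/

set_option autoImplicit false

namespace H66.QG

open Subgroup Cfsg H98 H96 H96.CG H11.QG MatrixGroups H11
open scoped commutatorElement

universe u

section Field

variable {F : Type} [Field F]

theorem pj_inj (h2 : (2 : F) = 0) : Function.Injective (H52.pj F) := fun g h e => by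
  rcases H52.pj_eq_iff.1 e with e | e
  · exact e
  · rw [e]
    refine Matrix.SpecialLinearGroup.ext _ _ fun i j => ?_
    simp only [Matrix.SpecialLinearGroup.coe_neg, Matrix.neg_apply]
    linear_combination (-(h i j)) * h2

theorem sl_normal [Fintype F] (h2 : (2 : F) = 0) (h4 : 4 ≤ Fintype.card F) (N : Subgroup SL(2, F)) [N.Normal] :
    N = ⊤ ∨ N = ⊥ := by
  obtain ⟨l, h0, h1⟩ := exists_ne_zero_one (F := F) (by omega)
  refine (NS.normal_cases ⟨l, h0, fun e => h1 (f2_sq_inj h2 (by rw [e, one_pow]))⟩ N).imp_right fun h =>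
    eq_bot_iff.2 fun x hx => pj_inj h2 ?_
  rw [map_one]
  exact (QuotientGroup.eq_one_iff x).2 (h hx)

theorem sl_aut [Finite F] (h2 : (2 : F) = 0) (α : MulAut SL(2, F)) :
    ∃ (b : SL(2, F)) (σ : RingAut F), ∀ x, α x = b * H57.slField (Fin 2) F σ x * b⁻¹ := by
  obtain ⟨g, σ, h⟩ := H57.psl_aut_two (H57.quotCenterAut _ α)
  obtain ⟨d, hd⟩ := f2_sq_surj h2 (g.1.det)
  have d0 : d ≠ 0 := by
    rintro rfl
    exact g.det_ne_zero (by rw [← hd]; simp)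
  obtain ⟨b, hb⟩ : ∃ b : SL(2, F), (b : Matrix (Fin 2) (Fin 2) F) = d⁻¹ • g.1 :=
    ⟨⟨d⁻¹ • g.1, by rw [Matrix.det_smul, ← hd]; simp [d0]⟩, rfl⟩
  refine ⟨b, σ, fun x => ?_⟩
  have h1 : α x = H57.slDiag (Fin 2) F g (H57.slField (Fin 2) F σ x) := pj_inj h2 (by
    have := congrArg (fun β : MulAut PSL(2, F) => β (QuotientGroup.mk x)) h
    exact this)
  rw [h1, eq_mul_inv_iff_mul_eq]
  refine Subtype.ext ?_
  simp only [Matrix.SpecialLinearGroup.coe_mul, hb, H57.slDiag_coe, Matrix.mul_smul, Matrix.smul_mul,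
    Units.inv_mul_cancel_right]

theorem slField_uMat (σ : RingAut F) (t : F) : H57.slField (Fin 2) F σ (uMat t) = uMat (σ t) := by
  refine Matrix.SpecialLinearGroup.ext _ _ fun i j => ?_
  fin_cases i <;> fin_cases j <;> simp

end Field

variable {G : Type u} [Group G] {L E X : Subgroup G} {F : Type} [Field F]

/-- `r` induces an isomorphism of `L / O₂(L)` with `SL₂(F)` taking `E` to the unitriangular matrices -/
structure Rp (L E : Subgroup G) (r : G → SL(2, F)) : Prop where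
  mul : ∀ x ∈ L, ∀ y ∈ L, r (x * y) = r x * r y
  ker : ∀ x ∈ L, r x = 1 ↔ x ∈ o2 L
  surj : ∀ b, ∃ x ∈ L, r x = b
  syl : ∀ x ∈ L, x ∈ E ↔ r x ∈ uSub F
  le : E ≤ L

theorem exists_rp [Finite G] [Fintype F] [_root_.CharP F 2] (e : (L ⧸ pCore 2 L) ≃* PSL(2, F))
    (hE : IsSyl 2 E L) : ∃ r : G → SL(2, F), Rp L E r := by
  classical
  let ε := MulEquiv.ofBijective (H52.pj F) ⟨pj_inj CharTwo.two_eq_zero, H52.pj_surj⟩
  let ρ₀ : L →* SL(2, F) := (e.trans ε.symm).toMonoidHom.comp (QuotientGroup.mk' _)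
  have s₀ : Function.Surjective ρ₀ := (e.trans ε.symm).surjective.comp (QuotientGroup.mk'_surjective _)
  have h1 := hE.subgroupOf_top.map ρ₀
  rw [map_top_of_surjective _ s₀] at h1
  obtain ⟨b, -, hb⟩ := h1.exists_cj_eq (isSyl_sylow (sylU (F := F) 2))
  let ρ : L →* SL(2, F) := (MulAut.conj b).toMonoidHom.comp ρ₀
  have hu : (E.subgroupOf L).map ρ = uSub F := by rw [← map_map]; exact hb
  have hk : ∀ x : L, ρ x = 1 ↔ (x : G) ∈ o2 L := fun x => by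
    have : ρ x = 1 ↔ QuotientGroup.mk' (pCore 2 L) x = 1 := by
      simp only [ρ, ρ₀, MonoidHom.comp_apply, MulEquiv.coe_toMonoidHom, EmbeddingLike.map_eq_one_iff]
    rw [this, QuotientGroup.mk'_apply, QuotientGroup.eq_one_iff, ← pCoreOf_subgroupOf, mem_subgroupOf]
  refine ⟨fun x => if h : x ∈ L then ρ ⟨x, h⟩ else 1, fun x hx y hy => ?_, fun x hx => ?_, fun c => ?_,
    fun x hx => ?_, hE.le⟩
  · rw [dif_pos hx, dif_pos hy, dif_pos (L.mul_mem hx hy), ← map_mul]; rfl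
  · rw [dif_pos hx, hk]
  · obtain ⟨x, rfl⟩ := ((MulAut.conj b).surjective.comp s₀) c
    exact ⟨x, x.2, dif_pos x.2⟩
  · rw [dif_pos hx, ← hu]
    refine ⟨fun h => mem_map_of_mem ρ h, fun ⟨y, hy, e'⟩ => ?_⟩
    have := hE.pCoreOf_le ((hk (y⁻¹ * ⟨x, hx⟩)).1 (by rw [map_mul, map_inv, e', inv_mul_cancel]))
    simpa using E.mul_mem hy this

namespace Rp

variable {r : G → SL(2, F)} (R : Rp L E r) {x y g : G}
include R

theorem one : r 1 = 1 := (R.ker 1 L.one_mem).2 (one_mem _)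

theorem inv (hx : x ∈ L) : r x⁻¹ = (r x)⁻¹ :=
  eq_inv_of_mul_eq_one_left (by rw [← R.mul _ (L.inv_mem hx) _ hx, inv_mul_cancel, R.one])

theorem conj (hx : x ∈ L) (hy : y ∈ L) : r (x * y * x⁻¹) = r x * r y * (r x)⁻¹ := by
  rw [R.mul _ (L.mul_mem hx hy) _ (L.inv_mem hx), R.mul _ hx _ hy, R.inv hx]

theorem eq_iff (hx : x ∈ L) (hy : y ∈ L) : r x = r y ↔ x⁻¹ * y ∈ o2 L := by
  rw [← R.ker _ (L.mul_mem (L.inv_mem hx) hy), R.mul _ (L.inv_mem hx) _ hy, R.inv hx, inv_mul_eq_one]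

theorem QE : o2 L ≤ E := fun x hx =>
  (R.syl x (pCoreOf_le L hx)).2 (by rw [(R.ker x (pCoreOf_le L hx)).2 hx]; exact one_mem _)

theorem eq_u (hx : x ∈ E) : r x = uMat (r x 0 1) := by
  obtain ⟨t, ht⟩ := mem_uSub.1 ((R.syl x (R.le hx)).1 hx)
  rw [← ht]; simp

/-- the coordinate on `E / O₂(L)` -/
def sec : Sec F E (o2 L) where
  ψ x := r x 0 1
  le := R.QE
  mul x hx y hy := by
    rw [R.mul _ (R.le hx) _ (R.le hy), R.eq_u hx, R.eq_u hy, ← uMat_add]; simp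
  ker x hx := by
    rw [← R.ker x (R.le hx)]
    exact ⟨fun h => by rw [R.eq_u hx, h, uMat_zero], fun h => by rw [h]; simp⟩
  surj m := by
    obtain ⟨x, hx, e⟩ := R.surj (uMat m)
    exact ⟨x, (R.syl x hx).2 (e ▸ uMat_mem_uSub m), by rw [e]; simp⟩

/-- the image of a subgroup -/
def img (hX : X ≤ L) : Subgroup SL(2, F) where
  carrier := {b | ∃ x ∈ X, r x = b}
  one_mem' := ⟨1, X.one_mem, R.one⟩
  mul_mem' := by
    rintro _ _ ⟨x, hx, rfl⟩ ⟨y, hy, rfl⟩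
    exact ⟨_, X.mul_mem hx hy, R.mul _ (hX hx) _ (hX hy)⟩
  inv_mem' := by
    rintro _ ⟨x, hx, rfl⟩
    exact ⟨_, X.inv_mem hx, R.inv (hX hx)⟩

theorem le_sup (hX : X ≤ L) (h : R.img hX = ⊤) : L ≤ X ⊔ o2 L := fun x hx => by
  obtain ⟨y, hy, e⟩ : r x ∈ R.img hX := h ▸ mem_top _
  simpa using mul_mem (mem_sup_left hy : y ∈ X ⊔ o2 L) (mem_sup_right ((R.eq_iff (hX hy) hx).1 e))

theorem sl_of {b : SL(2, F)} {σ : RingAut F} (hg : g ∈ nor E)
    (h : ∀ x ∈ L, r (g * x * g⁻¹) = b * H57.slField (Fin 2) F σ (r x) * b⁻¹) :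
    b 1 0 = 0 ∧ SL R.sec g σ (b 0 0 ^ 2) := by
  have h1 : b 1 0 = 0 := by
    obtain ⟨x, hx, e⟩ := R.sec.surj 1
    have h2 := congrArg (fun c : SL(2, F) => c 1 0) (h x (R.le hx))
    rw [R.eq_u (conj_mem_of_mem_normalizer hg hx), R.eq_u hx, slField_uMat, show r x 0 1 = 1 from e, map_one] at h2
    simp only [conj_uMat_10] at h2
    simpa using h2
  refine ⟨h1, pow_ne_zero 2 fun e => ?_, fun x hx => ?_⟩
  · have := sl_det b
    rw [h1, e] at this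
    simp at this
  · change r (g * x * g⁻¹) 0 1 = b 0 0 ^ 2 * σ (r x 0 1)
    rw [h x (R.le hx), R.eq_u hx, slField_uMat, conj_uMat_of_10 h1]; simp

theorem sl_L (hg : g ∈ L) (hg' : g ∈ nor E) : r g 1 0 = 0 ∧ SL R.sec g 1 (r g 0 0 ^ 2) :=
  R.sl_of hg' fun x hx => by rw [R.conj hg hx, map_one]; rfl

variable [Finite G]

theorem mem_nor (hx : x ∈ L) (h : r x 1 0 = 0) : x ∈ nor E :=
  mem_normalizer_of_cj_le (by
    rintro _ ⟨y, hy, rfl⟩
    have hy' := R.le hy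
    refine (R.syl _ (L.mul_mem (L.mul_mem hx hy') (L.inv_mem hx))).2 ?_
    rw [R.conj hx hy']
    exact conj_mem_of_mem_normalizer (mem_normalizer_uSub h) ((R.syl y hy').1 hy))

theorem um (h1 : E ≤ X) (h2 : X ≤ L) : X ≤ L ⊓ nor E ∨ X = L := by
  by_cases h : ∀ x ∈ X, r x 1 0 = 0
  · exact Or.inl fun x hx => ⟨h2 hx, R.mem_nor (h2 hx) (h x hx)⟩
  push Not at h
  obtain ⟨x, hx, h⟩ := h
  refine Or.inr (le_antisymm h2 ((R.le_sup h2 (eq_top_of_uSub_le (fun b hb => ?_) ⟨x, hx, rfl⟩ h)).trans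
    (sup_le le_rfl (R.QE.trans h1))))
  obtain ⟨y, hy, rfl⟩ := R.surj b
  exact ⟨y, h1 ((R.syl y hy).2 hb), rfl⟩

variable [Finite F] (h2 : (2 : F) = 0)
include h2

theorem scal {c : F} (hc : c ≠ 0) : ∃ b ∈ L, b ∈ nor E ∧ SL R.sec b 1 c := by
  obtain ⟨t, rfl⟩ := f2_sq_surj h2 c
  have t0 : t ≠ 0 := by rintro rfl; exact hc (by simp)
  obtain ⟨b, hb, e⟩ := R.surj ⟨!![t, 0; 0, t⁻¹], by simp [Matrix.det_fin_two, t0]⟩
  have hn := R.mem_nor hb (by rw [e]; rfl)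
  have := (R.sl_L hb hn).2
  rw [e] at this
  exact ⟨b, hb, hn, this⟩

omit [Finite G] in
theorem sl (hg : g ∈ nor L) (hg' : g ∈ nor E) :
    ∃ σ c, SL R.sec g σ c ∧ (σ = 1 → c = 1 → g ∈ E ⊔ cq L) := by
  choose s hs hs' using R.surj
  have cj := fun {x : G} (hx : x ∈ L) => conj_mem_of_mem_normalizer hg hx
  have wd : ∀ x ∈ L, r (g * s (r x) * g⁻¹) = r (g * x * g⁻¹) := fun x hx => by
    rw [R.eq_iff (cj (hs _)) (cj hx), show (g * s (r x) * g⁻¹)⁻¹ * (g * x * g⁻¹) = g * ((s (r x))⁻¹ * x) * g⁻¹ by group]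
    exact conj_mem_of_mem_normalizer (normalizer_le_normalizer_pCoreOf L hg) ((R.eq_iff (hs _) hx).1 (hs' _))
  let α₀ : SL(2, F) →* SL(2, F) := MonoidHom.mk' (fun b => r (g * s b * g⁻¹)) fun a b => by
    have := wd _ (L.mul_mem (hs a) (hs b))
    rw [R.mul _ (hs a) _ (hs b), hs', hs'] at this
    rw [this, ← R.mul _ (cj (hs a)) _ (cj (hs b))]
    congr 1; group
  have hα : Function.Surjective α₀ := fun b => ⟨r (g⁻¹ * s b * g), by
    rw [← hs' b]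
    refine (wd _ (conj_mem_of_mem_normalizer' hg (hs _))).trans ?_
    rw [hs' b, ← hs' b]
    congr 1
    rw [hs' b]; group⟩
  obtain ⟨b, σ, h⟩ := sl_aut h2 (MulEquiv.ofBijective α₀ (Finite.surjective_iff_bijective.1 hα))
  have h' : ∀ x ∈ L, r (g * x * g⁻¹) = b * H57.slField (Fin 2) F σ (r x) * b⁻¹ := fun x hx =>
    (wd x hx).symm.trans (h (r x))
  obtain ⟨h3, h4⟩ := R.sl_of hg' h'
  refine ⟨σ, _, h4, fun e e' => ?_⟩
  have h5 : b 0 0 = 1 := f2_sq_inj h2 (by rw [e', one_pow])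
  have h6 : b = uMat (b 0 1) := by
    have := sl_det b
    rw [h3, h5] at this
    apply sl_ext <;> simp_all
  have h7 : s b ∈ E := (R.syl _ (hs b)).2 (by rw [hs', h6]; exact uMat_mem_uSub _)
  have h8 : (s b)⁻¹ * g ∈ cq L := mem_cq.2 ⟨mul_mem (le_normalizer (L.inv_mem (hs b))) hg, fun c hc => by
    have h9 := cj (L.inv_mem hc)
    rw [show ⁅c, (s b)⁻¹ * g⁆ = c * ((s b)⁻¹ * (g * c⁻¹ * g⁻¹) * (s b)⁻¹⁻¹) by
        simp only [commutatorElement_def]; group,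
      ← R.ker _ (L.mul_mem hc (conj_mem_of_mem_normalizer (le_normalizer (L.inv_mem (hs b))) h9)),
      R.mul _ hc _ (conj_mem_of_mem_normalizer (le_normalizer (L.inv_mem (hs b))) h9),
      R.conj (L.inv_mem (hs b)) h9, h' _ (L.inv_mem hc), R.inv (hs b), hs', e, map_one, R.inv hc]
    simp [mul_assoc]⟩
  simpa using mul_mem (mem_sup_left h7 : s b ∈ E ⊔ cq L) (mem_sup_right h8)

end Rp

end H66.QG
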