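import Cfsg.Agent.H64.SFMod
import Cfsg.Agent.H64.SGA3
import Cfsg.Agent.H67.SAJA
import Cfsg.Agent.H9.UfK3

/-! STD-F4, endgame: `JobEV` (transfer and the Sylow `2`-subgroup of `M`). -/

set_option autoImplicit false

namespace H66.SFE

open H64.SG (Syl Cz Cs Ns cjs Is2 Inv2 UF Cov mem_Cz is2_of_sq isPGroup_iff_is2 syl_iff)
open H67.SA (cm Gen mem_sup_zp)
open H64.SF H98 Subgroup

universe u

/-- If every `2`-element of `B` is `a²` or `a² w`, the `2`-elements of `B` are `1` and `w`. -/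
theorem two_elts {A : Type*} [CommGroup A] [Finite A] {B : Subgroup A} {w : A} (s2 : w * w = 1)
    (k1 : ∀ r ∈ B, Is2 r → ∃ a ∈ B, r = a ^ 2 ∨ r = a ^ 2 * w) {r : A} (r1 : r ∈ B) (r2 : Is2 r) :
    r = 1 ∨ r = w := by
  let R : Subgroup A :=
    { carrier := {a | Is2 a}
      one_mem' := H64.SG.is2_one
      mul_mem' := fun a b => a.mul b (mul_comm _ _)
      inv_mem' := fun a => a.inv }
  obtain ⟨N, hN⟩ := (isPGroup_iff_is2.2 fun _ h => h : IsPGroup 2 R).exists_card_eq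
  have k3 : ∀ r ∈ B, r ∈ R → ∃ a ∈ B, a ∈ R ∧ (r = a ^ 2 ∨ r = a ^ 2 * w) := fun r r1 r2 => by
    obtain ⟨a, a1, a2⟩ := k1 r r1 r2
    refine ⟨a, a1, Is2.of_pow (k := 1) ?_, a2⟩
    rcases a2 with rfl | rfl
    · exact r2
    · exact (mul_mem_cancel_right (is2_of_sq s2 : _ ∈ R)).1 r2
  have k2 : ∀ k, ∀ r ∈ B, r ∈ R → ∃ a ∈ B, a ∈ R ∧
      (r = a ^ 2 ^ (k + 1) ∨ r = a ^ 2 ^ (k + 1) * w) := fun k => by
    induction k with
    | zero => exact k3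
    | succ k ih =>
      intro r r1 r2
      obtain ⟨a, a1, a2, a3⟩ := ih r r1 r2
      obtain ⟨b, b1, b2, b3⟩ := k3 a a1 a2
      have : a ^ 2 ^ (k + 1) = b ^ 2 ^ (k + 1 + 1) := by
        rcases b3 with rfl | rfl
        · rw [← pow_mul, ← pow_succ']
        · rw [mul_pow, ← pow_mul, ← pow_succ', pow_succ' 2 k, pow_mul w, pow_two, s2, one_pow,
            mul_one]
      exact ⟨b, b1, b2, this ▸ a3⟩
  obtain ⟨a, -, a1, a2⟩ := k2 N _ r1 r2
  have : a ^ 2 ^ (N + 1) = 1 := by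
    rw [pow_succ, pow_mul, ← hN, show a ^ Nat.card R = 1 from
      congrArg Subtype.val (pow_card_eq_one' (x := (⟨a, a1⟩ : R))), one_pow]
  simpa [this] using a2

/-- The `2`-elements of the image of `lam` are `1` and `lam t`. -/
theorem two_lam {G : Type u} [Group G] [Finite G] {M : Subgroup G} {t : G} (uf : UF M t)
    (gen : Gen t) {A : Type} [CommGroup A] [Finite A] (lam : M →* A)
    (ft : ∀ m : M, Is2 m → ∃ x : M, t * x = x * t ∧ lam m = lam x) (m : M) (h : Is2 m) :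
    lam m = 1 ∨ lam m = lam ⟨t, uf.mem⟩ := by
  obtain ⟨V, hV⟩ := H9.UF.jobK3 uf ((QuotientGroup.mk' (powMonoidHom 2 : lam.range →* _).range).comp
    lam.rangeRestrict)
  have hV' := fun x hx e => hV x hx t (IsConj.refl t) uf.mem e (Or.inr fun y => by
    obtain ⟨y, rfl⟩ := QuotientGroup.mk_surjective y
    exact (QuotientGroup.eq_one_iff (y * y)).2 ⟨y, pow_two y⟩)
  refine two_elts (B := lam.range) (by
    rw [← map_mul, show (⟨t, uf.mem⟩ * ⟨t, uf.mem⟩ : M) = 1 from Subtype.ext uf.inv.1, map_one])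
    ?_ ⟨m, rfl⟩ (h.map lam)
  rintro _ ⟨m, rfl⟩ m2
  obtain ⟨i, j, e0, e1, e2⟩ := H64.SG.exists_two_odd m
  have e3 : lam (m ^ j) = 1 := by
    rw [map_pow]
    exact (m2.pow j).eq_one (map_pow lam m j ▸ e2.of_dvd_nat (orderOf_map_dvd lam _))
  obtain ⟨x, x1, x2⟩ := ft _ e1
  have e4 : lam m = lam x := by rw [← x2, ← mul_one (lam (m ^ i)), ← e3, ← map_mul, ← e0]
  have e5 := hV' x x.2 x1
  rcases gen _ V x with e3 | e3
  · obtain ⟨a, ha⟩ := (QuotientGroup.eq_one_iff _).1 (e5.symm.trans e3)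
    exact ⟨a, a.2, Or.inl (e4.trans (congrArg Subtype.val ha).symm)⟩
  · obtain ⟨a, ha⟩ := QuotientGroup.eq.1 ((hV' t uf.mem rfl).symm.trans (e3.symm.trans e5))
    have := congrArg Subtype.val ha
    change a.1 ^ 2 = (lam _)⁻¹ * lam _ at this
    exact ⟨a, a.2, Or.inr (by rw [this, e4, mul_comm, mul_inv_cancel_left])⟩

theorem le_ker {G A : Type*} [Group G] [CommGroup A] {L : Subgroup G} (h : L ≤ ⁅L, L⁆) (V : G →* A) :
    L ≤ V.ker :=
  h.trans (commutator_le.2 fun a _ b _ => by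
    rw [MonoidHom.mem_ker, map_commutatorElement, commutatorElement_eq_one_iff_mul_comm, mul_comm])

theorem jobEV : JobEV.{u} := by
  intro F _ _ _ Y _ _ G _ _ ι τ Gd U A e t G₁ c Us hM h f uf gen
  have : Finite (MulAut Y) := Finite.of_injective _ DFunLike.coe_injective
  let lam := Abelianization.of.comp c.acH
  have ko : ∀ m : Ns G₁, lam m = 1 ↔ c.ac m ∈ commutator (MulAut Y) := fun m => by
    rw [← Abelianization.ker_of, MonoidHom.mem_ker]; rfl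
  have tt := h.inv.1
  have uG : Us ≤ G₁ := fun g hg => ((h.up g).1 hg).1
  have t1 : t ∈ Ns Us := mem_normalizer_of_cj_le (by
    rintro _ ⟨g, hg, rfl⟩
    obtain ⟨g1, g2, g3⟩ := (h.up g).1 hg
    refine (h.up _).2 ⟨conj_mem_of_mem_normalizer h.tn g1, g2.conj t, ?_⟩
    change c.pi (t * g * t⁻¹) ∈ U
    rw [c.ac_pi t h.tn g g1, h.act]
    exact (hM.stU _).1 g3)
  have sU : IsSyl 2 Us G₁ := c.isSyl_of_im le_rfl h.twoU uG (by
    rw [h.im, c.im_top]; exact syl_iff.1 hM.syl)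
  have inn : ∀ m : Ns G₁, Is2 (m : G) → lam m = 1 → (m : G) ∈ G₁ := fun m m2 k => by
    obtain ⟨y, hy⟩ := hM.k2 _ ((ko m).1 k) (c.is2_ac m.2 m2)
    exact f.inn m m.2 m2 y hy
  obtain ⟨P, hP, h0⟩ := exists_isSyl_le (H64.SG.isPGroup_sup_zpowers h.twoU t1 (is2_of_sq tt))
    (sup_le (uG.trans le_normalizer) (zpowers_le.2 h.tn))
  have tP : t ∈ P := h0 (mem_sup_right (mem_zpowers t))
  have p2 := isPGroup_iff_is2.1 hP.isPGroup
  have h2 : P ⊓ G₁ = Us := sU.eq_of_le (hP.isPGroup.to_le inf_le_left)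
    (le_inf (le_sup_left.trans h0) uG) inf_le_right
  have l1 : ∀ m : Ns G₁, (m : G) ∈ G₁ → lam m = 1 := fun m hm =>
    H64.SG.eq_one_of_perfect h.perf (lam.comp (inclusion le_normalizer)) (fun _ _ => mul_comm _ _)
      ⟨m, hm⟩
  have cjP : ∀ m : Ns G₁, Is2 (m : G) → ∃ g : Ns G₁, ((g * m * g⁻¹ : Ns G₁) : G) ∈ P :=
    fun m m2 => by
      obtain ⟨g, g1, g2⟩ := hP.exists_cj_le m2.zpowers (zpowers_le.2 m.2)
      exact ⟨⟨g, g1⟩, g2 (conj_mem_cj (mem_zpowers _))⟩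
  have lc : ∀ g m : Ns G₁, lam (g * m * g⁻¹) = lam m := fun g m => by
    rw [map_mul, map_mul, map_inv, mul_inv_cancel_comm]
  have h3 : ∀ m : Ns G₁, Is2 (m : G) → lam m = 1 ∨ lam m = lam ⟨t, h.tn⟩ := fun m m2 => by
    refine two_lam uf gen lam (fun m m2 => ?_) m (m2.imp fun k hk => Subtype.ext hk)
    obtain ⟨g, hg⟩ := cjP m (m2.map (Ns G₁).subtype)
    rw [← lc g m]
    generalize g * m * g⁻¹ = x at hg
    have k1 : cm (x : G) t ∈ P := mul_mem (mul_mem (mul_mem hg tP) (inv_mem hg)) (inv_mem tP)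
    have k2 : cm (x : G) t ∈ Us := h2 ▸ ⟨k1, inn (x * ⟨t, h.tn⟩ * x⁻¹ * ⟨t, h.tn⟩⁻¹) (p2 _ k1)
      (by rw [map_mul, lc, map_inv, mul_inv_cancel])⟩
    have k3 : cm (x : G) t * t = x * t * (x : G)⁻¹ := by simp only [cm]; group
    obtain ⟨w, w1, w2⟩ := f.cob _ k2 (isConj_iff.2 ⟨_, k3.symm⟩)
    refine ⟨(⟨w, le_normalizer (uG w1)⟩ : Ns G₁)⁻¹ * x, ?_, by
      rw [map_mul, map_inv, l1 ⟨w, _⟩ (uG w1), inv_one, one_mul]⟩
    change t * (w⁻¹ * x) = w⁻¹ * x * t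
    calc _ = w⁻¹ * (w * t * w⁻¹) * x := by group
      _ = _ := by rw [← w2, k3]; group
  have h4 : ∀ a ∈ P, a ∈ Us ∨ a * t ∈ Us := fun a ha =>
    (h3 ⟨a, hP.le ha⟩ (p2 a ha)).imp (fun k => h2 ▸ ⟨ha, inn ⟨a, hP.le ha⟩ (p2 a ha) k⟩) fun k =>
      h2 ▸ ⟨mul_mem ha tP, inn (⟨a, hP.le ha⟩ * ⟨t, h.tn⟩) (p2 _ (mul_mem ha tP)) (by
        rw [map_mul, k, ← map_mul, show (⟨t, h.tn⟩ * ⟨t, h.tn⟩ : Ns G₁) = 1 from Subtype.ext tt,
          map_one])⟩
  obtain ⟨V, hV⟩ := H9.UF.jobK3 uf lam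
  have v1 : V t ≠ 1 := by
    rw [hV t h.tn t (IsConj.refl t) h.tn rfl (Or.inl tt)]
    exact fun k => hM.tne (h.act ▸ (ko _).1 k)
  have v2 := le_ker h.perf V
  refine ⟨V.ker, inferInstance, v1, v2, fun g => (gen _ V g).imp id fun k => ?_, fun m m1 m2 m3 => ?_,
    syl_iff.2 (le_antisymm h0 (fun a ha => (mem_sup_zp t1 tt).2 (h4 a ha)) ▸ hP)⟩
  · rw [MonoidHom.mem_ker, map_mul, k, ← map_mul, tt, map_one]
  · obtain ⟨g, hg⟩ := cjP ⟨m, m1⟩ m2
    change (g : G) * m * (g : G)⁻¹ ∈ P at hg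
    rcases h4 _ hg with k | k
    · simpa [mul_assoc] using conj_mem_of_mem_normalizer' g.2 (uG k)
    · have := v2 (uG k)
      rw [MonoidHom.mem_ker, map_mul, map_mul, map_mul, map_inv, mul_inv_cancel_comm, m3, one_mul] at this
      exact absurd this v1

end H66.SFE
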