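/- Interface of the tower RIT (`blueprints/RIT.md`): the root involution theorem (S5056). -/
import Cfsg.Agent.H66.RST2
import Cfsg.Agent.H66.OT1
import Cfsg.Agent.H51.R2Spec

set_option autoImplicit false

namespace H66.RIT
open Cfsg H70 H66.RST

universe u

section
variable {G : Type u} [Group G]

/-- The group `E(d)`. -/
abbrev EE (D : Set G) (d : G) : Subgroup G := sameCommutingSubgroup D d

/-- The set `E_d`. -/
abbrev EC (D : Set G) (d : G) : Set G := sameCommutingClass D d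

/-- Some point collinear with `c` has a product of order four with `b`. -/
def Good (D : Set G) (c b : G) : Prop := ∃ e ∈ D, Commute c e ∧ c * e ∈ D ∧ Four e b

/-- Opposite members give rank one pairs. -/
def PairOK (D : Set G) : Prop := ∀ a ∈ D, ∀ b ∈ D, IOpp a b → IsRankOnePair (EE D a) (EE D b)

/-- The first alternative of the theorem. -/
def AltA (D : Set G) : Prop :=
  ∀ d ∈ D, ∃ (F : Type) (_ : Field F) (_ : Fintype F), Fintype.card F = Nat.card (EE D d) ∧
    IsKRootSubgroupSet F {A : Subgroup G | ∃ g : G, A = conjBy (EE D d) g} ∧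
    IsConjClassOfSubgroups {A : Subgroup G | ∃ g : G, A = conjBy (EE D d) g}

/-- The numbers of the second alternative. -/
def Small (D : Set G) : Prop :=
  ∀ d ∈ D, Nat.card (EE D d) = 2 ∧ Nat.card (Subgroup.closure (commutingMembers D d)) ≤ 2 ^ 10

/-- Points have distance at most three. -/
def Diam (D : Set G) : Prop :=
  ∀ X Y, H51.R2.Pt D X → H51.R2.Pt D Y → H51.R2.Nr D X Y ∨ ∃ A B, H51.R2.Path D X A B Y

end

/-- Partners of order three inside a class `E_c`. -/
def JobPart : Prop :=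
  ∀ (G : Type u) [Group G] [Finite G] (D : Set G), RIC D → ∀ c ∈ D, ∀ b ∈ D, IOpp c b → Good D c b →
    ∃ c' ∈ EC D c, orderOf (c' * b) = 3

def JobHE : Prop :=
  ∀ (G : Type u) [Group G] [Finite G] (D : Set G), NDC D → pCore 2 G = ⊥ → Subgroup.center G = ⊥ → HE D

/-- The commutator case. -/
def JobComm : Prop :=
  ∀ (G : Type u) [Group G] [Finite G] (D : Set G), HE D → ∀ d ∈ D, ∀ a ∈ D, ∀ b ∈ D, Four a b →
    RootCommutatorCase {A : Subgroup G | ∃ g : G, A = conjBy (EE D d) g} (EE D a) (EE D b)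

def JobAS : Prop :=
  JobComm.{u} → ∀ (G : Type u) [Group G] [Finite G] (D : Set G), HE D → PairOK D → AltA D

def JobDeg : Prop :=
  ∀ (G : Type u) [Group G] [Finite G] (D : Set G), IsOddTranspositionSet D → IsRootInvolutionClass D →
    pCore 2 G = ⊥ → Subgroup.center G = ⊥ → (D ∩ commutingProducts D).Nonempty →
    IsConnectedSet (CommAdj D) D → HE D ∧ PairOK D

def JobGood : Prop :=
  JobPart.{u} → ∀ (G : Type u) [Group G] [Finite G] (D : Set G), HE D → ∀ a ∈ D, ∀ b ∈ D, IOpp a b →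
    Good D a b → IsRankOnePair (EE D a) (EE D b)

/-- A bad pair excludes polar pairs. -/
def JobNP : Prop :=
  JobPart.{u} → ∀ (G : Type u) [Group G] [Finite G] (D : Set G), HE D → NDC D → Subgroup.center G = ⊥ →
    (∃ a ∈ D, ∃ b ∈ D, IOpp a b ∧ ¬ Good D a b) → ∀ x ∈ D, ∀ y ∈ D, x ≠ y → x * y = y * x → x * y ∈ D

def JobHyp : Prop :=
  ∀ (G : Type u) [Group G] [Finite G] (D : Set G), HE D → NDC D → D.Nonempty → pCore 2 G = ⊥ →
    Subgroup.center G = ⊥ → (∀ x ∈ D, ∀ y ∈ D, x ≠ y → x * y = y * x → x * y ∈ D) → H51.R2.Hyp D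

/-- Two lines through a point, `q > 2`. -/
def JobP1 : Prop :=
  ∀ (G : Type u) [Group G] [Finite G] (D : Set G) (q : ℕ), H51.R2.Hyp D → H51.R2.FA D q →
    H51.R2.FC D q 1 → H51.R2.FT D → H51.R2.F1 D → q ≠ 2 → Diam D

/-- The hexagons. -/
def JobP2 : Prop :=
  ∀ (G : Type u) [Group G] [Finite G] (D : Set G) (q t : ℕ), H51.R2.Hyp D → H51.R2.FA D q →
    H51.R2.FB D → H51.R2.FC D q t → H51.R2.FD D → H51.R2.FE D q t → Diam D

def JobP3 : Prop :=
  JobP1.{u} → JobP2.{u} → ∀ (G : Type u) [Group G] [Finite G] (D : Set G), H51.R2.Hyp D →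
    (∀ a ∈ D, ∀ b ∈ D, IOpp a b → Good D a b) ∨ Small D

end H66.RIT
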