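import Cfsg.Agent.H25.STWr2
import Cfsg.Agent.H44.STAB
import Cfsg.Agent.H81.W2

/-! STD-S: jobs `W2` and `T1`. -/

set_option autoImplicit false

namespace H66.STS

open H25.ST H64.SG Subgroup
open H67.SA (cm)

universe u

theorem jobW2 : H25.ST.JobW2.{u} := by
  intro X _ G _ _ e t _ B c hG W b k y hp hW tn bn hb hk hr yB _ yy dw big o ho oo
  have h := hG.toCW
  refine H81.W2.core (L₁ := B) (L₂ := cjs t B) h.comm ?_ h.tt rfl (fun w hw => ?_) hp tn bn hb hk hr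
    yB yy dw big ho oo
  · rw [← H98.centralizer_sup]
    exact h.odd
  · by_cases k : w ∈ Ns B
    · exact Or.inl (h.mem_M0 (hW hw) k)
    · exact Or.inr (h.swap (hW hw) k)

variable {X : Type} [Group X] {G : Type u} [Group G] {e : X →* G} {t : G} {B : Subgroup G}
  {c : Cov X B} [Finite G] {z : X} {S U₁ U₂ : Subgroup X} {z1 : G}

/-- `z1` is not conjugate to `t`. -/
theorem not_t (hz : ZL c z z1) (hE : FEd z S U₁ U₂) (h : CW e t c) (hF : F0 X) : ¬ IsConj t z1 := by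
  intro k
  obtain ⟨O, hO⟩ := H44.STAB.jobAB X G e t hF h.toCE
  obtain ⟨x, hx, -, s, hs, h4⟩ := hz.exists_x hE hF (isPGroup_Up hE.two) le_rfl
    ((Up_le c S).trans le_normalizer)
  have c1 : ∀ a ∈ Up c S, a ∈ Cz z1 := fun a ha => mem_Cz.2 (hz.mem_Cs hE a ha).symm
  have h5 : z1 ∈ ⁅Cz z1, Cz z1⁆ := by
    have := commutator_mem_commutator (c1 x hx) (c1 s hs)
    rwa [commutatorElement_def, show x * s * x⁻¹ * s⁻¹ = z1 from h4] at this
  obtain ⟨g, hg⟩ := isConj_iff.1 k.symm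
  have h6 : t ∈ ⁅Cz t, Cz t⁆ := by
    have := H98.conj_mem_cj (g := g) h5
    rwa [H98.cj_commutator, show H98.cj g (Cz z1) = Cz t by rw [← hg, ← cj_Cz], hg] at this
  obtain ⟨s', hs'⟩ := hO.cm t h6 (is2_of_sq h.tt)
  exact h.b1.t_ne hF s' hs'.symm

/-- `z1` is not conjugate to `z1 z2`. -/
theorem not_z (hz : ZL c z z1) (hE : FEd z S U₁ U₂) (h : CW e t c) (hF : F0 X) :
    ¬ IsConj (e z) z1 := by
  intro k
  rw [hz.e_eq h] at k
  have hy := hz.cj t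
  have uM : U12 c t S ≤ M0 t B := (sup_le_sup (Up_le c S) (map_mono (Up_le c S))).trans h.G1_le
  obtain ⟨T, hT, h0⟩ := H98.exists_isSyl_le
    (isPGroup_sup_zpowers (h.isPGroup_U12 hE.two) (h.t_mem_Ns_U12 S) (is2_of_sq h.tt))
    (sup_le (uM.trans h.M0_le) (zpowers_le.2 h.t_mem))
  have h1 : U12 c t S ≤ T := le_sup_left.trans h0
  have tT : t ∈ T := h0 (mem_sup_right (mem_zpowers t))
  have hW := hT.isPGroup
  have h2 := hT.le
  have hW0 : IsPGroup 2 ↥(T ⊓ M0 t B) := hW.to_le inf_le_left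
  have h10 : U12 c t S ≤ T ⊓ M0 t B := le_inf h1 uM
  have c1 := hz.central1 hE h hF hW0 h10 inf_le_right
  have c2 := hz.central2 hE h hF hW0 h10 inf_le_right
  have ne : t * z1 * t⁻¹ ≠ z1 := fun k => hz.z2_notMem hE h (k.symm ▸ hz.mem)
  -- `T` is a Sylow subgroup of `G`
  have nM : Ns T ≤ MM t B := fun n hn => by
    have k1 := H98.conj_mem_of_mem_normalizer hn tT
    refine h.ufs n (h2 k1) fun k2 => h.ne ?_
    have := H98.conj_mem_of_mem_normalizer' (hz.Ns_le hE h hF hW h1 h2 hn) ⟨k1, h.mem_M0 (h2 k1) k2⟩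
    rw [show n⁻¹ * (n * t * n⁻¹) * n = t by group] at this
    exact this.2.1
  have hS : H98.IsSyl 2 T ⊤ := H98.isSyl_of_isSyl_normalizer
    (hT.of_le (le_inf le_top le_normalizer) (inf_le_right.trans nM))
  -- the centre of `T`
  have a2 : T ≤ Cz (z1 * (t * z1 * t⁻¹)) := fun v hv => mem_Cz.2 <| Eq.symm <| by
    by_cases k : v ∈ Ns B
    · exact mul_mem c1 c2 v ⟨hv, h.mem_M0 (h2 hv) k⟩
    · have s1 := hz.swap hE h hF hW h1 h2 hv k
      have s2 : v * (t * z1 * t⁻¹) * v⁻¹ = z1 := by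
        rw [← hz.swap hE h hF hW h1 h2 (inv_mem hv) fun k' => k (by simpa using inv_mem k')]
        group
      rw [← mul_inv_eq_iff_eq_mul, ← conj_mul, s1, s2, hz.comm h]
  have a3 : ∀ m ∈ T, m ∈ Cs T → m = 1 ∨ m = z1 * (t * z1 * t⁻¹) := fun m hm k1 => by
    have k4 := (hz.inf_M0 hE h hF hW h1 h2).ge ⟨hm, mem_Cz.2 (k1 _ (h1 (hz.mem_U12 hE h)))⟩
    have k3 := mul_inv_eq_iff_eq_mul.2 (k1 t tT)
    rcases hz.cen_U12 hE h k4.2 (isPGroup_iff_is2.1 hW _ hm) (centralizer_le h1 k1) with k | k | k | k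
    · exact Or.inl k
    · exact absurd (k ▸ k3) ne
    · rw [k, hz.back h] at k3
      exact absurd k3.symm ne
    · exact Or.inr k
  -- conjugate `T ⊓ M0` into `T`
  obtain ⟨g, hg⟩ := isConj_iff.1 k.symm
  have a4 : H98.cj g (T ⊓ M0 t B) ≤ Cz (z1 * (t * z1 * t⁻¹)) := by
    rw [← hg, ← cj_Cz]
    exact H98.cj_mono g fun v hv => mem_Cz.2 (c1 v hv).symm
  obtain ⟨a, ha, a5⟩ := (hS.of_le a2 le_top).exists_cj_le (H98.isPGroup_cj g hW0) a4
  rw [H98.cj_cj] at a5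
  have hg' : a * g * z1 * (a * g)⁻¹ = z1 * (t * z1 * t⁻¹) := by
    rw [show a * g * z1 * (a * g)⁻¹ = a * (g * z1 * g⁻¹) * a⁻¹ by group, hg, ← mem_Cz.1 ha,
      mul_inv_cancel_right]
  generalize a * g = r at a5 hg'
  have i1 : (T ⊓ M0 t B).relIndex T = 2 :=
    relIndex_eq_two_iff_exists_notMem_and.2 ⟨t, tT, fun k => h.ne k.2.1, fun b hb =>
      (h.pm b (h2 hb)).symm.imp (fun k => ⟨mul_mem hb tT, k⟩) fun k => ⟨hb, k⟩⟩
  have i2 : (H98.cj r (T ⊓ M0 t B)).relIndex T = 2 := by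
    have e1 := H12.card_mul_relIndex a5
    rw [H98.card_cj, ← H12.card_mul_relIndex (inf_le_left : T ⊓ M0 t B ≤ T), i1] at e1
    exact Nat.eq_of_mul_eq_mul_left Nat.card_pos e1
  have i3 : T ≤ Ns (H98.cj r (T ⊓ M0 t B)) :=
    (normal_subgroupOf_iff_le_normalizer a5).1 (normal_of_index_eq_two i2)
  have a6 : r * (t * z1 * t⁻¹) * r⁻¹ ∈ Cs T := fun v hv => by
    have k1 : r⁻¹ * v * r ∈ Ns (T ⊓ M0 t B) := by
      have := i3 hv
      rwa [← cj_Ns, H98.mem_cj] at this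
    have k2 : r⁻¹ * v * r * z1 * (r⁻¹ * v * r)⁻¹ = z1 := by
      rw [show r⁻¹ * v * r * z1 * (r⁻¹ * v * r)⁻¹ = r⁻¹ * (v * (r * z1 * r⁻¹) * v⁻¹) * r by group, hg',
        ← mem_Cz.1 (a2 hv), mul_inv_cancel_right, ← hg']
      group
    rcases hy.perm0 hE h.symm hF hW0 (h.U12_symm S ▸ h10) (h.M0_symm ▸ inf_le_right) k1 with k | k
    · rw [← mul_inv_eq_iff_eq_mul]
      calc _ = r * (r⁻¹ * v * r * (t * z1 * t⁻¹) * (r⁻¹ * v * r)⁻¹) * r⁻¹ := by group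
        _ = _ := by rw [k]
    · rw [hz.back h] at k
      exact absurd (by simpa using k.trans k2.symm) ne
  rcases a3 _ (a5 (H98.conj_mem_cj (h10 (hz.z2_mem_U12 hE h)))) a6 with k | k
  · exact (hy.inv2 hE).2 (by simpa using k)
  · exact ne (by simpa using k.trans hg'.symm)

theorem jobT1 : H25.ST.JobT1.{u} := by
  intro X _ G _ _ e t hF B c z S U₁ U₂ hE h l hl l2 hI
  obtain ⟨z1, hz⟩ := exists_ZL c hE.zI.sq
  obtain ⟨x, hx⟩ := isConj_iff.1 (hF.one _ _ hI hE.zI)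
  obtain ⟨a, ha, rfl⟩ := c.surj x
  have e1 : a * l * a⁻¹ = z1 := hz.unique
    ⟨mul_mem (mul_mem ha hl) (inv_mem ha), l2.conj a, by rw [c.pi_conj ha hl, hx]⟩
  have e2 : IsConj l z1 := isConj_iff.2 ⟨a, e1⟩
  have e3 : IsConj (e z) (e (c.pi l)) :=
    (isConj_iff.2 ⟨e (c.pi a), by rw [← hx, map_mul, map_mul, map_inv]⟩ : IsConj _ _).symm
  exact ⟨fun k => not_t hz hE h hF (k.trans e2), fun k => not_z hz hE h hF (e3.trans (k.trans e2))⟩

end H66.STS
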