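import Cfsg.Agent.H28.TESpec

/-! Tower NF (S1308), chapter TE part 1, slot Out. -/

set_option autoImplicit false

open Cfsg Subgroup H14 H98 H1.Gold H31.S2 H14.GC H14.FE H14.NF H28.TE
open scoped commutatorElement Pointwise

namespace H66.TEOut

universe u

theorem jobOut : H28.TE.JobOut.{u} := by
  intro kt kp ar G _ _ K E cl Q₁ T col d hd inv
  have ln := cl _ _ _ _ col
  have k := kt G _ _ _ _ _ ln
  have : Fact (Nat.Prime 2) := ⟨Nat.prime_two⟩
  have h1 : d ∈ cen (cen K) ⊔ cen K := 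
    (sup_le_sup_right (le_centralizer_centralizer K) _ : K ⊔ cen K ≤ cen (cen K) ⊔ cen K) hd.2
  have hn : d ∈ nor (cen K) := (sup_le (centralizer_le_normalizer _) le_normalizer :
    cen (cen K) ⊔ cen K ≤ nor (cen K)) h1
  rw [← SetLike.mem_coe, coe_mul_of_left_le_normalizer_right _ _ (centralizer_le_normalizer _)] at h1
  obtain ⟨a₀, ha₀, k₀, hk₀, e⟩ := h1
  replace e : a₀ * k₀ = d := e
  obtain ⟨h, hh, h2⟩ := ln.sT.exists_cj_le (isPGroup_zpowers (x := d) (k := 1)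
    (by rw [pow_one, sq, inv.2])) (zpowers_le.2 ⟨hd.1, hn⟩)
  have ht : h * d * h⁻¹ ∈ T := h2 (conj_mem_cj (mem_zpowers d))
  have hk : h * k₀ * h⁻¹ ∈ cen K := (mem_normalizer_iff.1 hh.2 k₀).1 hk₀
  have ha : ∀ q ∈ cen K, Commute (h * a₀ * h⁻¹) q := fun q hq => by
    have h3 := mem_centralizer_iff.1 ha₀ _ ((mem_normalizer_iff''.1 hh.2 q).1 hq)
    calc h * a₀ * h⁻¹ * q = h * (a₀ * (h⁻¹ * q * h)) * h⁻¹ := by group
      _ = h * (h⁻¹ * q * h * a₀) * h⁻¹ := by rw [h3]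
      _ = q * (h * a₀ * h⁻¹) := by group
  have et : h * d * h⁻¹ = h * a₀ * h⁻¹ * (h * k₀ * h⁻¹) := by rw [← e]; group
  have t1 : h * d * h⁻¹ ≠ 1 := fun e => inv.1 (conj_eq_one_iff.1 e)
  have t2 : (h * d * h⁻¹) ^ 2 = 1 := by rw [conj_pow, sq, inv.2]; group
  generalize h * d * h⁻¹ = t at *
  generalize h * a₀ * h⁻¹ = a at *
  generalize h * k₀ * h⁻¹ = c at *
  have hac : Commute a c := ha c hk
  obtain ⟨j, m, hm, hj⟩ := Nat.exists_eq_two_pow_mul_odd (orderOf_pos c).ne'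
  have etm : t = a ^ m * c ^ m := by
    obtain ⟨i, rfl⟩ := hm
    rw [← hac.mul_pow, ← et, pow_succ, pow_mul, t2, one_pow, one_mul]
  have hcE : c ∈ cen E := mem_centralizer_iff.2 fun x hx => by
    have h3 : Commute x t := ln.comm x hx t ht
    have h4 : Commute x a := (ha x (ln.sE.le hx).1).symm
    have h5 : c = a⁻¹ * t := by rw [et, inv_mul_cancel_left]
    rw [h5]
    exact h4.inv_right.mul_right h3
  have hct : Commute c t := by rw [et]; exact hac.symm.mul_right (Commute.refl c)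
  have hE : c ^ m ∈ E := k.mx _ (pow_mem hk m) (pow_mem hcE m)
    ⟨j, by rw [← pow_mul, mul_comm, ← hj, pow_orderOf_eq_one]⟩ t ht t1 (hct.pow_left m)
  obtain ⟨R, r, -⟩ := ar G _ _ _ _ _ ln ⊥ IsPGroup.of_bot bot_le fun x _ b hb => by
    rw [mem_bot.1 hb, commutatorElement_one_right]
    exact one_mem _
  have p := kp G _ _ _ _ _ ln R r
  obtain ⟨y, hy, hyE⟩ := SetLike.exists_of_lt p.lt
  have tr := p.tr y hy hyE
  refine k.nd y tr t ht t1 (commutatorElement_eq_one_iff_commute.2 ?_)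
  rw [etm]
  exact ((ha y tr.mem).pow_left m).mul_left (mem_centralizer_iff.1 tr.ce _ hE)

end H66.TEOut
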