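import Cfsg.Agent.H66.SzMult

/-! Central extensions given by cocycles, transfer of cocycles, and the cover of `Sz(8)`. -/

set_option autoImplicit false

namespace H66

open scoped commutatorElement

/-- A normalised `2`-cocycle with trivial action. -/
structure Cocycle (G A : Type*) [Group G] [AddCommGroup A] where
  c : G → G → A
  one : ∀ g, c 1 g = 0
  assoc : ∀ x y z, c x y + c (x * y) z = c y z + c x (y * z)

/-- The central extension defined by a cocycle. -/
@[ext] structure CExt {G A : Type*} [Group G] [AddCommGroup A] (C : Cocycle G A) where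
  g : G
  a : A

namespace CExt

variable {G A : Type*} [Group G] [AddCommGroup A] (C : Cocycle G A)

instance instMulCExt : Mul (CExt C) := ⟨fun x y => ⟨x.g * y.g, x.a + y.a + C.c x.g y.g⟩⟩

instance instOneCExt : One (CExt C) := ⟨⟨1, 0⟩⟩

instance instInvCExt : Inv (CExt C) := ⟨fun x => ⟨x.g⁻¹, -x.a - C.c x.g⁻¹ x.g⟩⟩

theorem mul_def (x y : CExt C) : x * y = ⟨x.g * y.g, x.a + y.a + C.c x.g y.g⟩ := rfl

instance instGroupCExt : Group (CExt C) :=
  Group.ofLeftAxioms
    (fun x y z => CExt.ext (mul_assoc _ _ _) (by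
      have := C.assoc x.g y.g z.g
      simp only [mul_def]
      rw [← sub_eq_zero] at this ⊢
      rw [← this]
      abel))
    (fun x => CExt.ext (one_mul _) (by
      change 0 + x.a + C.c 1 x.g = x.a
      simp [C.one]))
    fun x => CExt.ext (inv_mul_cancel _) (by
      change -x.a - C.c x.g⁻¹ x.g + x.a + C.c x.g⁻¹ x.g = 0
      abel)

theorem c_one (g : G) : C.c g 1 = 0 := by simpa [C.one] using C.assoc g 1 1

/-- The projection. -/
def proj : CExt C →* G := MonoidHom.mk' CExt.g fun _ _ => rfl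

/-- The inclusion of the kernel. -/
def inl : Multiplicative A →* CExt C :=
  MonoidHom.mk' (fun a => ⟨1, a.toAdd⟩) fun _ _ => CExt.ext (mul_one _).symm (by
    simp [mul_def, C.one])

theorem inl_injective : Function.Injective (inl C) := fun _ _ h => congrArg CExt.a h

theorem proj_inl (a : Multiplicative A) : proj C (inl C a) = 1 := rfl

theorem isCentralExt : H21.IsCentralExt (proj C) := by
  refine ⟨fun g => ⟨⟨g, 0⟩, rfl⟩, fun x hx => Subgroup.mem_center_iff.mpr fun y => ?_⟩
  have h : x.g = 1 := hx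
  exact CExt.ext (by simp [mul_def, h]) (by simp [mul_def, h, C.one, c_one, add_comm])

theorem commutator_eq {x y : G} (h : x * y = y * x) :
    ⁅(⟨x, 0⟩ : CExt C), (⟨y, 0⟩ : CExt C)⁆ = inl C (Multiplicative.ofAdd (C.c x y - C.c y x)) := by
  rw [commutatorElement_def, mul_inv_eq_iff_eq_mul, mul_inv_eq_iff_eq_mul, mul_assoc]
  exact CExt.ext (by simp [mul_def, inl, h]) (by simp [mul_def, inl, C.one])

end CExt

section Transfer

variable {G A Ω : Type*} [Group G] [AddCommGroup A] [MulAction G Ω] [Fintype Ω]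

/-- The transfer of a cocycle from a point stabiliser. -/
def transfer (o : Ω) (s : Ω → G) (hs : ∀ p, s p • o = p) (c : G → G → A) (h1 : ∀ g, c 1 g = 0)
    (hc : ∀ x y z : G, x • o = o → y • o = o → z • o = o →
      c x y + c (x * y) z = c y z + c x (y * z)) : Cocycle G A where
  c g g' := ∑ p, c ((s (g • g' • p))⁻¹ * g * s (g' • p)) ((s (g' • p))⁻¹ * g' * s p)
  one g := by simp [h1]
  assoc x y z := by
    have hb : ∀ g p, ((s (g • p))⁻¹ * g * s p) • o = o := fun g p => by
      rw [mul_smul, mul_smul, hs, inv_smul_eq_iff, hs]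
    rw [← Equiv.sum_comp (MulAction.toPerm z), ← Finset.sum_add_distrib, ← Finset.sum_add_distrib]
    refine Finset.sum_congr rfl fun p _ => ?_
    have := hc _ _ _ (hb x (y • z • p)) (hb y (z • p)) (hb z p)
    simpa [mul_smul, mul_assoc] using this

end Transfer

namespace Model

variable {F : Type*} [Field F] {T : Tits F} {G : Type*} [Group G] (M : Model T G)

open Classical in
/-- Coordinates on the Borel subgroup. -/
noncomputable def co (g : G) : F × F × Fˣ :=
  if h : ∃ p : F × F × Fˣ, g = M.u p.1 p.2.1 * M.h p.2.2 then h.choose else (0, 0, 1)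

theorem co_uh (a b : F) (k : Fˣ) : M.co (M.u a b * M.h k) = (a, b, k) := by
  have h : ∃ p : F × F × Fˣ, M.u a b * M.h k = M.u p.1 p.2.1 * M.h p.2.2 := ⟨(a, b, k), rfl⟩
  rw [co, dif_pos h]
  obtain ⟨h1, h2, h3⟩ := M.uh_inj h.choose_spec
  exact Prod.ext h1.symm (Prod.ext h2.symm h3.symm)

theorem co_u (a b : F) : M.co (M.u a b) = (a, b, 1) := by simpa using M.co_uh a b 1

/-- The invariant cocycle on the Borel subgroup of `Sz(8)`. -/
noncomputable def cB (x y : G) : F :=
  (M.co x).1 * T.θ (T.θ (M.co x).2.2 * (M.co x).2.2 ^ 2 * (M.co y).2.1) +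
    (M.co x).2.1 ^ 2 * T.θ (T.θ (M.co x).2.2 * (M.co y).1)

theorem cB_one (g : G) : M.cB 1 g = 0 := by
  rw [← M.u_zero, cB, co_u]
  simp

theorem cB_assoc (h8 : ∀ x, T.θ x ^ 2 = x) (h7 : ∀ k : Fˣ, (k : F) ^ 3 * T.θ k = 1) (x y z : G)
    (hx : x • M.inf = M.inf) (hy : y • M.inf = M.inf) (hz : z • M.inf = M.inf) :
    M.cB x y + M.cB (x * y) z = M.cB y z + M.cB x (y * z) := by
  have two := T.two
  obtain ⟨a, b, k, rfl⟩ := M.fix_inf_iff.mp hx
  obtain ⟨c, d, l, rfl⟩ := M.fix_inf_iff.mp hy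
  obtain ⟨e, f, n, rfl⟩ := M.fix_inf_iff.mp hz
  simp only [cB, uh_mul_uh, co_uh]
  simp only [map_mul, map_add, map_pow, T.sq, Units.val_mul]
  have h1 := h8 a
  have h2 := h8 c
  have h3 := h8 k
  have h4 := h7 k
  have h5 := h8 l
  grobner

/-- Representatives of the cosets of the Borel subgroup. -/
noncomputable def sec : M.Pt → G
  | none => 1
  | some p => M.u p.1 p.2 * M.w

theorem sec_inf : M.sec M.inf = 1 := rfl

theorem sec_pt (a b : F) : M.sec (M.pt a b) = M.u a b * M.w := rfl

theorem sec_smul (p : M.Pt) : M.sec p • M.inf = p := by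
  rcases M.pt_cases p with rfl | ⟨a, b, rfl⟩
  · simp [sec_inf]
  · simp [sec_pt, mul_smul]

theorem transfer_u [Fintype M.Pt] (h8 : ∀ x, T.θ x ^ 2 = x)
    (h7 : ∀ k : Fˣ, (k : F) ^ 3 * T.θ k = 1) (a b c d : F) :
    (transfer M.inf M.sec M.sec_smul M.cB M.cB_one (M.cB_assoc h8 h7)).c (M.u a b) (M.u c d) =
      a * T.θ d + b ^ 2 * T.θ c := by
  simp only [transfer]
  rw [Finset.sum_eq_single M.inf]
  · simp [sec_inf, cB, co_u]
  · intro p _ hp
    obtain ⟨x, y, rfl⟩ := M.exists_pt hp
    rw [u_pt, u_pt, sec_pt, sec_pt, mul_assoc, ← mul_assoc (M.u a b), u_mul]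
    convert M.cB_one _ using 2
    rw [inv_mul_eq_one]
    congr 2 <;> ring
  · simp

include M in
theorem hasSchurMultiplier_eight (hT : T.IsFin 1) :
    Cfsg.HasSchurMultiplier G (Multiplicative (ZMod 2 × ZMod 2)) := by
  have := hT.finite
  have := M.finite
  have := Fintype.ofFinite M.Pt
  have := Fintype.ofFinite F
  have := T.charP
  have two := T.two
  have hc : Fintype.card F = 8 := by rw [← Nat.card_eq_fintype_card, hT.card]; rfl
  have h8 : ∀ x, T.θ x ^ 2 = x := fun x => by
    rw [hT.θ_eq, ← pow_mul]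
    simpa [hc] using FiniteField.pow_card x
  have h7 : ∀ k : Fˣ, (k : F) ^ 3 * T.θ k = 1 := fun k => by
    rw [hT.θ_eq, ← pow_add]
    simpa [hc] using FiniteField.pow_card_sub_one_eq_one (k : F) k.ne_zero
  have hu := M.transfer_u h8 h7
  set C := transfer M.inf M.sec M.sec_smul M.cB M.cB_one (M.cB_assoc h8 h7)
  obtain ⟨d, d0, d1⟩ := hT.exists_ne
  let γ : F →+ F := AddMonoidHom.mk' (fun x => T.θ x + x ^ 2) fun x y => by
    rw [map_add]; grind
  let δ : ZMod 2 × ZMod 2 →+ F := AddMonoidHom.mk' (fun p =>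
    ZMod.castHom (dvd_refl 2) F p.1 * d + ZMod.castHom (dvd_refl 2) F p.2 * T.θ d) fun x y => by
      simp only [Prod.fst_add, Prod.snd_add, map_add]; ring
  have hγ : ∀ x, CExt.inl C (Multiplicative.ofAdd (γ x)) ∈ commutator (CExt C) := fun x => by
    have h := CExt.commutator_eq C (M.z_comm x 1 0).symm
    rw [hu, hu, T.sub_eq] at h
    have h' := Subgroup.commutator_mem_commutator (Subgroup.mem_top (⟨M.u 1 0, 0⟩ : CExt C))
      (Subgroup.mem_top (⟨M.u 0 x, 0⟩ : CExt C))
    rw [h] at h'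
    simpa [γ, commutator_def] using h'
  let i : Multiplicative (ZMod 2 × ZMod 2) →*
      ((CExt.proj C).ker ⊓ commutator (CExt C) : Subgroup (CExt C)) :=
    ((CExt.inl C).comp (γ.comp δ).toMultiplicative).codRestrict _ fun x => ⟨rfl, hγ _⟩
  have hi : Function.Injective i := by
    rw [injective_iff_map_eq_one]
    intro p hp
    have h1 : γ (δ p.toAdd) = 0 := congrArg (fun x => CExt.a x.1) hp
    have h2 : T.θ d + d ≠ 0 := fun e => by
      rcases T.θ_eq_self (T.add_eq_zero.mp e) with h | h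
      exacts [d0 h, d1 h]
    have h3 : T.θ d + d ^ 2 ≠ 0 := fun e => by
      rcases T.θ_eq_sq (T.add_eq_zero.mp e) with h | h
      exacts [d0 h, d1 h]
    have h4 : d ^ 2 + d ≠ 0 := fun e => by
      have : d * (d + 1) = 0 := by grind
      simp [d0, d1, T.add_eq_zero] at this
    have h5 := h8 d
    rw [← ofAdd_toAdd p]
    generalize p.toAdd = p at h1
    obtain ⟨x, y⟩ := p
    have hz : ∀ x : ZMod 2, x = 0 ∨ x = 1 := by decide
    rcases hz x with rfl | rfl <;> rcases hz y with rfl | rfl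
    · rfl
    all_goals
      exfalso
      simp [γ, δ, T.sq] at h1
      grind
  have h4 := M.multCard_le_four hT
  obtain ⟨θ, hθ⟩ := H21.multiplier_surj_central (H21.hasSchurMultiplier_can G) _
    (CExt.isCentralExt C)
  have := H21.multiplier_finite (H21.hasSchurMultiplier_can G)
  have h5 := Nat.card_le_card_of_surjective θ hθ
  have := Finite.of_surjective θ hθ
  have h6 : Nat.card (Multiplicative (ZMod 2 × ZMod 2)) = 4 := by simp
  refine H21.hasSchurMultiplier_of_card_le _ (CExt.isCentralExt C) (MulEquiv.ofBijective i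
    (hi.bijective_of_nat_card_le (h6 ▸ h5.trans h4))).symm fun Γ _ _ σ hσ => ?_
  exact h6 ▸ (Nat.le_of_dvd H21.multCard_pos (H21.card_ker_dvd_multCard hσ)).trans h4

end Model

end H66
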