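/- An endomorphism of `Q₁` that commutes with the torus and is trivial on `W` is trivial
(blueprints/PARROTT.md, TORB). -/
import Cfsg.Agent.H63.OcSpec

set_option autoImplicit false
set_option linter.unusedSectionVars false
set_option linter.unusedSimpArgs false
set_option linter.unreachableTactic false
set_option linter.unusedTactic false
set_option linter.unnecessarySeqFocus false

open H63.Oc

namespace H66.Par

variable {K : Type*} [Field K] [CharP K 2] {T : TF K}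

theorem z0 {χ x : K} (h : χ * x = x) (hχ : χ ≠ 1) : x = 0 := by
  by_contra e
  exact hχ (mul_right_cancel₀ e (h.trans (one_mul x).symm))

theorem inj1 {b t : K} (h : b * T.σ b = t * T.σ t) : b = t := by
  have h2 := congrArg T.σ h
  simp only [map_mul, T.sq] at h2
  by_cases e : t = 0
  · subst e; simpa using h
  · exact mul_right_cancel₀ (mul_ne_zero e ((map_ne_zero T.σ).2 e)) (by grind)

theorem ne1 (u : Kˣ) (h : (u : K) ≠ 1) : u * (u⁻¹ : Kˣ) = (1 : K) ∧ T.σ u * T.σ (u⁻¹ : Kˣ) = 1 ∧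
    T.σ u ≠ 1 ∧ u * T.σ u ≠ 1 ∧ u ^ 2 * T.σ u ≠ 1 ∧ u ^ 3 * T.σ u ^ 2 ≠ 1 ∧
    u ^ 2 * T.σ u ^ 2 ≠ 1 ∧ (u : K) ^ 2 ≠ 1 := by
  have a : ∀ x : K, x ≠ 1 → T.σ x ≠ 1 := fun x h e => h (T.σ.injective (e.trans (map_one _).symm))
  have b : ∀ x : K, x ≠ 1 → x * T.σ x ≠ 1 := fun x h e => h (inj1 (T := T) (by simpa using e))
  have h3 := a _ (b _ h)
  have h4 := b _ (b _ h)
  have h5 := a _ h3
  have h6 := a _ (a _ h)
  simp only [map_mul, map_pow, T.sq] at h3 h4 h5 h6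
  refine ⟨by simp, by rw [← map_mul]; simp, a _ h, b _ h, ?_, ?_, ?_, h6⟩ <;> grind

/-- the coordinates of a fixed point of a diagonal map -/
theorem fix_co {a b : K} {c : Co T} (h : dg T a b c = c) :
    (a * b ≠ 1 → c.b2 = 0) ∧ (a * T.σ a * (b * T.σ b) ≠ 1 → c.a2 = 0) ∧
    (a * T.σ a * (b ^ 2 * T.σ b) ≠ 1 → c.a3 = 0) ∧ (T.σ a * (b * T.σ b) ≠ 1 → c.b4 = 0) ∧
    (a ^ 2 * T.σ a * (b ^ 3 * T.σ b ^ 2) ≠ 1 → c.a4 = 0) ∧
    (a * T.σ a * (b ^ 2 * T.σ b ^ 2) ≠ 1 → c.a5 = 0) ∧ (a * (b * T.σ b) ≠ 1 → c.b6 = 0) ∧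
    (a * T.σ a * (b ^ 3 * T.σ b ^ 2) ≠ 1 → c.a6 = 0) ∧ (a * (b ^ 2 * T.σ b) ≠ 1 → c.a7 = 0) ∧
    (b ≠ 1 → c.b8 = 0) ∧ (b * T.σ b ≠ 1 → c.a8 = 0) :=
  ⟨z0 (congrArg Co.b2 h), z0 (congrArg Co.a2 h), z0 (congrArg Co.a3 h), z0 (congrArg Co.b4 h),
    z0 (congrArg Co.a4 h), z0 (congrArg Co.a5 h), z0 (congrArg Co.b6 h), z0 (congrArg Co.a6 h),
    z0 (congrArg Co.a7 h), z0 (congrArg Co.b8 h), z0 (congrArg Co.a8 h)⟩

theorem fpf (u : Kˣ) (h : (u : K) ≠ 1) {c : Co T} (hc : c.a1 = 0) (e : dg T 1 u c = c) : c = 1 := by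
  obtain ⟨-, -, n⟩ := ne1 (T := T) u h
  have k := fix_co e
  simp only [map_one, one_mul, one_pow] at k
  ext <;> simp <;> grind

theorem f8 (u : Kˣ) (h : (u : K) ≠ 1) {c : Co T} (hc : c.a1 = 0) (e : dg T u 1 c = c) :
    c = y8 T c.b8 * x8 T c.a8 := by
  obtain ⟨-, -, n⟩ := ne1 (T := T) u h
  have k := fix_co e
  simp only [map_one, mul_one, one_pow] at k
  ext <;> simp [y8, x8] <;> grind

theorem f2 (u : Kˣ) (h : (u : K) ≠ 1) {c : Co T} (hc : c.a1 = 0) (e : dg T (u⁻¹ : Kˣ) u c = c) :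
    c = y2 T c.b2 * x2 T c.a2 := by
  obtain ⟨-, -, n⟩ := ne1 (T := T) u h
  have u0 := u.ne_zero
  have s0 := (map_ne_zero T.σ).2 u0
  obtain ⟨k1, k2, k3, k4, k5, k6, k7, k8, k9, k10, k11⟩ := fix_co e
  simp only [map_mul, map_pow, T.sq, Units.val_inv_eq_inv_val, map_inv₀] at *
  ext <;> simp [y2, x2, hc] <;> apply_assumption <;> intro e <;> field_simp at e <;> grind

theorem f4 (u : Kˣ) (h : (u : K) ≠ 1) {c : Co T} (hc : c.a1 = 0)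
    (e : dg T ((u⁻¹ : Kˣ) ^ 2 * T.σ (u⁻¹ : Kˣ)) (u ^ 2) c = c) : c = y4 T c.b4 * ww T 0 c.a4 := by
  obtain ⟨-, -, n⟩ := ne1 (T := T) u h
  have u0 := u.ne_zero
  have s0 := (map_ne_zero T.σ).2 u0
  obtain ⟨k1, k2, k3, k4, k5, k6, k7, k8, k9, k10, k11⟩ := fix_co e
  simp only [map_mul, map_pow, T.sq, Units.val_inv_eq_inv_val, map_inv₀] at *
  ext <;> simp [y4, ww, hc] <;> apply_assumption <;> intro e <;> field_simp at e <;> grind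

theorem f6 (u : Kˣ) (h : (u : K) ≠ 1) {c : Co T} (hc : c.a1 = 0)
    (e : dg T ((u⁻¹ : Kˣ) * T.σ (u⁻¹ : Kˣ)) u c = c) : c = y6 T c.b6 * ww T c.a6 0 := by
  obtain ⟨-, -, n⟩ := ne1 (T := T) u h
  have u0 := u.ne_zero
  have s0 := (map_ne_zero T.σ).2 u0
  obtain ⟨k1, k2, k3, k4, k5, k6, k7, k8, k9, k10, k11⟩ := fix_co e
  simp only [map_mul, map_pow, T.sq, Units.val_inv_eq_inv_val, map_inv₀] at *
  ext <;> simp [y6, ww, hc] <;> apply_assumption <;> intro e <;> field_simp at e <;> grind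

/-- the hypotheses on the endomorphism -/
structure En (β : Co T → Co T) : Prop where
  mem : ∀ c, c.a1 = 0 → (β c).a1 = 0
  mul : ∀ c d, c.a1 = 0 → d.a1 = 0 → β (c * d) = β c * β d
  tor : ∀ (a b : Kˣ) c, c.a1 = 0 → β (dg T a b c) = dg T a b (β c)
  fw : ∀ s r, β (ww T s r) = ww T s r

namespace En
variable {β : Co T → Co T} (h : En β)
include h

theorem mul3 {c d e : Co T} (hc : c.a1 = 0) (hd : d.a1 = 0) (he : e.a1 = 0) :
    β (c * d * e) = β c * β d * β e := by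
  rw [h.mul _ _ (by simp [hc, hd]) he, h.mul _ _ hc hd]

/-- apply `β` to a relation `c d = d e c` -/
theorem rel {c d e : Co T} (hc : c.a1 = 0) (hd : d.a1 = 0) (he : e.a1 = 0) (r : c * d = d * e * c) :
    β c * β d = β d * β e * β c := by
  rw [← h.mul _ _ hc hd, r, h.mul3 hd he hc]

theorem fix {c d e : Co T} (hc : c.a1 = 0) (hd : d.a1 = 0) (he : e.a1 = 0) (r : c * d = d * e * c)
    (r' : β c * β d = β d * e * β c) : β e = e :=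
  mul_left_cancel (mul_right_cancel ((h.rel hc hd he r).symm.trans r'))

variable (u : Kˣ) (hu : (u : K) ≠ 1)
include hu

theorem s8 (t : K) : ∃ b a, β (y8 T t) = y8 T b * x8 T a := by
  have k := h.tor u 1 (y8 T t) rfl
  rw [show dg T u (1 : Kˣ) (y8 T t) = y8 T t by ext <;> simp [dg, y8]] at k
  exact ⟨_, _, f8 u hu (h.mem _ rfl) k.symm⟩

theorem s2 (t : K) : ∃ b a, β (y2 T t) = y2 T b * x2 T a := by
  have k := h.tor u⁻¹ u (y2 T t) rfl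
  rw [show dg T (u⁻¹ : Kˣ) u (y2 T t) = y2 T t by ext <;> simp [dg, y2]] at k
  exact ⟨_, _, f2 u hu (h.mem _ rfl) k.symm⟩

theorem s4 (t : K) : ∃ a, β (y4 T t) = y4 T t * ww T 0 a := by
  have s0 := (map_ne_zero T.σ).2 u.ne_zero
  have k : β (dg T ((u⁻¹ : Kˣ) ^ 2 * T.σ (u⁻¹ : Kˣ)) (u ^ 2) (y4 T t)) = dg T _ _ _ :=
    h.tor (u⁻¹ ^ 2 * Units.map (T.σ : K →* K) u⁻¹) (u ^ 2) (y4 T t) rfl
  rw [show dg T ((u⁻¹ : Kˣ) ^ 2 * T.σ (u⁻¹ : Kˣ)) (u ^ 2) (y4 T t) = y4 T t by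
    ext <;> simp [dg, y4, T.sq] <;> field_simp] at k
  obtain ⟨b, a, e⟩ : ∃ b a, β (y4 T t) = y4 T b * ww T 0 a := ⟨_, _, f4 u hu (h.mem _ rfl) k.symm⟩
  have q := h.mul (y4 T t) (y4 T t) rfl rfl
  rw [show y4 T t * y4 T t = ww T 0 (t * T.σ t) by ext <;> simp [y4, ww] <;> grind, h.fw, e] at q
  have q4 := congrArg Co.a4 q
  simp [y4, ww] at q4
  exact ⟨a, by rw [e, inj1 (T := T) (b := b) (t := t) (by grind)]⟩

theorem s6 (t : K) : ∃ a, β (y6 T t) = y6 T t * ww T a 0 := by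
  have s0 := (map_ne_zero T.σ).2 u.ne_zero
  have k : β (dg T ((u⁻¹ : Kˣ) * T.σ (u⁻¹ : Kˣ)) u (y6 T t)) = dg T _ _ _ :=
    h.tor (u⁻¹ * Units.map (T.σ : K →* K) u⁻¹) u (y6 T t) rfl
  rw [show dg T ((u⁻¹ : Kˣ) * T.σ (u⁻¹ : Kˣ)) u (y6 T t) = y6 T t by
    ext <;> simp [dg, y6, T.sq] <;> field_simp] at k
  obtain ⟨b, a, e⟩ : ∃ b a, β (y6 T t) = y6 T b * ww T a 0 := ⟨_, _, f6 u hu (h.mem _ rfl) k.symm⟩
  have q := h.mul (y6 T t) (y6 T t) rfl rfl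
  rw [show y6 T t * y6 T t = ww T (t * T.σ t) 0 by ext <;> simp [y6, ww] <;> grind, h.fw, e] at q
  have q6 := congrArg Co.a6 q
  simp [y6, ww] at q6
  exact ⟨a, by rw [e, inj1 (T := T) (b := b) (t := t) (by grind)]⟩

theorem r5 (t : K) : β (x5 T t) = x5 T t := by
  obtain ⟨a, ha⟩ := h.s4 u hu 1
  obtain ⟨a', ha'⟩ := h.s6 u hu t
  refine h.fix (c := y6 T t) (d := y4 T 1) rfl rfl rfl ?_ ?_
  · ext <;> simp [y6, y4, x5] <;> grind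
  · rw [ha, ha']; ext <;> simp [y6, y4, x5, ww] <;> grind

theorem t2 (t : K) : ∃ a, β (y2 T t) = y2 T t * x2 T a := by
  obtain ⟨b, a, e⟩ := h.s2 u hu t
  have k := h.rel (c := x5 T 1) (d := y2 T t) (e := ww T 0 t) rfl rfl rfl
    (by ext <;> simp [y2, x5, ww] <;> grind)
  rw [h.r5 u hu, h.fw, e] at k
  have k4 := congrArg Co.a4 k
  simp [y2, x2, x5, ww] at k4
  exact ⟨a, k4 ▸ e⟩

theorem t8 (t : K) : ∃ a, β (y8 T t) = y8 T t * x8 T a := by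
  obtain ⟨b, a, e⟩ := h.s8 u hu t
  have k := h.rel (c := y8 T t) (d := x5 T 1) (e := ww T t 0) rfl rfl rfl
    (by ext <;> simp [y8, x5, ww] <;> grind)
  rw [h.r5 u hu, h.fw, e] at k
  have k6 := congrArg Co.a6 k
  simp [y8, x8, x5, ww] at k6
  exact ⟨a, k6 ▸ e⟩

theorem r3 (t : K) : β (x3 T t) = x3 T t := by
  obtain ⟨a, ha⟩ := h.s4 u hu t
  obtain ⟨a', ha'⟩ := h.t2 u hu 1
  refine h.fix (c := y4 T t) (d := y2 T 1) rfl rfl rfl ?_ ?_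
  · ext <;> simp [y2, y4, x3] <;> grind
  · rw [ha, ha']; ext <;> simp [y2, x2, y4, x3, ww] <;> grind

theorem r7 (t : K) : β (x7 T t) = x7 T t := by
  obtain ⟨a, ha⟩ := h.s6 u hu t
  obtain ⟨a', ha'⟩ := h.t8 u hu 1
  refine h.fix (c := y8 T 1) (d := y6 T t) rfl rfl rfl ?_ ?_
  · ext <;> simp [y8, y6, x7] <;> grind
  · rw [ha, ha']; ext <;> simp [y8, x8, y6, x7, ww] <;> grind

theorem r2 (t : K) : β (y2 T t) = y2 T t := by
  obtain ⟨a, e⟩ := h.t2 u hu t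
  have k := h.rel (c := x7 T 1) (d := y2 T t) (e := ww T t (t * T.σ t) * x5 T (T.σ t)) rfl rfl
    (by simp [ww, x5]) (by ext <;> simp [y2, x5, x7, ww] <;> grind)
  rw [h.mul _ _ rfl rfl, h.r5 u hu, h.r7 u hu, h.fw, e] at k
  have k4 := congrArg Co.a4 k
  simp [y2, x2, x5, x7, ww] at k4
  rw [e, show a = 0 by grind]
  ext <;> simp [y2, x2]

theorem r8 (t : K) : β (y8 T t) = y8 T t := by
  obtain ⟨a, e⟩ := h.t8 u hu t
  have k := h.rel (c := y8 T t) (d := x3 T 1) (e := ww T 0 t * x5 T (T.σ t)) rfl rfl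
    (by simp [ww, x5]) (by ext <;> simp [y8, x5, x3, ww] <;> grind)
  rw [h.mul _ _ rfl rfl, h.r5 u hu, h.r3 u hu, h.fw, e] at k
  have k6 := congrArg Co.a6 k
  simp [y8, x8, x5, x3, ww] at k6
  rw [e, show a = 0 by grind]
  ext <;> simp [y8, x8]

theorem r46 (t s : K) : β (y4 T (T.σ t * s)) = y4 T (T.σ t * s) ∧
    β (y6 T (t * T.σ s)) = y6 T (t * T.σ s) := by
  obtain ⟨a, e⟩ := h.s4 u hu (T.σ t * s)
  obtain ⟨a', e'⟩ := h.s6 u hu (t * T.σ s)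
  have r : y8 T s * y2 T t = y2 T t * (x3 T (t * T.σ t * s) * y4 T (T.σ t * s) *
      (ww T 0 (t ^ 2 * T.σ t * (s * T.σ s)) * y6 T (t * T.σ s))) * y8 T s := by
    rw [show x3 T (t * T.σ t * s) * y4 T (T.σ t * s) *
      (ww T 0 (t ^ 2 * T.σ t * (s * T.σ s)) * y6 T (t * T.σ s)) = ⟨0, 0, 0, t * T.σ t * s, T.σ t * s,
        t ^ 2 * T.σ t * (s * T.σ s), 0, t * T.σ s, 0, 0, 0, 0⟩ by ext <;> simp [x3, y4, y6, ww]]
    ext <;> simp [y8, y2, T.sq] <;> grind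
  have k := h.fix rfl rfl (by simp [x3, y4, y6, ww]) r (by rw [h.r2 u hu, h.r8 u hu, r])
  rw [h.mul3 rfl rfl (by simp [y6, ww]), h.mul _ _ rfl rfl, h.r3 u hu, h.fw, e, e'] at k
  have k4 := congrArg Co.a4 k
  have k6 := congrArg Co.a6 k
  simp [x3, y4, y6, ww] at k4 k6
  rw [e, e', k4, k6]
  constructor <;> ext <;> simp [y4, y6, ww]

theorem rx2 (t : K) : β (x2 T t) = x2 T t := by
  have r : y2 T t * y2 T 1 = y2 T (t + 1) * x2 T t := by ext <;> simp [y2, x2]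
  have k := h.mul (y2 T (t + 1)) (x2 T t) rfl rfl
  rw [← r, h.mul _ _ rfl rfl, h.r2 u hu, h.r2 u hu, h.r2 u hu, r] at k
  exact (mul_left_cancel k).symm

theorem rx8 (t : K) : β (x8 T t) = x8 T t := by
  have r : y8 T t * y8 T 1 = y8 T (t + 1) * x8 T t := by ext <;> simp [y8, x8]
  have k := h.mul (y8 T (t + 1)) (x8 T t) rfl rfl
  rw [← r, h.mul _ _ rfl rfl, h.r8 u hu, h.r8 u hu, h.r8 u hu, r] at k
  exact (mul_left_cancel k).symm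

theorem eq_id (c : Co T) (hc : c.a1 = 0) : β c = c := by
  have m : ∀ {c d : Co T}, c.a1 = 0 ∧ β c = c → d.a1 = 0 ∧ β d = d →
      (c * d).a1 = 0 ∧ β (c * d) = c * d := fun k k' =>
    ⟨by simp [k.1, k'.1], by rw [h.mul _ _ k.1 k'.1, k.2, k'.2]⟩
  have e := nf c
  rw [show x1 T c.a1 * y2 T c.b2 = y2 T c.b2 by ext <;> simp [x1, y2, hc]] at e
  have f4 : β (y4 T c.b4) = y4 T c.b4 := by simpa using (h.r46 u hu 1 c.b4).1
  have f6 : β (y6 T c.b6) = y6 T c.b6 := by simpa using (h.r46 u hu c.b6 1).2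
  have g4 : β (x4 T c.a4) = x4 T c.a4 := h.fw 0 _
  have g6 : β (x6 T c.a6) = x6 T c.a6 := h.fw _ 0
  have k := (m (m (m (m (m (m (m (m (m (m ⟨rfl, h.r2 u hu c.b2⟩ ⟨rfl, h.rx2 u hu c.a2⟩)
    ⟨rfl, h.r3 u hu c.a3⟩) ⟨rfl, f4⟩) ⟨rfl, g4⟩) ⟨rfl, h.r5 u hu c.a5⟩) ⟨rfl, f6⟩) ⟨rfl, g6⟩)
    ⟨rfl, h.r7 u hu c.a7⟩) ⟨rfl, h.r8 u hu c.b8⟩) ⟨rfl, h.rx8 u hu c.a8⟩).2
  rwa [← e] at k

end En

end H66.Par
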