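/- `JobTorB`: the element `n₁` for `q > 2` (blueprints/PARROTT.md, TORB). -/
import Cfsg.Agent.H66.ParT1

set_option autoImplicit false
set_option linter.unusedSectionVars false
set_option linter.unusedSimpArgs false
set_option linter.unreachableTactic false
set_option linter.unusedTactic false
set_option linter.unnecessarySeqFocus false

open H63.Oc Subgroup

universe u v

namespace H66.Par

variable {K : Type v} [Field K] [CharP K 2] {T : TF K} {G : Type u} [Group G] {D : CS T G}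
  {f : K →+ K} {h : Kˣ × Kˣ →* G}

theorem dg_ww (a b s r : K) : dg T a b (ww T s r) = ww T (chi6 T a b * s) (chi4 T a b * r) := by
  ext <;> simp [dg, ww, chi4, chi6]

theorem x1_ww (c s r : K) : x1 T c * ww T s r * (x1 T c)⁻¹ = ww T s (r + c * s) := by
  ext <;> simp [x1, ww] <;> grind

theorem ww_mul (s r : K) : ww T s r = ww T s 0 * x4 T r := by ext <;> simp [x4, ww]

theorem eq_ww {c : Co T} (hc : c ∈ sW T) : c = ww T c.a6 c.a4 := by
  obtain ⟨_, _, _, _, _, _, _, _, _, _⟩ := hc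
  ext <;> simp [ww, *]

theorem q1_ww {c : Co T} (hc : c.a1 = 0) (s r : K) : c * ww T s r = ww T s r * c := by
  ext <;> simp [ww, hc] <;> grind

theorem nu1_dg (a b : Kˣ) {c : Co T} (hc : c.a1 = 0) :
    (dg T a b c).nu1 = dg T (a⁻¹ : Kˣ) (a * b : Kˣ) c.nu1 := by
  have s0 := (map_ne_zero T.σ).2 a.ne_zero
  have a0 := a.ne_zero
  ext <;> simp [dg, Co.nu1, T.sq, hc] <;> field_simp <;> grind

theorem lin (bc : BC D) (sp : Sp D f) (tor : Tor D h) {a : K} (a0 : a ≠ 0) (a1 : a ≠ 1) (t : K) :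
    f t = f 1 * t := by
  obtain ⟨g, -, hg, -⟩ := sp.swap
  have key : ∀ l : K, l ≠ 0 → ∃ c, ∀ t, f t = f (l * t) + c * (l * t) := fun l l0 => by
    obtain ⟨p, hp, -⟩ := bc.T0_fst (Units.mk0 l l0)⁻¹
    have c4 : chi4 T p.1.1 p.1.2 = 1 := p.2
    have c6 : chi6 T p.1.1 p.1.2 = l := by
      have : chi4 T p.1.1 p.1.2 = p.1.1 * chi6 T p.1.1 p.1.2 := by simp only [chi4, chi6]; ring
      rw [c4, hp] at this
      simp only [Units.val_inv_eq_inv_val, Units.val_mk0] at this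
      rw [hp, Units.val_inv_eq_inv_val, Units.val_mk0]
      exact ((inv_mul_eq_one₀ l0).1 this.symm).symm
    have e : ∀ t, h p * g * D.ι (x4 T t) * (h p * g)⁻¹ = D.ι (ww T (l * t) (f t)) := fun t => by
      rw [mul_inv_rev, show h p * g * D.ι (x4 T t) * (g⁻¹ * (h p)⁻¹) =
        h p * (g * D.ι (x4 T t) * g⁻¹) * (h p)⁻¹ by group, hg, tor.h_conj, dg_ww, c4, c6, one_mul]
    rcases sp.all (h p * g) (fun t => e t ▸ mem_map_of_mem _ (by simp [mem_sW, ww])) with k | ⟨c, k⟩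
    · obtain ⟨x, hx, k'⟩ := (mem_normalizer_iff.1 k (D.ι (x4 T 1))).1
        (mem_map_of_mem _ (by simp [mem_sZ, x4]))
      rw [e] at k'
      rw [D.inj k'] at hx
      exact absurd hx.2.2.2.2.2.2.2.1 (by simpa [ww] using l0)
    · refine ⟨c, fun t => ?_⟩
      obtain ⟨s, hs⟩ := k t
      rw [e] at hs
      have h1 : l * t = s := congrArg Co.a6 (D.inj hs)
      exact h1 ▸ congrArg Co.a4 (D.inj hs)
  obtain ⟨c, hc⟩ := key a a0
  obtain ⟨d, hd⟩ := key (1 + a) (fun e => a1 (by grind))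
  have h1 := hc t
  have h2 := hc 1
  have h3 := hd t
  have h4 := hd 1
  simp only [add_mul, one_mul, mul_one, map_add] at h1 h2 h3 h4
  grind

/-- `n` swaps the coordinates of `W` -/
def Sw (D : CS T G) (n : G) : Prop := ∀ s r, n * D.ι (ww T s r) = D.ι (ww T r s) * n

theorem exists_sw (sp : Sp D f) (hl : ∀ t, f t = f 1 * t) : ∃ n, Sw D n := by
  obtain ⟨g, -, h1, h2⟩ := sp.swap
  refine ⟨D.ι (x1 T (f 1)) * g * (D.ι (x1 T (f 1)))⁻¹, fun s r => mul_inv_eq_iff_eq_mul.1 ?_⟩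
  have e1 : (x1 T (f 1))⁻¹ * ww T s r * x1 T (f 1) = ww T s (f s) * x4 T r := by
    rw [hl s]; ext <;> simp [x1, ww, x4] <;> grind
  have e2 : x1 T (f 1) * (x4 T s * ww T r (f r)) * (x1 T (f 1))⁻¹ = ww T r s := by
    rw [hl r]; ext <;> simp [x1, ww, x4] <;> grind
  have e3 := congrArg D.ι e1
  rw [← e2]
  simp only [map_mul, map_inv] at e3 ⊢
  rw [← h1, ← h2]
  calc _ = D.ι (x1 T (f 1)) * g * ((D.ι (x1 T (f 1)))⁻¹ * D.ι (ww T s r) * D.ι (x1 T (f 1))) * g⁻¹ *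
        (D.ι (x1 T (f 1)))⁻¹ := by group
    _ = _ := by rw [e3]; group

variable [Finite K]

theorem exists_fix (cw : CW D) (tor : Tor D h) (u : Kˣ) (hu : (u : K) ≠ 1) {g : G} (hg : Sw D g) :
    ∃ n, Sw D n ∧ h (1, u) * n = n * h (1, u) := by
  let φ : sQ1 T →* sQ1 T := MonoidHom.mk' (fun c => ⟨dg T 1 u c, by
    have : c.1.a1 = 0 := c.2
    simp [mem_sQ1, dg, this]⟩) fun c d => Subtype.ext (dg_mul _ _ _ _)
  have hφ : MonoidHom.FixedPointFree φ := fun c e => Subtype.ext (fpf u hu c.2 (congrArg Subtype.val e))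
  have k : ∀ s r, h (1, u) * D.ι (ww T s r) =
      D.ι (ww T (chi4 T 1 u * s) (chi4 T 1 u * r)) * h (1, u) := fun s r => by
    rw [← mul_inv_eq_iff_eq_mul, tor.h_conj, dg_ww]; simp [chi4, chi6]
  obtain ⟨v, hv, e⟩ := cw (g⁻¹ * (h (1, u) * g * (h (1, u))⁻¹)) fun c hc => by
    have x0 : chi4 T 1 u ≠ 0 := by simp [chi4]
    have k' : ∀ s r, SemiconjBy (h (1, u)) (D.ι (ww T ((chi4 T 1 u)⁻¹ * s) ((chi4 T 1 u)⁻¹ * r)))
        (D.ι (ww T s r)) := fun s r => by
      have := k ((chi4 T 1 u)⁻¹ * s) ((chi4 T 1 u)⁻¹ * r)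
      rwa [mul_inv_cancel_left₀ x0, mul_inv_cancel_left₀ x0] at this
    rw [eq_ww hc]
    exact (SemiconjBy.inv_symm_left (hg _ _)).mul_left
      (((k' _ _).mul_left (hg _ _)).mul_left (k' _ _).inv_symm_left)
  obtain ⟨c, hc⟩ := hφ.commutatorMap_surjective ⟨v, hv⟩
  have hc' : D.ι c * (h (1, u) * D.ι c * (h (1, u))⁻¹)⁻¹ = D.ι v := by
    rw [tor.h_conj, ← map_inv, ← map_mul, ← div_eq_mul_inv]
    exact congrArg D.ι (congrArg Subtype.val hc)
  refine ⟨g * D.ι c, fun s r => by rw [mul_assoc, ← map_mul, q1_ww c.2, map_mul, ← mul_assoc, hg,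
    mul_assoc], ?_⟩
  rw [e] at hc'
  calc _ = g * (g⁻¹ * (h (1, u) * g * (h (1, u))⁻¹)) * h (1, u) * D.ι c := by group
    _ = _ := by rw [← hc']; group

theorem one_of (cw : CW D) (tor : Tor D h) (u : Kˣ) (hu : (u : K) ≠ 1) {x : G}
    (h1 : ∀ s r, x * D.ι (ww T s r) = D.ι (ww T s r) * x) (h2 : h (1, u) * x = x * h (1, u)) :
    x = 1 := by
  obtain ⟨c, hc, rfl⟩ := cw x fun c hc => by rw [eq_ww hc, h1]
  rw [← mul_inv_eq_iff_eq_mul, tor.h_conj] at h2
  rw [fpf u hu hc (D.inj h2), map_one]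

theorem jobTorB : JobTorB.{u, v} := by
  intro K _ _ _ T G _ _ D f h ⟨a, a0, a1⟩ loc sp tor
  obtain ⟨g, hg⟩ := exists_sw sp (lin loc.bc sp tor a0 a1)
  set u := Units.mk0 a a0
  have hu : (u : K) ≠ 1 := a1
  obtain ⟨n, hn, hk⟩ := exists_fix loc.cw tor u hu hg
  have one := fun x => one_of (x := x) loc.cw tor u hu
  have ck : Commute (h (1, u)) n := hk
  have ch : ∀ p, Commute (h (1, u)) (h p) := fun p => (Commute.all _ _).map h
  have hw : ∀ (p : Kˣ × Kˣ) s r, h p * D.ι (ww T s r) =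
      D.ι (ww T (chi6 T p.1 p.2 * s) (chi4 T p.1 p.2 * r)) * h p := fun p s r => by
    rw [← mul_inv_eq_iff_eq_mul, tor.h_conj, dg_ww]
  have sq : n * n = 1 := one _ (fun s r => by rw [mul_assoc, hn, ← mul_assoc, hn, mul_assoc])
    (ck.mul_right ck)
  have nh : ∀ p, n * h p * n = h (w1 p) := fun p => by
    refine mul_inv_eq_one.1 (one _ (fun s r => ?_)
      (((ck.mul_right (ch p)).mul_right ck).mul_right (ch _).inv_right))
    have s0 := (map_ne_zero T.σ).2 p.1.ne_zero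
    have s1 := (map_ne_zero T.σ).2 p.2.ne_zero
    rw [← map_inv, mul_assoc, hw, ← mul_assoc, mul_assoc _ n, hn, ← mul_assoc, mul_assoc n, hw,
      ← mul_assoc, hn]
    simp only [mul_assoc]
    congr 3 <;> simp [w1, chi4, chi6] <;> field_simp
  have q1 : ∀ c : Co T, ∃ d : Co T, c.a1 = 0 → d.a1 = 0 ∧ D.ι d = n * D.ι c.nu1 * n := fun c => by
    obtain ⟨d, hd, e⟩ := loc.cw (n * D.ι c.nu1 * n) fun w hw => by
      rw [eq_ww hw, mul_assoc, hn, ← mul_assoc, mul_assoc n, ← map_mul, q1_ww rfl, map_mul,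
        ← mul_assoc, hn]
      simp only [mul_assoc]
    exact ⟨d, fun _ => ⟨hd, e⟩⟩
  choose β hβ using q1
  have nn : ∀ x, n * (n * x) = x := fun x => by rw [← mul_assoc, sq, one_mul]
  have en : En β :=
    { mem := fun c hc => (hβ c hc).1
      mul := fun c d hc hd => D.inj (by
        rw [map_mul, (hβ c hc).2, (hβ d hd).2, (hβ _ (by simp [hc, hd])).2, nu1_mul hc hd, map_mul]
        simp only [mul_assoc, nn])
      tor := fun a b c hc => D.inj (by
        rw [(hβ _ (by simp [dg, hc])).2, nu1_dg a b hc, ← tor.h_conj (a⁻¹, a * b),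
          ← tor.h_conj (a, b), show ((a⁻¹, a * b) : Kˣ × Kˣ) = w1 (a, b) from rfl, (hβ c hc).2, ← nh]
        simp only [mul_assoc, nn, mul_inv_rev, inv_eq_of_mul_eq_one_right sq, sq, mul_one])
      fw := fun s r => D.inj (by
        rw [(hβ _ rfl).2, show (ww T s r).nu1 = ww T r s by ext <;> simp [Co.nu1, ww], hn, mul_assoc,
          sq, mul_one]) }
  refine ⟨⟨D, h, n, tor, sq, fun c hc => ?_, nh, one _ (fun s r => ?_) (ck.mul_right ?_ |>.pow_right 3)⟩, rfl⟩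
  · have := (hβ c hc).2
    rw [en.eq_id u hu c hc] at this
    rw [this]
    simp only [mul_assoc, nn, sq, mul_one]
  · have k : ∀ s r, SemiconjBy (n * D.ι (x1 T 1)) (D.ι (ww T s r)) (D.ι (ww T (r + s) s)) :=
      fun s r => SemiconjBy.mul_left (hn _ _) (SemiconjBy.map (mul_inv_eq_iff_eq_mul.1
        (by rw [x1_ww, one_mul])) D.ι)
    have := (k _ _).mul_left ((k _ _).mul_left (k s r))
    rwa [show r + s + (s + (r + s)) = s by grind, show s + (r + s) = r by grind, ← pow_three] at this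
  · refine mul_inv_eq_iff_eq_mul.1 ((tor.h_conj _ _).trans (congrArg D.ι ?_))
    ext <;> simp [dg, x1]

end H66.Par
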