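import Cfsg.Agent.H82.HRSpec
import Cfsg.Agent.H66.SzSylow
import Cfsg.Agent.H11.QdSylow
import Cfsg.Agent.H61.PSLMin

/-! The groups `PSL₂(2ⁿ)` and `Sz(q)` as Bender groups (jobs `L2`, `Sz` of blueprint `HR.md`). -/

set_option autoImplicit false

namespace H66.HR

open Cfsg Subgroup H89.K H98 H82.HR Matrix MatrixGroups

section frame

variable {G : Type*} [Group G] {U D : Subgroup G} {w : G}

theorem mem_nor_cj {g : G} : g ∈ nor (cj w U) ↔ w⁻¹ * g * w ∈ nor U := by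
  rw [nor, ← cj_normalizer, mem_cj]

theorem frame_ti (h : ∀ x ∈ U, w⁻¹ * x * w ∈ nor U → x = 1) : U ⊓ nor (cj w U) = ⊥ :=
  eq_bot_iff.2 fun x hx => h x hx.1 (mem_nor_cj.1 hx.2)

theorem frame_bru (h : ∀ g, g ∈ nor U ∨ ∃ x ∈ U, ∃ b ∈ nor U, g = x * w * b) :
    ∀ g ∈ (⊤ : Subgroup G), g ∈ nor U ∨ ∃ x ∈ U, cj g U = cj x (cj w U) := fun g _ =>
  (h g).imp_right fun ⟨x, hx, b, hb, e⟩ =>
    ⟨x, hx, by rw [e, ← cj_cj, ← cj_cj, cj_eq_self hb]⟩

theorem frame_DD (h : ∀ g, g ∈ D ↔ g ∈ nor U ∧ w⁻¹ * g * w ∈ nor U) :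
    DD ⊤ U (cj w U) = D := by
  ext g
  rw [h, mem_inf, mem_inf, mem_nor_cj]
  simp

theorem ZZ_eq_self (h : ∀ x ∈ U, x * x = 1) : ZZ U = U :=
  le_antisymm (fun _ hz => hz.1) fun z hz => ⟨hz, h z hz, fun x hx => by
    rw [← inv_eq_of_mul_eq_one_right (h _ (mul_mem hx hz)), _root_.mul_inv_rev,
      inv_eq_of_mul_eq_one_right (h x hx), inv_eq_of_mul_eq_one_right (h z hz)]⟩

/-- If the square determines the coset of `Ω₁`, automorphisms fixing all involutions are trivial on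
the quotient. -/
theorem q2_of_sq (h1 : ∀ x ∈ U, x * x * (x * x) = 1)
    (h : ∀ x ∈ U, ∀ y ∈ U, x * x = y * y → x * y⁻¹ * (x * y⁻¹) = 1) : Q2 U :=
  fun α _ hα _ _ _ _ => ⟨α, Or.inl rfl, fun y => Subtype.ext (h _ (α y).2 _ y.2
    (congrArg Subtype.val ((map_mul α y y).symm.trans (hα _ (Subtype.ext (h1 y y.2))))))⟩

end frame

section L2

variable {F : Type*} [Field F]

/-- The diagonal torus. -/
def dg : Fˣ →* SL(2, F) := MonoidHom.mk'
  (fun k => ⟨!![(k : F), 0; 0, ((k⁻¹ : Fˣ) : F)], by simp [det_fin_two]⟩) fun k l => by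
    apply H11.sl_ext <;> refine Eq.trans ?_ (H11.sl_mul_apply _ _ _ _).symm <;> simp [mul_comm]

/-- The Weyl element. -/
def wl : SL(2, F) := ⟨!![0, -1; 1, 0], by simp [det_fin_two]⟩

theorem wl_conj_10 (g : SL(2, F)) : (wl⁻¹ * g * wl : SL(2, F)) 1 0 = -g 0 1 := by
  simp only [H11.sl_mul_apply, H11.sl_inv_10, H11.sl_inv_11]
  simp [wl]

theorem bg_sl2 [Finite F] [CharP F 2] {G : Type*} [Group G] [IsSimpleGroup G]
    (e : SL(2, F) ≃* G) (h4 : 4 ≤ Nat.card F) : BG (⊤ : Subgroup G) (Nat.card F) := by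
  have : Fact (Nat.Prime 2) := ⟨Nat.prime_two⟩
  let U : Subgroup G := (H11.uSub F).map e.toMonoidHom
  have hU : ∀ g, e g ∈ U ↔ g ∈ H11.uSub F := fun g => mem_map_iff_mem e.injective
  have hn : ∀ g, e g ∈ nor U ↔ g 1 0 = 0 := fun g => by
    refine ⟨fun h => ?_, fun h => map_le_normalizer_map e.toMonoidHom le_rfl
      ⟨g, H11.mem_normalizer_uSub h, rfl⟩⟩
    have h1 := conj_mem_of_mem_normalizer h ((hU _).2 (H11.uMat_mem_uSub 1))
    rw [← map_inv, ← map_mul, ← map_mul, hU] at h1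
    obtain ⟨x, hx⟩ := H11.mem_uSub.1 h1
    have h2 := H11.conj_uMat_10 1 g
    rw [← hx] at h2
    simpa using h2
  have hw : ∀ g, (e wl)⁻¹ * e g * e wl ∈ nor U ↔ g 0 1 = 0 := fun g => by
    rw [← map_inv, ← map_mul, ← map_mul, hn, wl_conj_10, neg_eq_zero]
  have hsq : ∀ x ∈ U, x * x = 1 := by
    rintro _ ⟨_, ⟨t, rfl⟩, rfl⟩
    change e (H11.uMat _) * e (H11.uMat _) = 1
    rw [← map_mul, ← H11.uMat_add, CharTwo.add_self_eq_zero, H11.uMat_zero, map_one]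
  have hZ := ZZ_eq_self hsq
  have hS : IsSyl 2 U ⊤ := by
    have := (isSyl_sylow (H11.sylU (F := F) 2)).map_of_injective (f := e.toMonoidHom) e.injective
    rwa [map_top_of_surjective _ e.surjective] at this
  have hD : DD ⊤ U (cj (e wl) U) = (e.toMonoidHom.comp dg).range := frame_DD fun g => by
    obtain ⟨g, rfl⟩ := e.surjective g
    rw [hn, hw]
    constructor
    · rintro ⟨k, hk⟩
      rw [← e.injective hk]
      exact ⟨rfl, rfl⟩
    · rintro ⟨h1, h2⟩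
      have hd := H11.sl_det g
      rw [h1, mul_zero, sub_zero] at hd
      refine ⟨Units.mk0 _ (left_ne_zero_of_mul_eq_one hd), congrArg e ?_⟩
      exact H11.sl_ext rfl h2.symm h1.symm
        ((Units.val_inv_eq_inv_val _).trans (eq_inv_of_mul_eq_one_right hd).symm)
  refine ⟨U, cj (e wl) U, topEquiv.isSimpleGroup, h4, hS, hS.cj_of_mem (mem_top _),
    frame_ti ?_, frame_bru fun g => ?_, fun z hz _ => hZ.ge hz, ?_, fun x hx => ?_, Or.inl hZ.ge,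
    ?_, ?_, fun X h1 h2 _ => Or.inr (le_antisymm h2 (hZ.ge.trans h1)), q2_of_sq ?_ ?_⟩
  · rintro _ ⟨_, ⟨t, rfl⟩, rfl⟩ h
    have h1 : t.toAdd = 0 := (hw _).1 h
    change e (H11.uMat t.toAdd) = 1
    rw [h1, H11.uMat_zero, map_one]
  · obtain ⟨g, rfl⟩ := e.surjective g
    rw [hn, or_iff_not_imp_left]
    refine fun h => ⟨_, (hU _).2 (H11.uMat_mem_uSub (g 0 0 / g 1 0)),
      e (wl⁻¹ * (H11.uMat (-(g 0 0 / g 1 0)) * g) * 1), (hn _).2 ?_, ?_⟩
    · simp only [mul_one, H11.sl_mul_apply, H11.sl_inv_10, H11.sl_inv_11]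
      simp [wl, h]
    · rw [← map_mul, ← map_mul, H11.uMat_neg]
      congr 1
      group
  · rw [hZ, card_map_of_injective e.injective, H11.card_uSub]
  · rw [hsq x hx]; exact one_mem _
  · rw [hD]
    exact isCyclic_of_surjective _ (e.toMonoidHom.comp dg).rangeRestrict_surjective
  · rw [hZ, hD]
    rintro _ ⟨_, ⟨s, rfl⟩, rfl⟩ _ ⟨_, ⟨t, rfl⟩, rfl⟩ hs ht
    have key : ∀ s : Multiplicative F, e (H11.uMat s.toAdd) ≠ 1 → s.toAdd ≠ 0 := fun s hs h =>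
      hs (by rw [h, H11.uMat_zero, map_one])
    obtain ⟨k, hk⟩ := surjective_frobenius F 2 (t.toAdd / s.toAdd)
    have hk0 : k ≠ 0 := by
      rintro rfl
      exact div_ne_zero (key t ht) (key s hs) (hk.symm.trans (map_zero _))
    refine ⟨_, ⟨Units.mk0 k hk0, rfl⟩, ?_⟩
    change e _ * e (H11.uMat s.toAdd) * (e _)⁻¹ = e (H11.uMat t.toAdd)
    rw [← map_inv, ← map_mul, ← map_mul, H11.conj_uMat_of_10 rfl]
    congr 2
    exact (congrArg (· * s.toAdd) hk).trans (div_mul_cancel₀ _ (key s hs))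
  · intro x hx
    rw [hsq x hx, one_mul]
  · exact fun x hx y hy _ => hsq _ (mul_mem hx (inv_mem hy))

theorem jobL2 : H82.HR.JobL2 := by
  intro F _ _ n hn hF
  have h2 : CharP F 2 := by
    have : ringChar F = 2 := FiniteField.even_card_iff_char_two.2 (by
      rw [hF]; exact Nat.mod_eq_zero_of_dvd (dvd_pow_self 2 (by omega)))
    exact this ▸ ringChar.charP F
  have h4 : 4 ≤ Nat.card F := by
    rw [Nat.card_eq_fintype_card, hF]
    exact Nat.pow_le_pow_right two_pos hn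
  have := H61.isSimpleGroup_psl h4
  have hc : center SL(2, F) = ⊥ := eq_bot_iff.2 fun z hz => by
    obtain ⟨r, hr, hz⟩ := Matrix.SpecialLinearGroup.mem_center_iff.mp hz
    rw [Fintype.card_fin, sq_eq_one_iff, CharTwo.neg_eq, or_self] at hr
    exact Subtype.ext (by rw [← hz, hr]; simp)
  rw [← hF, ← Nat.card_eq_fintype_card]
  exact bg_sl2 ((QuotientGroup.quotientMulEquivOfEq hc).trans QuotientGroup.quotientBot).symm h4

end L2

section Sz

variable {F : Type*} [Field F] {T : Tits F} {G : Type*} [Group G] (M : Model T G) {m : ℕ}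

include M in
theorem bg_sz (hT : T.IsFin m) : BG (⊤ : Subgroup G) (Nat.card F) := by
  have := hT.finite
  have := M.isSimpleGroup hT
  have hn : ∀ g, g ∈ nor M.Q ↔ g • M.inf = M.inf := fun g => by rw [nor, M.normalizer_Q, M.mem_B]
  have hw : ∀ g, M.w⁻¹ * g * M.w ∈ nor M.Q ↔ g • M.pt 0 0 = M.pt 0 0 := fun g => by
    rw [hn, mul_smul, mul_smul, inv_smul_eq_iff, M.w_inf]
  have hZ : ZZ M.Q = M.Z := le_antisymm (fun z hz => M.mem_Z_of_central hT hz.1 hz.2.2) (by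
    intro z hz
    obtain ⟨b, rfl⟩ := M.mem_Z.1 hz
    refine ⟨M.u_mem_Q _ _, M.z_mul_self b, fun x hx => ?_⟩
    obtain ⟨c, d, rfl⟩ := M.mem_Q.1 hx
    exact (M.z_comm b c d).symm)
  have hS : IsSyl 2 M.Q ⊤ := isSyl_sylow (M.sylowQ hT)
  have hD : DD ⊤ M.Q (cj M.w M.Q) = M.H := frame_DD fun g => by rw [hn, hw, M.mem_H']
  refine ⟨M.Q, cj M.w M.Q, topEquiv.isSimpleGroup, le_trans (by norm_num) hT.eight_le, hS,
    hS.cj_of_mem (mem_top _), frame_ti fun x hx h => ?_, frame_bru fun g => ?_, fun z hz h => ?_,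
    hZ ▸ M.card_Z, fun x hx => ?_, Or.inr ?_, ?_, ?_, fun X h1 h2 h3 => ?_, q2_of_sq ?_ ?_⟩
  · obtain ⟨a, b, rfl⟩ := M.mem_Q.1 hx
    exact M.u_fix_pt ((hw _).1 h)
  · rw [hn, or_iff_not_imp_left]
    intro h
    obtain ⟨a, b, k, c, d, rfl⟩ := M.not_fix_inf h
    refine ⟨_, M.u_mem_Q a b, M.h k⁻¹ * M.u c d, (hn _).2 (by rw [mul_smul, M.u_inf, M.h_inf]), ?_⟩
    rw [mul_assoc (M.u a b), M.h_mul_w]
    simp only [mul_assoc]
  · exact hZ.ge (M.mem_Z_of_sq (M.Q_le_B hz) (by rw [sq, h]))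
  · obtain ⟨a, b, rfl⟩ := M.mem_Q.1 hx
    rw [hZ, M.u_mul_self]
    exact M.u_mem_Z _
  · obtain ⟨c, hc⟩ := Model.exists_not_commute hT (one_ne_zero (α := F))
    refine ⟨_, M.u_mem_Q 1 0, _, M.u_mem_Q c 0, fun e => hc ?_⟩
    have := M.u_commutator 1 0 c 0
    rw [e, mul_inv_cancel_right, mul_inv_cancel] at this
    exact (M.u_eq_one.1 this.symm).2
  · rw [hD]
    exact isCyclic_of_surjective _ M.hEquiv.surjective
  · rw [hZ, hD]
    intro y hy z hz hy1 hz1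
    obtain ⟨b, rfl⟩ := M.mem_Z.1 hy
    obtain ⟨d, rfl⟩ := M.mem_Z.1 hz
    have hb : b ≠ 0 := fun e => hy1 (M.u_eq_one.2 ⟨rfl, e⟩)
    have hd : d ≠ 0 := fun e => hz1 (M.u_eq_one.2 ⟨rfl, e⟩)
    obtain ⟨k, hk⟩ := hT.chi_surj (div_ne_zero hd hb)
    exact ⟨_, M.h_mem_H k, by rw [M.h_conj, hk, mul_zero, div_mul_cancel₀ _ hb]⟩
  · rw [hZ] at h1 ⊢
    rw [hD] at h3
    rw [or_iff_not_imp_left]
    intro h
    obtain ⟨x, hx, hxZ⟩ := SetLike.exists_of_lt (lt_of_le_of_ne h1 (Ne.symm h))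
    obtain ⟨a, b, rfl⟩ := M.mem_Q.1 (h2 hx)
    rw [M.u_mem_Z_iff] at hxZ
    refine le_antisymm h2 fun y hy => ?_
    obtain ⟨c, d, rfl⟩ := M.mem_Q.1 hy
    by_cases hc : c = 0
    · exact h1 (M.u_mem_Z_iff.2 hc)
    obtain ⟨k, hk⟩ := hT.θ_surj_units (div_ne_zero hc hxZ)
    have h4 := conj_mem_of_mem_normalizer (h3 (M.h_mem_H k)) hx
    rw [M.h_conj, hk, div_mul_cancel₀ _ hxZ] at h4
    have h5 := mul_mem (h1 (M.u_mem_Z (d - c / a * k ^ 2 * b))) h4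
    rwa [M.u_mul, zero_add, map_zero, zero_mul, add_zero, sub_add_cancel] at h5
  · intro x hx
    obtain ⟨a, b, rfl⟩ := M.mem_Q.1 hx
    rw [M.u_mul_self, M.z_mul_self]
  · intro x hx y hy h
    obtain ⟨a, b, rfl⟩ := M.mem_Q.1 hx
    obtain ⟨c, d, rfl⟩ := M.mem_Q.1 hy
    rw [M.u_mul_self, M.u_mul_self, M.u_inj] at h
    rw [T.norm_inj h.2, M.u_inv, M.u_mul, T.add_self, M.z_mul_self]

theorem jobSz : JobSz := by
  intro F _ _ m hm hF
  have hT := titsOf_isFin F hm hF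
  rw [← hF, ← Nat.card_eq_fintype_card]
  exact bg_sz (modelB hT) hT

end Sz

end H66.HR
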