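import Cfsg.Agent.H36.QFK0
import Cfsg.Agent.H66.SzMult
import Cfsg.Agent.H66.SzAut

/-! The Suzuki groups and their covers in tower QF (job `FSz` of blueprint `QF.md`). -/

set_option autoImplicit false

namespace H66.QF

open Cfsg Subgroup H14 H98 H97 H36.QE H36.QF H21
open H14.CO (cen cen1 nor cm Tw mem_cen mem_cen1)
open scoped commutatorElement

universe u v

variable {F : Type*} [Field F] {T : Tits F} {G : Type u} [Group G] (M : Model T G) {m : ℕ}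

include M in
theorem pow_mem_Inn (hT : T.IsFin m) (a : MulAut G) : a ^ (2 * m + 1) ∈ H36.QF.Inn G := by
  have hn : (H36.QF.Inn G).Normal := ⟨by
    rintro _ ⟨x, rfl⟩ b
    exact ⟨b x, (aut_conj b x).symm⟩⟩
  obtain ⟨x, τ, rfl⟩ := M.exists_conj_fld hT a
  let f : (F ≃+* F) →* MulAut G := MonoidHom.mk' (M.fld hT) (M.fld_mul hT)
  have h1 : f τ ^ (2 * m + 1) = 1 := by rw [← map_pow, ← hT.card_ringAut, pow_card_eq_one', map_one]
  rw [← QuotientGroup.eq_one_iff, QuotientGroup.mk_pow, QuotientGroup.mk_mul,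
    (QuotientGroup.eq_one_iff _).2 (conj_mem_Inn x), one_mul, ← QuotientGroup.mk_pow]
  exact congrArg _ h1

include M in
theorem inn_of_tw (hT : T.IsFin m) (a : MulAut G) (h : Tw a) : a ∈ H36.QF.Inn G := by
  obtain ⟨n, hn⟩ := h
  have hc : (2 * m + 1).Coprime (orderOf a) := Nat.Coprime.coprime_dvd_right
    (orderOf_dvd_of_pow_eq_one hn) ((Nat.coprime_two_right.2 ⟨m, rfl⟩).pow_right n)
  obtain ⟨j, hj⟩ := exists_pow_eq_self_of_coprime hc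
  exact hj ▸ pow_mem (pow_mem_Inn M hT a) j

include M in
theorem sz_one (hT : T.IsFin m) : H36.QE.One G := fun x y hx hy => by
  obtain ⟨g, rfl⟩ := M.exists_conj_eq_z hT (by rw [sq, hx.2]) hx.1
  obtain ⟨k, rfl⟩ := M.exists_conj_eq_z hT (by rw [sq, hy.2]) hy.1
  exact (isConj_iff.2 ⟨g, rfl⟩).symm.trans (isConj_iff.2 ⟨k, rfl⟩)

theorem not_comm_Q (hT : T.IsFin m) : ¬ IsMulCommutative M.Q := fun h => by
  obtain ⟨c, hc⟩ := Model.exists_not_commute hT (one_ne_zero (α := F))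
  have e : M.u 1 0 * M.u c 0 = M.u c 0 * M.u 1 0 :=
    congrArg Subtype.val (h.is_comm.comm ⟨_, M.u_mem_Q 1 0⟩ ⟨_, M.u_mem_Q c 0⟩)
  have := M.u_commutator 1 0 c 0
  rw [e, mul_inv_cancel_right, mul_inv_cancel] at this
  exact hc (M.u_eq_one.1 this.symm).2

theorem sq_iff_cen (hT : T.IsFin m) {x : G} (hx : x ∈ M.Q) : x * x = 1 ↔ x ∈ cen M.Q := by
  constructor
  · intro h
    obtain ⟨b, rfl⟩ := M.mem_Z.1 (M.mem_Z_of_sq (M.Q_le_B hx) (by rw [sq, h]))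
    intro y hy
    obtain ⟨c, d, rfl⟩ := M.mem_Q.1 hy
    exact (M.z_comm b c d).symm
  · intro h
    obtain ⟨b, rfl⟩ := M.mem_Z.1 (M.mem_Z_of_central hT hx h)
    exact M.z_mul_self b

include M in
theorem exists_Q (hT : T.IsFin m) {U : Subgroup G} (hU : IsSyl 2 U ⊤) :
    ∃ N : Model T G, U = N.Q := by
  obtain ⟨P, rfl⟩ := isSyl_top_iff.1 hU
  obtain ⟨x, hx⟩ := M.sylow_eq hT P
  exact ⟨_, hx⟩

include M in
theorem sz_ks (hT : T.IsFin m) : KS G := by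
  have := hT.finite
  have := M.finite
  refine ⟨outD_of_sub le_top ⟨m, rfl⟩ fun a _ => pow_mem_Inn M hT a,
    fun a ha => absurd (inn_of_tw M hT a ⟨1, by rw [pow_one, sq, ha.1]⟩) ha.2,
    ni_of_zi fun w hw => zi_of_one (sz_one M hT) hw,
    Or.inl (uf2_of (isSyl_sylow (M.sylowQ hT)) (not_comm_Q M hT)
      (fun x _ y _ _ _ hx hy => sz_one M hT x y hx hy)
      ⟨fun a ha _ => inn_of_tw M hT a ha, fun x hx h => (sq_iff_cen M hT hx).2 h⟩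
      fun P hP _ h => absurd (fun a ha => inn_of_tw M hT a (isPGroup_iff_forall.1 hP a ha)) h)⟩

section cover

variable {J : Type v} [Group J] [Finite J] {π : J →* G}

/-- A subgroup of the kernel that contains the commutators of `Q` with `Z` is the kernel. -/
theorem ker_le (hT : T.IsFin m) (hπ : IsStemExtension π) (h2 : IsPGroup 2 π.ker) {K : Subgroup J}
    (hK : K ≤ π.ker) (hc : ∀ a b : J, π a ∈ M.Q → π b ∈ M.Z → ⁅a, b⁆ ∈ K) : π.ker ≤ K := by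
  intro z hz
  have := hT.finite
  have := M.finite
  have h4 := M.mem_of_commutator_mem hT hπ.1 hπ.2.1 hK hc (pow_mem hz _)
    (pow_index_mem_commutator (M.Q.comap π) (hπ.2.1 hz) (hπ.2.2 hz))
  rw [index_comap_of_surjective _ hπ.1] at h4
  obtain ⟨n, hn⟩ := isPGroup_iff_forall.1 h2 z hz
  have h5 : M.Q.index.Coprime (orderOf z) := Nat.Coprime.coprime_dvd_right
    (orderOf_dvd_of_pow_eq_one hn) ((Nat.coprime_two_right.2 (Nat.not_even_iff_odd.1 fun e =>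
      (M.sylowQ hT).not_dvd_index e.two_dvd)).pow_right n)
  obtain ⟨j, hj⟩ := exists_pow_eq_self_of_coprime h5
  exact hj ▸ pow_mem h4 j

omit [Finite J] in
theorem cm_ZZ (hT : T.IsFin m) (hπ : IsStemExtension π) {x y : G} (hx : x ∈ M.Z) (hy : y ∈ M.Z) :
    Cm π x y :=
  cm_of_noPair hπ.1 hπ.2.1 (fun _ hh _ hx => M.conj_mem_Z (M.H_le_B hh) hx)
    (fun _ hh _ hx => M.conj_mem_Z (M.H_le_B hh) hx) (by
      rintro _ ⟨b, rfl⟩ _ ⟨c, rfl⟩
      exact M.z_comm _ _ _) (M.noPair_ZZ hT) hx hy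

include M in
theorem sz_l2 (hT : T.IsFin m) (hπ : IsStemExtension π) (h2 : IsPGroup 2 π.ker) (y : J)
    (hy : π y * π y = 1) : y * y = 1 := by
  obtain ⟨φ, h0, -, hφ⟩ := M.exists_hom_commutator hT hπ.1 hπ.2.1
  have hK : ∀ z : J, π z = 1 → z * z = 1 := fun z hz => by
    obtain ⟨t, rfl⟩ := ker_le M hT hπ h2 h0 hφ hz
    rw [← map_mul]
    exact (congrArg φ (congrArg Multiplicative.ofAdd (T.add_self t.toAdd))).trans φ.map_one
  by_cases h1 : π y = 1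
  · exact hK y h1
  have key : ∀ a b : J, CO.Inv (π a) → CO.Inv (π b) → a * a = b * b := fun a b ha hb => by
    obtain ⟨g, hg⟩ := isConj_iff.1 (sz_one M hT _ _ ha hb)
    obtain ⟨g, rfl⟩ := hπ.1 g
    rw [← map_inv, ← map_mul, ← map_mul] at hg
    obtain ⟨z, hz, hz1, e⟩ := eq_mul_central hπ.2.1 hg.symm
    have h3 : a * a ∈ center J := hπ.2.1 (by rw [MonoidHom.mem_ker, map_mul, ha.2])
    rw [e, mul_mul_central hz, hK z hz1, mul_one, conj_mul, mem_center_iff.1 h3,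
      mul_inv_cancel_right]
  obtain ⟨t, t0, t1⟩ := hT.exists_ne
  obtain ⟨a, ha⟩ := hπ.1 (M.u 0 1)
  obtain ⟨b, hb⟩ := hπ.1 (M.u 0 t)
  have hi : ∀ s : F, s ≠ 0 → CO.Inv (M.u 0 s) := fun s hs =>
    ⟨fun e => hs (M.u_eq_one.1 e).2, M.z_mul_self s⟩
  have hab : a * b = b * a := cm_ZZ M hT hπ (M.u_mem_Z 1) (M.u_mem_Z t) a b ha hb
  have e1 := key y a ⟨h1, hy⟩ (ha ▸ hi 1 one_ne_zero)
  have e2 := key (a * b) b (by
    rw [map_mul, ha, hb, M.z_mul]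
    exact hi _ fun e => t1 (T.add_eq_zero.1 e).symm) (hb ▸ hi t t0)
  rw [mul_assoc, ← mul_assoc b, ← hab, mul_assoc, ← mul_assoc, mul_eq_right] at e2
  rw [e1, e2]

theorem sz_ce_aux (hT : T.IsFin m) (hπ : IsStemExtension π) (h2 : IsPGroup 2 π.ker)
    (hK : π.ker ≠ ⊥) {b b' : F} (hb : b ≠ 0) (hb' : b' ≠ 0)
    (h : ∀ x ∈ M.Q, Cm π x (M.u 0 b) → Cm π x (M.u 0 b')) : b = b' := by
  by_contra hne
  refine hK (eq_bot_iff.2 (ker_le M hT hπ h2 bot_le fun x z hx hz => ?_))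
  rw [mem_bot, commutatorElement_eq_one_iff_mul_comm]
  rcases (show m = 1 ∨ 2 ≤ m by have := hT.hm; omega) with rfl | hm
  swap
  · refine cm_of_noPair hπ.1 hπ.2.1 (fun h hh x hx => M.conj_mem_Q (M.H_le_B hh) hx)
      (fun h hh x hx => M.conj_mem_Z (M.H_le_B hh) hx) ?_ (M.noPair_QZ hT hm) hx hz x z rfl rfl
    rintro _ ⟨⟨a, b⟩, rfl⟩ _ ⟨c, rfl⟩
    exact (M.z_comm _ _ _).symm
  have := hT.finite
  obtain ⟨k, hk⟩ := hT.chi_surj (div_ne_zero hb hb')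
  have hk1 : k ≠ 1 := by
    rintro rfl
    rw [Units.val_one, map_one, one_pow, one_mul, eq_div_iff hb', one_mul] at hk
    exact hne hk.symm
  have hQ : ∀ (l : Fˣ), ∀ x ∈ M.Q, M.h l * x * (M.h l)⁻¹ ∈ M.Q := fun l x hx =>
    M.conj_mem_Q (M.H_le_B (M.h_mem_H l)) hx
  have h1 : ∀ x ∈ M.Q, Cm π x (M.u 0 b) → Cm π (M.h k * x * (M.h k)⁻¹) (M.u 0 b) := fun x hx e => by
    have := (h x hx e).conj hπ.1 hπ.2.1 (M.h k)
    rwa [M.h_conj, hk, mul_zero, div_mul_cancel₀ _ hb'] at this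
  have h3 : ∀ n : ℕ, ∀ x ∈ M.Q, Cm π x (M.u 0 b) →
      Cm π (M.h (k ^ n) * x * (M.h (k ^ n))⁻¹) (M.u 0 b) := fun n x hx e => by
    induction n with
    | zero => simpa using e
    | succ n ih =>
      have := h1 _ (hQ _ x hx) ih
      rwa [show M.h k * (M.h (k ^ n) * x * (M.h (k ^ n))⁻¹) * (M.h k)⁻¹ =
        M.h (k ^ (n + 1)) * x * (M.h (k ^ (n + 1)))⁻¹ by rw [pow_succ', map_mul]; group] at this
  have h7 : Nat.card Fˣ = 7 := by rw [Nat.card_units, hT.card]; rfl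
  have : Fact (Nat.Prime 7) := ⟨by norm_num⟩
  obtain ⟨a, ha⟩ := hT.norm_surj b
  have ha0 : a ≠ 0 := by
    rintro rfl
    exact hb (ha.symm.trans (mul_zero _))
  have h4 : Cm π (M.u a 0) (M.u 0 b) := by
    have := ((cm_self hπ.1 hπ.2.1 (M.u a 0)).mul_left hπ.1 hπ.2.1
      (cm_self hπ.1 hπ.2.1 (M.u a 0))).symm
    rwa [M.u_mul_self, ha] at this
  have h5 : ∀ x ∈ M.Q, Cm π x (M.u 0 b) := fun x hx => by
    obtain ⟨c, d, rfl⟩ := M.mem_Q.1 hx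
    by_cases hc : c = 0
    · exact cm_ZZ M hT hπ (M.u_mem_Z_iff.2 hc) (M.u_mem_Z b)
    obtain ⟨l, hl⟩ := hT.θ_surj_units (div_ne_zero hc ha0)
    obtain ⟨n, rfl⟩ := mem_powers_iff_mem_zpowers.2 (mem_zpowers_of_prime_card h7 hk1 (g' := l))
    have h6 := (cm_ZZ M hT hπ (M.u_mem_Z d) (M.u_mem_Z b)).mul_left hπ.1 hπ.2.1
      (h3 n _ (M.u_mem_Q a 0) h4)
    rw [M.h_conj] at h6
    erw [hl] at h6
    rwa [div_mul_cancel₀ _ ha0, mul_zero, M.u_mul, zero_add, map_zero, zero_mul, add_zero,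
      add_zero] at h6
  obtain ⟨c, hc⟩ := M.mem_Z.1 hz
  by_cases hc0 : c = 0
  · rw [hc0, M.u_zero] at hc
    exact mem_center_iff.1 (hπ.2.1 hc) x
  obtain ⟨l, hl⟩ := hT.chi_surj (div_ne_zero hc0 hb)
  have h6 := (h5 _ (hQ l⁻¹ _ hx)).conj hπ.1 hπ.2.1 (M.h l)
  rw [M.h_conj, hl, mul_zero, div_mul_cancel₀ _ hb, map_inv, ← hc] at h6
  exact h6 x z (by group) rfl

include M in
theorem sz_ce (hT : T.IsFin m) (hπ : IsStemExtension π) (h2 : IsPGroup 2 π.ker) (hK : π.ker ≠ ⊥)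
    {V : Subgroup J} (hV : IsSyl 2 V ⊤) {l l' : J} (hl : l ∈ V) (hl' : l' ∈ V) (h1 : CO.Inv (π l))
    (h1' : CO.Inv (π l')) (h : V ⊓ cen1 l = V ⊓ cen1 l') : π l = π l' := by
  have : Fact (Nat.Prime 2) := ⟨Nat.prime_two⟩
  have hS := hV.map π
  rw [map_top_of_surjective _ hπ.1] at hS
  obtain ⟨N, hN⟩ := exists_Q M hT hS
  have hz : ∀ y ∈ V, CO.Inv (π y) → ∃ b, b ≠ 0 ∧ π y = N.u 0 b := fun y hy hi => by
    obtain ⟨b, e⟩ := N.mem_Z.1 (N.mem_Z_of_sq (N.Q_le_B (hN ▸ mem_map_of_mem π hy))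
      (by rw [sq, hi.2]))
    exact ⟨b, fun e' => hi.1 (by rw [e, e', N.u_zero]), e⟩
  obtain ⟨b, hb, e⟩ := hz l hl h1
  obtain ⟨b', hb', e'⟩ := hz l' hl' h1'
  rw [e, e', sz_ce_aux N hT hπ h2 hK hb hb' fun x hx hc => ?_]
  obtain ⟨x, hxV, rfl⟩ := hN.ge hx
  rw [← e, cm_iff hπ.2.1] at hc
  rw [← e', cm_iff hπ.2.1]
  exact mem_cen1.1 (h.le ⟨hxV, mem_cen1.2 hc⟩).2

end cover

include M in
theorem sz_szf (hT : T.IsFin m) : SZF G where
  inn := inn_of_tw M hT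
  om U hU := by
    obtain ⟨N, rfl⟩ := exists_Q M hT hU
    exact ⟨fun x hx => sq_iff_cen N hT hx, not_comm_Q N hT⟩
  l2 _ _ _ _ hπ h2 := sz_l2 M hT hπ h2
  ce _ _ _ _ hπ h2 hK _ hV _ hl _ hl' := sz_ce M hT hπ h2 hK hV hl hl'

theorem jobFSz : JobFSz.{u} := by
  rintro S _ _ _ - ⟨F, _, _, m, hm, hF, ⟨e⟩⟩
  have hT := titsOf_isFin F hm hF
  exact ⟨sz_ks ((modelB hT).ofEquiv e) hT, sz_szf ((modelB hT).ofEquiv e) hT⟩

end H66.QF
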