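import Cfsg.Agent.H36.QFK0
import Cfsg.Agent.H59.QEU3
import Cfsg.Agent.H72.HRU3
import Cfsg.Agent.H65.SU3Inv

/-! The groups `U_3(2^n)` and `U_3(3)` in tower QF (job `FU3` of blueprint `QF.md`). -/

set_option autoImplicit false
set_option linter.unusedSectionVars false

namespace H66.QF

open Cfsg Subgroup H14 H98 H97 H36.QE H36.QF H59 Matrix
open H14.CO (cen cen1 nor cm Tw mem_cen mem_cen1)
open H15.BG (Dat UD RK)
open scoped commutatorElement

universe u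

section even

variable {G : Type*} [Group G] [Finite G] {k K : Type} [Field k] [Field K] [Algebra k K] [Finite k]
  [Finite K] [CharP k 2] [CharP K 2] {d : Dat G k K} {w : G}

theorem cj_eq_cj {U : Subgroup G} {g h : G} : H98.cj g U = H98.cj h U ↔ h⁻¹ * g ∈ nor U := by
  rw [← cj_eq_self_iff, ← cj_cj, ← cj_inj (g := h⁻¹), cj_inv_cj]

theorem aut_nor {U : Subgroup G} {c : MulAut G} (hU : ∀ x ∈ U, c x ∈ U) {g : G} :
    c g ∈ nor U ↔ g ∈ nor U := by
  have h1 : U.map c.toMonoidHom = U :=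
    eq_of_le_of_card_ge (by rintro _ ⟨x, hx, rfl⟩; exact hU x hx) (mp_card c U).ge
  rw [← mp_mem c (U := nor U) (x := g), ← mp_nor, h1]

theorem fix_U (r : RK d ⊤ w) {c : MulAut G} (hU : ∀ x ∈ d.U, c x ∈ d.U)
    (hπ : ∀ x ∈ d.U, d.π (c x) = d.π x) (hH : ∀ g ∈ d.H, c g = g) {y : G} (hy : y ∈ d.U) :
    c y = y := by
  have fa := H52.BgF.fa d.toQE
  have h := r.toUD
  have hz : ∀ x ∈ d.U, ∀ y ∈ d.U, d.π x = d.π y → x * y⁻¹ ∈ d.Z := fun x hx y hy e =>
    (h.ker _ (mul_mem hx (inv_mem hy))).1 (by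
      rw [h.π_mul _ hx _ (inv_mem hy), h.π_inv hy, e, CharTwo.add_self_eq_zero])
  have hs : ∀ z ∈ d.Z, ∃ x ∈ d.U, z = x * x := fun z hz => by
    obtain ⟨a, rfl⟩ := (h.memZ z).1 hz
    obtain ⟨t, rfl⟩ := fa.N_surj a
    obtain ⟨x, hx, rfl⟩ := h.π_surj t
    exact ⟨x, hx, (h.sq x hx).symm⟩
  obtain ⟨l, l0, l1, lN⟩ := fa.eta
  obtain ⟨g, hg, e⟩ := r.Hlam l l0
  have gn := (r.HN hg).1
  have gz : ∀ z ∈ d.Z, g * z * g⁻¹ = z := fun z hz => by
    obtain ⟨x, hx, rfl⟩ := hs z hz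
    rw [← conj_mul, h.sq _ (conj_mem_of_mem_normalizer gn hx), h.sq x hx, e x hx, d.N_mul, lN, one_mul]
  obtain ⟨x, hx, ex⟩ := h.π_surj (d.π y / (d.lam l + 1))
  have gx := conj_mem_of_mem_normalizer gn hx
  obtain ⟨t, ht, et⟩ := hs _ (hz y hy _ (mul_mem gx hx) (by
    rw [h.π_mul _ gx _ hx, e x hx, ← add_one_mul, ex,
      mul_div_cancel₀ _ fun e => l1 (CharTwo.add_eq_zero.1 e)]))
  have f := hz _ (hU x hx) x hx (hπ x hx)
  rw [mul_inv_eq_iff_eq_mul.1 et, map_mul, map_mul, h.sq _ (hU t ht), hπ t ht, ← h.sq t ht, map_mul,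
    map_mul, map_mul, map_inv, hH g hg, ← inv_mul_cancel_right (c x) x, conj_mul.symm, gz _ f,
    h.Z_comm f gx, mul_assoc (g * x * g⁻¹), ← mul_assoc (c x * x⁻¹), h.Z_sq f, one_mul]

theorem eq_one_of [IsSimpleGroup G] (hz : center G = ⊥) (r : RK d ⊤ w) {c : MulAut G}
    (hU : ∀ x ∈ d.U, c x ∈ d.U) (hπ : ∀ x ∈ d.U, d.π (c x) = d.π x) (hw : w⁻¹ * c w ∈ nor d.U) :
    c = 1 := by
  have nc : ∀ g, g ∈ nor (H98.cj w d.U) ↔ w⁻¹ * g * w ∈ nor d.U := fun g => by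
    rw [nor, ← cj_normalizer, mem_cj]
  have hH : ∀ g ∈ d.H, c g = g := fun g hg => by
    have h1 : c g ∈ d.H := r.opp ⟨⟨trivial, (aut_nor hU).2 (r.HN hg).1⟩, (nc _).2 (by
      have := mul_mem (mul_mem hw ((aut_nor hU).2 ((nc g).1 (r.HN hg).2))) (inv_mem hw)
      simpa [mul_assoc] using this)⟩
    have h2 := r.faith _ (mul_mem (inv_mem hg) h1) fun x hx => by
      obtain ⟨y, rfl⟩ := c.surjective x
      have hy : y ∈ d.U := by
        have h1 : d.U.map c.toMonoidHom = d.U :=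
          eq_of_le_of_card_ge (by rintro _ ⟨x, hx, rfl⟩; exact hU x hx) (mp_card c _).ge
        rwa [← h1, mp_mem] at hx
      obtain ⟨l, hl⟩ := r.Hsc _ (inv_mem hg)
      have gy := conj_mem_of_mem_normalizer (r.HN hg).1 hy
      rw [show g⁻¹ * c g * c y * (g⁻¹ * c g)⁻¹ = g⁻¹ * c (g * y * g⁻¹) * g⁻¹⁻¹ by simp [mul_assoc],
        hl _ (hU _ gy), hπ _ gy, ← hl _ gy, hπ y hy]
      simp [mul_assoc]
    exact (inv_mul_eq_one.1 (mem_bot.1 (hz ▸ mem_center_iff.2 fun x => h2 x trivial))).symm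
  have hn : ∀ g, g⁻¹ * c g ∈ nor d.U := fun g => by
    rcases r.bru g trivial with h | ⟨x, hx, h⟩
    · exact mul_mem (inv_mem h) ((aut_nor hU).2 h)
    · have h1 := cj_eq_cj.1 h
      have := mul_mem (mul_mem (inv_mem h1) hw) ((aut_nor hU).2 h1)
      simpa [mul_assoc, fix_U r hU hπ hH hx] using this
  rcases (normalCore_normal (nor d.U)).eq_bot_or_eq_top with h | h
  · ext g
    refine (inv_mul_eq_one.1 (mem_bot.1 (h ▸ fun x => ?_))).symm
    simpa [mul_assoc] using mul_mem (hn (g * x⁻¹)) (inv_mem (hn x⁻¹))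
  · exact absurd (normalCore_le _ (h.ge trivial)) r.wn

theorem inn_of [IsSimpleGroup G] (hz : center G = ⊥) (r : RK d ⊤ w) {b : MulAut G}
    (hU : ∀ x ∈ d.U, b x ∈ d.U) (hπ : ∀ x ∈ d.U, d.π (b x) = d.π x) : b ∈ H36.QF.Inn G := by
  have h := r.toUD
  obtain ⟨x, hx, e⟩ := (r.bru (b w) trivial).resolve_left fun e => r.wn ((aut_nor hU).1 e)
  have := eq_one_of hz r (c := MulAut.conj x⁻¹ * b)
    (fun y hy => mul_mem (mul_mem (inv_mem hx) (hU y hy)) (inv_mem (inv_mem hx))) (fun y hy => by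
      change d.π (x⁻¹ * b y * x⁻¹⁻¹) = _
      rw [h.π_mul _ (mul_mem (inv_mem hx) (hU y hy)) _ (inv_mem (inv_mem hx)),
        h.π_mul _ (inv_mem hx) _ (hU y hy), h.π_inv (inv_mem hx), hπ y hy, add_right_comm,
        CharTwo.add_self_eq_zero, zero_add])
    (by simpa [mul_assoc] using mul_mem (cj_eq_cj.1 e) (le_normalizer hx))
  rw [map_inv, inv_mul_eq_one] at this
  exact this ▸ conj_mem_Inn x

theorem rk_one [hs : IsSimpleGroup G] (r : RK d ⊤ w) : H36.QE.One G := by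
  have b := H72.HRU.bf r topEquiv.isSimpleGroup
  have key : ∀ x : G, CO.Inv x → ∃ z ∈ H82.HR.ZZ d.U, z ≠ 1 ∧ IsConj x z := fun x hx => by
    obtain ⟨g, -, h⟩ := r.sylU.exists_cj_le (isPGroup_zpowers (k := 1) ((pow_two x).trans hx.2)) le_top
    exact ⟨_, b.cent _ (h (conj_mem_cj (mem_zpowers x))) (by rw [conj_mul, hx.2, mul_one, mul_inv_cancel]),
      fun e => hx.1 (conj_eq_one_iff.1 e), isConj_iff.2 ⟨g, rfl⟩⟩
  intro x y hx hy
  obtain ⟨a, a1, a2, a3⟩ := key x hx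
  obtain ⟨c, c1, c2, c3⟩ := key y hy
  obtain ⟨g, -, e⟩ := b.tr a a1 c c1 a2 c2
  exact a3.trans ((isConj_iff.2 ⟨g, e⟩).trans c3.symm)

theorem rk_uf [IsSimpleGroup G] (hz : center G = ⊥) (r : RK d ⊤ w) : UF G ∧ F1 G := by
  have h := r.toUD
  have hc : ∀ a : MulAut G, d.U ≤ Fix a → a ∈ H36.QF.Inn G := fun a ha =>
    inn_of hz r (fun x hx => (mem_Fix.1 (ha hx)).symm ▸ hx) fun x hx => by rw [mem_Fix.1 (ha hx)]
  have ci : Function.Injective (MulAut.conj : G →* MulAut G) :=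
    (injective_iff_map_eq_one _).2 fun x e => mem_bot.1 (hz ▸ mem_center_iff.2 fun g =>
      (mul_inv_eq_iff_eq_mul.1 (DFunLike.congr_fun e g)).symm)
  refine ⟨uf2_of r.sylU (fun c => ?_) (fun x _ y _ _ _ hx hy => rk_one r x y hx hy)
    ⟨fun a _ => hc a, fun x hx c => h.Z_sq ((h.ker x hx).1 (d.eq_zero_of_B fun y => ?_))⟩
    fun P hP h1 h2 => ?_, syl_ind (P := fun U => ∀ a : MulAut G, Ou a → ¬ U ≤ Fix a)
      (fun e U hU a ha h => ?_) r.sylU fun a ha h => ha.2 (hc a h)⟩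
  · obtain ⟨x, hx, e⟩ := h.π_surj 1
    obtain ⟨b, hb⟩ := d.B_surj (one_ne_zero (α := K)) 1
    obtain ⟨v, hv, rfl⟩ := h.π_surj b
    have := h.comm x hx v hv
    rw [show x * v = v * x from congrArg Subtype.val (c.is_comm.comm ⟨x, hx⟩ ⟨v, hv⟩), e, hb,
      left_eq_mul, h.ι_eq_one] at this
    exact one_ne_zero this
  · obtain ⟨v, hv, rfl⟩ := h.π_surj y
    have := h.comm x hx v hv
    rwa [mem_cen.1 c v hv, left_eq_mul, h.ι_eq_one] at this
  · by_contra! h3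
    refine h2 fun b hb => ?_
    have hW := r.sylU.eq_of_le (hP.comap_of_injective _ ci) (map_le_iff_le_comap.1 h1) le_top
    have hU : ∀ x ∈ d.U, b x ∈ d.U := fun x hx => hW.le (by
      rw [mem_comap, ← aut_conj]
      exact mul_mem (mul_mem hb (h1 ⟨x, hx, rfl⟩)) (inv_mem hb))
    refine inn_of hz r hU fun x hx => ?_
    have h4 := h3 _ (commutator_mem_commutator hb (h1 ⟨x, hx, rfl⟩))
    rw [commutatorElement_def, aut_conj, ← map_inv, ← map_mul, ← map_mul, map_eq_one_iff _ ci] at h4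
    have h5 := mul_mem (hU x hx) (inv_mem hx)
    have := (h.ker _ h5).2 (h.mem_Z_of_sq h5 h4)
    rwa [h.π_mul _ (hU x hx) _ (inv_mem hx), h.π_inv hx, CharTwo.add_eq_zero] at this
  · obtain ⟨a, rfl⟩ := (MulAut.congr e).surjective a
    exact hU a ((mp_ou e).1 ha) (by rwa [mp_Fix, mp_le] at h)

end even

section odd

variable {S : Type*} [Group S] [Finite S]

theorem pair_in {H Q : Subgroup S} (hQ : IsSyl 2 Q H) {t s : S} (ht : t ∈ H) (hs : s ∈ H)
    (t4 : t ^ 4 = 1) (s2 : s * s = 1) (e : s * t * s⁻¹ ∈ zpowers t) :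
    ∃ g : S, g * t * g⁻¹ ∈ Q ∧ g * s * g⁻¹ ∈ Q := by
  obtain ⟨g, -, h⟩ := hQ.exists_cj_le (Q := zpowers s ⊔ zpowers t) (CO.isPGroup_sup
    (isPGroup_zpowers (k := 1) ((pow_two s).trans s2)) (isPGroup_zpowers (k := 2) t4)
    (zpowers_le.2 (mem_normalizer_of_cj_le (by rw [cj_zpowers]; exact zpowers_le.2 e))))
    (sup_le (zpowers_le.2 hs) (zpowers_le.2 ht))
  exact ⟨g, h (conj_mem_cj (mem_sup_right (mem_zpowers t))),
    h (conj_mem_cj (mem_sup_left (mem_zpowers s)))⟩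

/-- the centraliser of a four-group is abelian -/
def AbV (S : Type*) [Group S] : Prop := ∀ x y g k : S, CO.Inv x → CO.Inv y → x ≠ y → x * y = y * x →
  g * x = x * g → g * y = y * g → k * x = x * k → k * y = y * k → g * k = k * g

omit [Finite S] in
theorem AbV.uniq (h : AbV S) {Q : Subgroup S} (hQ : ¬ IsMulCommutative Q) {x y : S} (hx : x ∈ Q)
    (cx : x ∈ cen Q) (cy : y ∈ cen Q) (ix : CO.Inv x) (iy : CO.Inv y) : x = y := by
  by_contra hne
  exact hQ ⟨⟨fun g k => Subtype.ext (h x y g k ix iy hne (mem_cen.1 cy x hx) (mem_cen.1 cx g g.2)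
    (mem_cen.1 cy g g.2) (mem_cen.1 cx k k.2) (mem_cen.1 cy k k.2))⟩⟩

theorem ks_odd (hz : center S = ⊥) (hi : IsCyclic (MulAut S ⧸ H36.QF.Inn S)) (one : H36.QE.One S)
    (a : MulAut S) (hcl : ∀ b, Ou b → IsConj a b) (hA : AbV S)
    (hB : ∀ x ∈ Fix a, ∀ y ∈ Fix a, ∀ g ∈ Fix a, CO.Inv x → CO.Inv y → x ≠ y → x * y = y * x →
      g * x = x * g → g * y = y * g → g * g = 1)
    {t s x : S} (ht : t ∈ Fix a) (hs : s ∈ Fix a) (t4 : t ^ 4 = 1) (t2 : t * t ≠ 1) (s2 : s * s = 1)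
    (st : s * t * s⁻¹ = t⁻¹) (ix : CO.Inv x) (xt : x * t = t * x) (hne : x ≠ t * t) : KS S := by
  have na : ∀ {H Q : Subgroup S}, IsSyl 2 Q H → t ∈ H → s ∈ H → ¬ IsMulCommutative Q :=
    fun hQ ht hs c => by
      obtain ⟨g, h1, h2⟩ := pair_in hQ ht hs t4 s2 (st ▸ inv_mem (mem_zpowers t))
      have e : g * s * g⁻¹ * (g * t * g⁻¹) = g * t * g⁻¹ * (g * s * g⁻¹) :=
        congrArg Subtype.val (c.is_comm.comm ⟨_, h2⟩ ⟨_, h1⟩)
      rw [conj_mul, conj_mul, mul_left_inj, mul_right_inj] at e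
      rw [e, mul_inv_cancel_right, eq_inv_iff_mul_eq_one] at st
      exact t2 st
  obtain ⟨U, hU⟩ := exists_isSyl 2 (⊤ : Subgroup S)
  have nU := na hU trivial trivial
  refine ⟨outD_of_cyc hi, fun b hb => NOa.of_isConj (fun Q hQ => ⟨fun w _ _ iw =>
    not_syl_of_zi (zi_of_one one iw) fun h => ?_, .inl fun c hc cc ic => ?_⟩) (hcl b hb),
    ni_of_zi fun w hw => zi_of_one one hw, .inl (uf1_of hU nU
      (fun x hx y _ cx cy => hA.uniq nU hx cx cy) (ab_of_cyc hz hi hU))⟩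
  · obtain ⟨g, h1, h2⟩ := pair_in h (mem_top t) (mem_top x) t4 ix.2
      (by rw [xt, mul_inv_cancel_right]; exact mem_zpowers t)
    have it : CO.Inv (t * t) := ⟨t2, by rw [← t4, ← pow_two, ← pow_two, ← pow_mul]⟩
    have := hB _ (hQ.le h2) _ (hQ.le (mul_mem h1 h1)) _ (hQ.le h1) (inv_congr (MulAut.conj g) ix)
      (by rw [conj_mul]; exact inv_congr (MulAut.conj g) it) (by simpa [conj_mul] using hne)
      (by simp only [conj_mul]; rw [← mul_assoc x, xt, mul_assoc t, xt, mul_assoc t t])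
      (by simp only [conj_mul, xt]) (by simp only [mul_assoc])
    rw [conj_mul, conj_eq_one_iff] at this
    exact t2 this
  · have nQ := na hQ ht hs
    obtain ⟨z, hz, iz, cz⟩ := CO.exists_inv_cen hQ.isPGroup (P := ⁅Q, Q⁆)
      (hQ.isPGroup.to_le (commutator_le_self Q)) (normalizer_commutator_ge_left Q Q) fun e =>
        nQ (le_centralizer_iff_isMulCommutative.1 (commutator_eq_bot_iff_le_centralizer.1 e))
    exact hA.uniq nQ hc cc cz ic iz ▸ commutator_mono hQ.le hQ.le hz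

end odd

section su

open H65.SI

variable {F : Type*} [Field F] [Fintype F] {q : ℕ} (hF : Fintype.card F = q ^ 2)

/-- `g` is the scalar `c` on the fixed vectors of the involution `x` -/
def Sc (g x : SU 3 F q) (c : F) : Prop := ∀ v, act g (act x v + v) = c • (act x v + v)

omit [Fintype F] in
theorem act_smul (g : SU 3 F q) (c : F) (v : Fin 3 → F) : act g (c • v) = c • act g v :=
  mulVec_smul _ _ _

omit [Fintype F] in
theorem Sc.mul {g k x : SU 3 F q} {c e : F} (h1 : Sc g x c) (h2 : Sc k x e) : Sc (g * k) x (c * e) :=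
  fun v => by rw [act_mul, h2, act_smul, h1, smul_smul, mul_comm]

variable (h2 : (2 : F) ≠ 0)
include hF h2

theorem exists_sc {g x : SU 3 F q} (ix : CO.Inv x) (e : g * x = x * g) :
    ∃ c, c * frob hF c = 1 ∧ Sc g x c := by
  obtain ⟨v, hv, rfl⟩ := exists_r hF h2 ix.1 ix.2
  rw [← mul_inv_eq_iff_eq_mul, conj_r hF hv, r_eq_iff hF h2 (by rwa [act_h]) hv] at e
  obtain ⟨c, -, hc⟩ := e
  refine ⟨c, ?_, fun u => by rw [act_r hF hv, sub_add_cancel, act_smul, hc, smul_comm]⟩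
  have := act_h hF g v v
  rwa [hc, h_smul, mul_eq_right₀ hv] at this

theorem ext3 {x y g k : SU 3 F q} (ix : CO.Inv x) (iy : CO.Inv y) (hne : x ≠ y) (e : x * y = y * x)
    {a b c : F} (ga : Sc g x a) (ka : Sc k x a) (gb : Sc g y b) (kb : Sc k y b) (gc : Sc g (x * y) c)
    (kc : Sc k (x * y) c) : g = k := by
  obtain ⟨v, hv, rfl⟩ := exists_r hF h2 ix.1 ix.2
  obtain ⟨w, hw, rfl⟩ := exists_r hF h2 iy.1 iy.2
  have h0 := ((commute_iff hF h2 hv hw).1 e).resolve_left hne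
  refine act_ext fun u => smul_right_injective _ h2 ?_
  have e1 : (2 : F) • u = act (r hF v) u + u + (act (r hF w) u + u) + (act (r hF v * r hF w) u + u) := by
    rw [act_mul, act_r hF hw u, act_lin, act_r hF hv w, h0]
    module
  have ad : ∀ (g : SU 3 F q) s t, act g (s + t) = act g s + act g t := fun g => mulVec_add _
  simp only [← act_smul]
  rw [e1, ad g _ (_ + u), ad g _ (_ + u), ad k _ (_ + u), ad k _ (_ + u), ga, ka, gb, kb, gc, kc]

omit hF h2 [Fintype F] in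
theorem inv_mul {x y : SU 3 F q} (ix : CO.Inv x) (iy : CO.Inv y) (hne : x ≠ y) (e : x * y = y * x) :
    CO.Inv (x * y) :=
  ⟨fun h => hne (mul_right_cancel (h.trans iy.2.symm)), by
    rw [mul_assoc, ← mul_assoc y, ← e, mul_assoc, iy.2, mul_one, ix.2]⟩

theorem abV_su : AbV (SU 3 F q) := fun x y g k ix iy hne e g1 g2 k1 k2 => by
  have i3 := inv_mul ix iy hne e
  obtain ⟨a, -, ha⟩ := exists_sc hF h2 ix g1
  obtain ⟨b, -, hb⟩ := exists_sc hF h2 iy g2
  obtain ⟨c, -, hc⟩ := exists_sc hF h2 i3 (Commute.mul_right g1 g2)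
  obtain ⟨a', -, ha'⟩ := exists_sc hF h2 ix k1
  obtain ⟨b', -, hb'⟩ := exists_sc hF h2 iy k2
  obtain ⟨c', -, hc'⟩ := exists_sc hF h2 i3 (Commute.mul_right k1 k2)
  exact ext3 hF h2 ix iy hne e (ha.mul ha') (mul_comm a' a ▸ ha'.mul ha) (hb.mul hb')
    (mul_comm b' b ▸ hb'.mul hb) (hc.mul hc') (mul_comm c' c ▸ hc'.mul hc)

theorem sc_real {g x : SU 3 F q} (hg : g ∈ Rl hF) (hx : x ∈ Rl hF) (ix : CO.Inv x) (e : g * x = x * g) :
    Sc (g * g) x 1 := by
  obtain ⟨c, h1, hc⟩ := exists_sc hF h2 ix e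
  have h3 : g.1.1 * (x.1.1 + 1) = c • (x.1.1 + 1) := matrix_ext_mulVec fun v => by
    rw [← mulVec_mulVec, smul_mulVec, add_mulVec, one_mulVec]
    exact hc v
  have h4 := congrArg (frobAut hF).mapMatrix h3
  have eg : (frobAut hF).mapMatrix g.1.1 = g.1.1 := Matrix.ext ((mem_rl hF).1 hg)
  have ex : (frobAut hF).mapMatrix (x.1.1 + 1) = x.1.1 + 1 := by
    rw [map_add, map_one]
    exact congrArg (· + 1) (Matrix.ext ((mem_rl hF).1 hx))
  have h5 : (frobAut hF).mapMatrix (c • (x.1.1 + 1)) =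
      frob hF c • (frobAut hF).mapMatrix (x.1.1 + 1) := Matrix.ext fun i j => map_mul (frobAut hF) c _
  rw [map_mul, eg, h5, ex, h3, ← sub_eq_zero, ← sub_smul, smul_eq_zero, sub_eq_zero] at h4
  obtain ⟨v, hv, rfl⟩ := exists_r hF h2 ix.1 ix.2
  rw [← h4.resolve_right fun h => ?_] at h1
  · exact h1 ▸ hc.mul hc
  · have h6 := congrArg (· *ᵥ v) h
    simp only [add_mulVec, one_mulVec, zero_mulVec] at h6
    rw [show _ *ᵥ v = v from r_self hF hv, ← two_smul F, smul_eq_zero] at h6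
    exact h6.elim h2 (ne_zero_of hF hv)

theorem sq_real {x y g : SU 3 F q} (hx : x ∈ Rl hF) (hy : y ∈ Rl hF) (hg : g ∈ Rl hF) (ix : CO.Inv x)
    (iy : CO.Inv y) (hne : x ≠ y) (e : x * y = y * x) (g1 : g * x = x * g) (g2 : g * y = y * g) :
    g * g = 1 :=
  have o : ∀ z : SU 3 F q, Sc 1 z 1 := fun _ _ => by rw [act_one, one_smul]
  ext3 hF h2 ix iy hne e (sc_real hF h2 hg hx ix g1) (o _) (sc_real hF h2 hg hy iy g2) (o _)
    (sc_real hF h2 hg (mul_mem hx hy) (inv_mul ix iy hne e) (Commute.mul_right g1 g2)) (o _)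

theorem exists_tsx {i : F} (hi : i * i = -1) (hj : frobAut hF i = -i) : ∃ t s x : SU 3 F q,
    t ∈ Rl hF ∧ s ∈ Rl hF ∧ t * t * (t * t) = 1 ∧ t * t ≠ 1 ∧ s * s = 1 ∧ t * s * t = s ∧ x ≠ 1 ∧
      x * x = 1 ∧ x * t = t * x ∧ x ≠ t * t := by
  have tt : (!![0, 1, 0; -1, 0, 0; 0, 0, 1] : Matrix _ _ F) * !![0, 1, 0; -1, 0, 0; 0, 0, 1] =
      !![-1, 0, 0; 0, -1, 0; 0, 0, 1] := by simp
  refine ⟨mkSU hF !![0, 1, 0; -1, 0, 0; 0, 0, 1] ?_ ?_, mkSU hF !![0, 1, 0; 1, 0, 0; 0, 0, -1] ?_ ?_,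
    mkSU hF !![0, i, 0; -i, 0, 0; 0, 0, -1] ?_ ?_, (mem_rl hF).2 fun a b => ?_,
    (mem_rl hF).2 fun a b => ?_, su_ext ?_, fun h => ?_, su_ext ?_, su_ext ?_, fun h => ?_, su_ext ?_,
    su_ext ?_, fun h => ?_⟩
  · simp [det_fin_three]
  · ext a b
    fin_cases a <;> fin_cases b <;> simp [mul_apply, Fin.sum_univ_three]
  · simp [det_fin_three]
  · ext a b
    fin_cases a <;> fin_cases b <;> simp [mul_apply, Fin.sum_univ_three]
  · simp [det_fin_three, hi]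
  · ext a b
    fin_cases a <;> fin_cases b <;> simp [mul_apply, Fin.sum_univ_three, hi, hj]
  · fin_cases a <;> fin_cases b <;> simp [mkSU]
  · fin_cases a <;> fin_cases b <;> simp [mkSU]
  · change _ * _ * (_ * _) = (1 : Matrix _ _ F)
    simp [mkSU, one_fin_three]
  · have : _ * _ = (1 : Matrix _ _ F) := congrArg (fun x : SU 3 F q => x.1.1) h
    have := congrFun (congrFun (tt.symm.trans this) 0) 0
    exact h2 (by simp at this; linear_combination -this)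
  · change _ * _ = (1 : Matrix _ _ F)
    simp [mkSU, one_fin_three]
  · change (_ * _ * _ : Matrix _ _ F) = _
    simp [mkSU]
  · simpa [mkSU] using congrArg (fun x : SU 3 F q => (x.1 : Matrix (Fin 3) (Fin 3) F) 0 0) h
  · change _ * _ = (1 : Matrix _ _ F)
    simp [mkSU, one_fin_three, hi]
  · change (_ * _ : Matrix _ _ F) = _ * _
    simp [mkSU]
  · have : _ = (_ * _ : Matrix _ _ F) := congrArg (fun x : SU 3 F q => x.1.1) h
    simpa [mkSU] using congrFun (congrFun (this.trans tt) 0) 0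

end su

section psu

variable {F : Type} [Field F] [Fintype F] {q : ℕ} (hF : Fintype.card F = q ^ 2)
include hF

theorem diag_inn (g : GU 3 F q) (a : normOne F q) (h : guDet hF 3 g * a ^ 3 = 1) :
    psuDiag 3 F q g ∈ H36.QF.Inn (PSU 3 F q) := by
  obtain ⟨s, hs⟩ : g * guScalar hF 3 a ∈ (suToGU 3 F q).range := by
    rw [range_suToGU, ← ker_guDet hF, MonoidHom.mem_ker, map_mul, guDet_guScalar, h]
  rw [(psuDiag_eq_iff hF (by norm_num)).2 ⟨a, hs.symm⟩, psuDiag_suToGU]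
  exact conj_mem_Inn _

theorem outD_psu (hq : q ≠ 2) : OutD (PSU 3 F q) := by
  have hn : (psuDiag 3 F q).range.Normal := ⟨by
    rintro _ ⟨g, rfl⟩ b
    obtain ⟨k, τ, rfl⟩ := psu_aut hF le_rfl (by simpa) b
    refine ⟨k * guField 3 F q τ g * k⁻¹, ?_⟩
    rw [mul_assoc _ (psuField 3 F q τ), psuField_mul_psuDiag, map_mul, map_mul, map_inv]
    group⟩
  refine outD_of_sub (N := (psuDiag 3 F q).range) (m := 3) (commutator_le.2 fun a _ b _ => ?_)
    (by decide) ?_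
  · obtain ⟨k, τ, rfl⟩ := psu_aut hF le_rfl (by simpa) a
    obtain ⟨k', τ', rfl⟩ := psu_aut hF le_rfl (by simpa) b
    have e : ∀ k, QuotientGroup.mk' (psuDiag 3 F q).range (psuDiag 3 F q k) = 1 := fun k =>
      (QuotientGroup.eq_one_iff _).2 ⟨k, rfl⟩
    have := H57.isCyclic_ringAut (F := F)
    rw [← QuotientGroup.ker_mk' (psuDiag 3 F q).range, MonoidHom.mem_ker, map_commutatorElement,
      map_mul, map_mul, e, e, one_mul, one_mul, ← map_commutatorElement, ← map_commutatorElement,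
      commutatorElement_eq_one_iff_mul_comm.2 (IsCyclic.commGroup.mul_comm τ τ'), map_one, map_one]
  · rintro _ ⟨g, rfl⟩
    rw [← map_pow]
    exact diag_inn hF _ (guDet hF 3 g)⁻¹ (by rw [map_pow, ← mul_pow, mul_inv_cancel, one_pow])

theorem out_conj (hq : q ≠ 2) {b : MulAut (PSU 3 F q)} (hb : Ou b) :
    IsConj (psuField 3 F q (frobAut hF)) b :=
  (psu3_inv hF hq hb.1).resolve_left fun ⟨_, _, e⟩ => hb.2 (e ▸ conj_mem_Inn _)

end psu

theorem ks_even {F : Type} [Field F] [Fintype F] {n : ℕ} (hn : 2 ≤ n)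
    (hF : Fintype.card F = (2 ^ n) ^ 2) (hz : center (PSU 3 F (2 ^ n)) = ⊥) :
    KS (PSU 3 F (2 ^ n)) := by
  have h4 : 4 ≤ 2 ^ n := Nat.pow_le_pow_right two_pos hn
  have : CharP F 2 := charP_of_card_eq_prime_pow (hF.trans (pow_mul 2 n 2).symm)
  obtain ⟨k, K, _, _, _, _, _, _, _, d, w, -, -, r⟩ := H52.BgRK.jobRK (PSU 3 F (2 ^ n)) ⊤ 1 F n hn
    (by rw [hF, ← pow_mul, mul_comm, pow_mul]; rfl) (.inl ⟨topEquiv⟩)
  have := H59.isSimpleGroup_PSU hF (n := 3) le_rfl (by omega)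
  obtain ⟨h1, h2⟩ := rk_uf hz r
  refine ⟨outD_psu hF (by omega), fun b hb => ?_, ni_of_zi fun w hw => zi_of_one (rk_one r) hw, .inl h1⟩
  have hc := out_conj hF (by omega) hb
  refine NOa.of_isConj (fun Q hQ => ⟨fun w _ _ iw => not_syl_of_zi (zi_of_one (rk_one r) iw) fun h =>
    h2 Q h _ ?_ hQ.le, .inl fun c hc _ _ => ?_⟩) hc
  · obtain ⟨g, rfl⟩ := isConj_iff.1 hc
    rwa [← congr_eq, mp_ou] at hb
  · obtain ⟨e, -⟩ := nonempty_rl_equiv hF
    obtain ⟨e'⟩ := nonempty_sl_equiv_rl hF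
    obtain ⟨a, a0, a1⟩ := H54.exists_sq_ne_one_of_four_le (F := H57.fixedSub (frobAut hF))
      (by rwa [card_fixedSub_frob])
    have : Group.IsPerfect _ := ⟨Matrix.SL2.commutator_eq_top a0 a1⟩
    have := Group.IsPerfect.ofSurjective (f := (e'.trans e).toMonoidHom) (e'.trans e).surjective
    exact commutator_eq_self.ge (hQ.le hc)

theorem ks_three {F : Type} [Field F] [Fintype F] (hF : Fintype.card F = 3 ^ 2)
    (hz : center (PSU 3 F 3) = ⊥) : KS (PSU 3 F 3) := by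
  have : CharP F 3 := charP_of_card_eq_prime_pow hF
  have h2 : (2 : F) ≠ 0 := fun h => by
    have := (CharP.cast_eq_zero_iff F 3 2).1 (by exact_mod_cast h)
    omega
  have hc : center (SU 3 F 3) = ⊥ := card_eq_one.1 (card_center_SU hF (by norm_num))
  let e : SU 3 F 3 ≃* PSU 3 F 3 := MulEquiv.ofBijective (QuotientGroup.mk' _)
    ⟨by rw [← MonoidHom.ker_eq_bot_iff, QuotientGroup.ker_mk', hc], QuotientGroup.mk'_surjective _⟩
  have ea : MulAut.congr e (suField 3 F 3 (frobAut hF)) = psuField 3 F 3 (frobAut hF) :=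
    MulEquiv.ext fun x => by
      obtain ⟨x, rfl⟩ := e.surjective x
      rw [mp_app]
      exact (psuField_mk _ _).symm
  have ef : ∀ x, e x ∈ Fix (psuField 3 F 3 (frobAut hF)) ↔ x ∈ Rl hF := fun x => by
    rw [← ea, mp_Fix, mp_mem]
  obtain ⟨i, i0, hi⟩ := exists_trace_zero_ne_zero (frob_ne_id hF) (frob_frob hF)
  have hj : frobAut hF i = -i := eq_neg_of_add_eq_zero_right hi
  obtain ⟨t, s, x, h1, h3, h4, h5, h6, h7, h8, h9, h10, h11⟩ := exists_tsx hF h2 (i := i)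
    (mul_left_cancel₀ i0 (by rw [frobAut_apply] at hj; linear_combination hj)) hj
  have := H57.isCyclic_ringAut (F := F)
  refine ks_odd hz (isCyclic_of_surjective ((QuotientGroup.mk' _).comp (psuField 3 F 3)) fun a => ?_)
    (H36.QE.One.congr e fun x y hx hy => H65.SI.isConj_of hF h2 hx.1 hx.2 hy.1 hy.2) _
    (fun b => out_conj hF (by omega)) (fun x y g k => ?_) (fun x hx y hy g hg => ?_)
    ((ef t).2 h1) ((ef s).2 h3) (x := e x) ?_ ?_ ?_ ?_ (inv_congr e ⟨h8, h9⟩) ?_ ?_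
  · obtain ⟨a, rfl⟩ := QuotientGroup.mk_surjective a
    obtain ⟨g, τ, rfl⟩ := psu_aut hF le_rfl (by simp) a
    refine ⟨τ, ?_⟩
    rw [QuotientGroup.mk_mul, (QuotientGroup.eq_one_iff _).2 (diag_inn hF g (guDet hF 3 g) ?_), one_mul]
    · rfl
    · rw [← pow_succ', ← card_normOne hF, pow_card_eq_one']
  · obtain ⟨x, rfl⟩ := e.surjective x
    obtain ⟨y, rfl⟩ := e.surjective y
    obtain ⟨g, rfl⟩ := e.surjective g
    obtain ⟨k, rfl⟩ := e.surjective k
    simpa only [← map_mul, mp_inv, ne_eq, e.injective.eq_iff] using abV_su hF h2 x y g k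
  · obtain ⟨x, rfl⟩ := e.surjective x
    obtain ⟨y, rfl⟩ := e.surjective y
    obtain ⟨g, rfl⟩ := e.surjective g
    simpa only [← map_mul, mp_inv, ne_eq, e.injective.eq_iff, mp_one] using
      sq_real hF h2 ((ef x).1 hx) ((ef y).1 hy) ((ef g).1 hg)
  · rw [← map_pow, ← map_one e, ← h4, ← pow_two, ← pow_two, ← pow_mul]
  · rwa [← map_mul, ne_eq, mp_one]
  · rw [← map_mul, h6, map_one]
  · rw [mul_inv_eq_iff_eq_mul, eq_inv_mul_iff_mul_eq, ← mul_assoc, ← map_mul, ← map_mul, h7]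
  · rw [← map_mul, ← map_mul, h10]
  · rwa [← map_mul, ne_eq, e.injective.eq_iff]

theorem jobFU3 : JobFU3.{u} := by
  intro S _ _ _ hS h
  have hz : ∀ {T : Type} [Group T] (e : S ≃* T), center T = ⊥ := fun e => by
    have := e.symm.isSimpleGroup
    refine (this.eq_bot_or_eq_top_of_normal _ inferInstance).resolve_right fun h => hS ⟨⟨fun a b => e.injective ?_⟩⟩
    rw [map_mul, map_mul]
    exact mem_center_iff.1 (h.ge trivial) _
  rcases h with ⟨F, _, _, n, hn, hF, ⟨e⟩⟩ | ⟨F, _, _, hF, ⟨e⟩⟩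
  · exact KS.congr e.symm (ks_even hn hF (hz e))
  · exact KS.congr e.symm (ks_three hF (hz e))

end H66.QF
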