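import Cfsg.Agent.H48.DNASpec

/-! # DP0-N-PM -/

set_option autoImplicit false

namespace H66.DNPM

open Subgroup Cfsg H98 H48.DP H57.DPC H48.DP2
open scoped commutatorElement

theorem pm_of {Λ : Type*} [Group Λ] [Finite Λ] {B : Subgroup Λ} {y : Λ} (hB : Nat.card B = 4)
    (hy : orderOf y = 3) (f : F7 B y) : ∃ D V l t s, Pm B D V y l t s := by
  have : Fact (Nat.Prime 2) := ⟨Nat.prime_two⟩
  obtain ⟨A, hA, yA, hAB, -, l, s, -, -, hsy, hsV, hD, hBD, hDB, -, -⟩ := f.oth
  have y3 : y ^ 3 = 1 := hy ▸ pow_orderOf_eq_one y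
  have cz : ∀ a : Λ, l * a * l⁻¹ * (l * y * l⁻¹) = l * y * l⁻¹ * (l * a * l⁻¹) → a ∈ zpowers y := by
    intro a e
    rw [← f.cz]
    refine mem_centralizer_singleton_iff.2 ?_
    calc a * y = l⁻¹ * (l * a * l⁻¹ * (l * y * l⁻¹)) * l := by group
      _ = y * a := by rw [e]; group
  have cV : Nat.card (cj l A) = 4 := by rw [card_cj, hA]
  have yV : l * y * l⁻¹ ∈ No (cj l A) := by
    rw [No, ← cj_normalizer]
    exact conj_mem_cj yA
  have sV : s ∉ cj l A := fun h => by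
    rw [sup_eq_left.2 (zpowers_le.2 h), cV] at hD
    omega
  have sD : s ∈ cj l A ⊔ zpowers s := mem_sup_right (mem_zpowers s)
  have DV : cj l A ⊔ zpowers s ≤ No (cj l A) := sup_le le_normalizer (zpowers_le.2 hsV)
  have VD : cj l A ≤ cj l A ⊔ zpowers s := le_sup_left
  generalize cj l A ⊔ zpowers s = D at *
  obtain ⟨d, hd, hdB⟩ : ∃ d ∈ D, d ∉ B := by
    by_contra h
    push Not at h
    have := card_le_of_le (show D ≤ B from h)
    omega
  obtain ⟨b, hb, t, ht, rfl⟩ := (mem_sup_right_norm inf_le_left).1 (f.nb (hDB hd))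
  have tD : t ∈ D := by simpa using D.mul_mem (D.inv_mem (hBD hb)) hd
  have tB : t ∉ B := fun h => hdB (B.mul_mem hb h)
  refine ⟨D, cj l A, l, t, s, ht.2, ht.1, ?_, IsPGroup.of_card (n := 3) hD, VD, ?_, yV, DV, sD, sV,
    hsy, fun h => ?_, fun Y hY hn hp => ?_⟩
  · have h1 : B ⊔ zpowers t ≤ D := sup_le hBD (zpowers_le.2 tD)
    refine (eq_of_le_of_card_ge h1 ?_).symm
    obtain ⟨k, hk⟩ := card_dvd_of_le (le_sup_left : B ≤ B ⊔ zpowers t)
    rw [hB] at hk
    have h0 : 0 < Nat.card ↥(B ⊔ zpowers t) := Nat.card_pos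
    have h2 : Nat.card ↥(B ⊔ zpowers t) ≠ 4 := fun e => tB <| by
      rw [eq_of_le_of_card_ge (le_sup_left : B ≤ B ⊔ zpowers t) (by omega)]
      exact mem_sup_right (mem_zpowers t)
    omega
  · have h1 := ((cj l A).subgroupOf D).index_mul_card
    rw [Nat.card_congr (subgroupOfEquivOfLe VD).toEquiv, cV, hD] at h1
    change ((cj l A).subgroupOf D).index = 2
    omega
  · have h1 : s ∈ Ce (cj l A) := fun v hv => commutator_eq_bot_iff_le_centralizer.1 h sD v (VD hv)
    have h2 : l * y * l⁻¹ * s⁻¹ * (l * y * l⁻¹)⁻¹ ∈ Ce (cj l A) :=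
      conj_mem_of_mem_normalizer (normalizer_le_normalizer_centralizer _ yV) (inv_mem h1)
    have h3 : l * y * l⁻¹ ∈ Ce (cj l A) := by
      have e : s * (l * y * l⁻¹ * s⁻¹ * (l * y * l⁻¹)⁻¹) = l * y * l⁻¹ := by
        calc _ = s * (l * y * l⁻¹) * s⁻¹ * (l * y * l⁻¹)⁻¹ := by group
          _ = l * (y * (y ^ 3)⁻¹) * l⁻¹ := by rw [hsy]; group
          _ = _ := by rw [y3, inv_one, mul_one]
      exact e ▸ mul_mem h1 h2
    have h4 : A ≤ zpowers y := fun a ha => cz a (h3 _ (conj_mem_cj ha))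
    have := card_le_of_le h4
    rw [Nat.card_zpowers] at this
    omega
  · by_contra hne
    have h1 := card_dvd_of_le hY
    rw [card_cj, hB] at h1
    have h2 := (one_lt_card_iff_ne_bot Y).2 hne
    have h3 : Nat.card Y = 2 ∨ Nat.card Y = 4 := by
      have := Nat.le_of_dvd (by norm_num) h1
      generalize Nat.card Y = n at *
      interval_cases n <;> simp_all
    rcases h3 with h3 | h3
    · obtain ⟨w, hw, hu⟩ := (Nat.card_eq_two_iff' (1 : Y)).1 h3
      have hw1 : (w : Λ) ≠ 1 := fun e => hw (Subtype.ext e)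
      have h4 : l * y * l⁻¹ * w * (l * y * l⁻¹)⁻¹ = w :=
        congrArg Subtype.val (hu ⟨_, conj_mem_of_mem_normalizer hn w.2⟩ fun e =>
          hw1 (conj_eq_one_iff.1 (congrArg Subtype.val e)))
      have h5 : l⁻¹ * w * l ∈ zpowers y := cz _ (by
        calc _ = (l * y * l⁻¹ * w * (l * y * l⁻¹)⁻¹) * (l * y * l⁻¹) := by rw [h4]; group
          _ = _ := by group)
      have h6 := f.el _ (mem_cj.1 (hY w.2))
      have h7 : (l⁻¹ * w * l) ^ 3 = 1 := by
        obtain ⟨k, hk⟩ := h5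
        rw [← hk, ← zpow_natCast, ← zpow_mul, mul_comm, zpow_mul, zpow_natCast, y3, one_zpow]
      rw [pow_succ, pow_two, h6, one_mul] at h7
      refine hw1 ?_
      calc (w : Λ) = l * (l⁻¹ * w * l) * l⁻¹ := by group
        _ = 1 := by rw [h7]; group
    · have h4 : Y = cj l B := eq_of_le_of_card_ge hY (by rw [card_cj]; omega)
      have h5 : (⊤ : Subgroup Λ) ≤ Y ⊔ D := by
        rw [← cj_top l, ← hAB, cj_sup, h4]
        exact sup_le (VD.trans le_sup_right) le_sup_left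
      obtain ⟨k, hk⟩ := isPGroup_iff_forall.1 hp y (h5 (mem_top y))
      have h6 := orderOf_dvd_of_pow_eq_one hk
      rw [hy] at h6
      have := Nat.prime_three.dvd_of_dvd_pow h6
      omega

theorem job : JPM := fun h B y hB hy hn => pm_of hB hy (h B y hB hy hn)

end H66.DNPM
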