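import Cfsg.Agent.H66.SzPS
import Cfsg.Agent.H66.SzClass

/-! Divisibility properties of the character degrees of the Suzuki groups. -/

set_option autoImplicit false

open Cfsg H28
open scoped ComplexConjugate

namespace H66

theorem exists_irr_ne_one {A : Type*} [Group A] [Finite A] [Nontrivial A] :
    ∃ ψ : A → ℂ, IsIrrCharacter A ψ ∧ ψ ≠ fun _ => 1 := by
  obtain ⟨a, ha⟩ := exists_ne (1 : A)
  by_contra h
  push Not at h
  exact ha (isConj_one_left.mp (isConj_iff_irr.mpr fun ψ => by rw [h ψ ψ.2]))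

namespace Model

variable {F : Type*} [Field F] {T : Tits F} {G : Type*} [Group G] (M : Model T G) {m : ℕ}
  [Fintype G] {A A' : Subgroup G} {ψ ψ' χ : G → ℂ}

/-- The cuspidal part of the generalized character induced from a non-split torus. -/
noncomputable def gam (A : Subgroup G) (ψ : A → ℂ) : G → ℂ :=
  indFun A ((fun _ => 1) - ψ) - (fun _ => 1) + M.st

theorem isGen_gam [Finite F] {ψ : A → ℂ} (hψ : IsIrrCharacter A ψ) :
    IsGeneralizedCharacter G (M.gam A ψ) :=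
  ((isGeneralizedCharacter_one.sub hψ.isGeneralizedCharacter).indFun.sub
    isGeneralizedCharacter_one).add M.isIrr_st.isGeneralizedCharacter

omit [Fintype G] in
theorem pow_of_mem (hT : T.IsFin m) (hk : Nat.card A = aP m ∨ Nat.card A = aM m) (a : A) :
    (a : G) ^ (Nat.card F ^ 2 + 1) = 1 :=
  pow_eq_one_of_dvd' (congrArg Subtype.val (pow_card_eq_one' (x := a))) (hT.dvd_of_torus hk)

theorem ind_one {ψ : A → ℂ} (hψ : IsIrrCharacter A ψ) (h1 : ψ ≠ fun _ => 1) :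
    classInner (indFun A ((fun _ => 1) - ψ)) (fun _ => 1) = 1 := by
  classical
  rw [H33.classInner_indFun_left _ _ (isClassFunction_const 1), classInner_sub_left,
    classInner_one_one, hψ.classInner_of_ne isIrrCharacter_one h1, sub_zero]

theorem ind_ps (hT : T.IsFin m) (hA : IsCC A) (hk : Nat.card A = aP m ∨ Nat.card A = aM m)
    {ψ : A → ℂ} (hψ : IsIrrCharacter A ψ) (l : Fˣ →* ℂˣ) :
    classInner (indFun A ((fun _ => 1) - ψ)) (M.ps l) = 0 := by
  classical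
  rw [H33.classInner_indFun_left _ _ (M.isCharacter_ps l).isClassFunction]
  exact classInner_eq_zero_of_support
    (by simp [hψ.apply_one_of_comm fun a b => Subtype.ext (hA.comm b.2 a.2)])
    fun a ha => M.ps_eq_zero hT l (fun e => ha (Subtype.ext e)) (pow_of_mem hT hk a)

theorem ind_st (hT : T.IsFin m) (hA : IsCC A) (hk : Nat.card A = aP m ∨ Nat.card A = aM m)
    {ψ : A → ℂ} (hψ : IsIrrCharacter A ψ) (h1 : ψ ≠ fun _ => 1) :
    classInner (indFun A ((fun _ => 1) - ψ)) M.st = -1 := by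
  rw [st, classInner_sub_right, M.ind_ps hT hA hk hψ, ind_one hψ h1, zero_sub]

theorem classInner_one_st : classInner (fun _ => 1) M.st = 0 :=
  (classInner_eq_zero_comm _ _).mp M.classInner_st_one

theorem gam_gam (hT : T.IsFin m) (hA : IsCC A) (hk : Nat.card A = aP m ∨ Nat.card A = aM m)
    {ψ : A → ℂ} (hψ : IsIrrCharacter A ψ) (h1 : ψ ≠ fun _ => 1)
    (hA' : IsCC A') (hk' : Nat.card A' = aP m ∨ Nat.card A' = aM m)
    {ψ' : A' → ℂ} (hψ' : IsIrrCharacter A' ψ') (h1' : ψ' ≠ fun _ => 1) :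
    classInner (M.gam A ψ) (M.gam A' ψ') =
      classInner (indFun A ((fun _ => 1) - ψ)) (indFun A' ((fun _ => 1) - ψ')) - 2 := by
  have := hT.finite
  have e1 := classInner_comm_of_int (n := 1) (by simpa using ind_one hψ' h1')
  have e2 := classInner_comm_of_int (n := -1) (by simpa using M.ind_st hT hA' hk' hψ' h1')
  simp only [gam, classInner_add_left, classInner_add_right, classInner_sub_left (indFun _ _),
    classInner_sub_right _ (indFun _ _), e1, e2, ind_one hψ h1, M.ind_st hT hA hk hψ h1,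
    classInner_one_one, classInner_one_st, classInner_st_one, M.isIrr_st.classInner_self]
  push_cast
  ring

theorem gam_gam_of_coprime (hT : T.IsFin m) (hA : IsCC A)
    (hk : Nat.card A = aP m ∨ Nat.card A = aM m)
    {ψ : A → ℂ} (hψ : IsIrrCharacter A ψ) (h1 : ψ ≠ fun _ => 1)
    (hA' : IsCC A') (hk' : Nat.card A' = aP m ∨ Nat.card A' = aM m)
    {ψ' : A' → ℂ} (hψ' : IsIrrCharacter A' ψ') (h1' : ψ' ≠ fun _ => 1)
    (hc : (Nat.card A).Coprime (Nat.card A')) : classInner (M.gam A ψ) (M.gam A' ψ') = -2 := by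
  classical
  rw [M.gam_gam hT hA hk hψ h1 hA' hk' hψ' h1',
    H33.classInner_indFun_left _ _ (H33.indFun_isClassFunction _ _), classInner_eq_zero_of_support
      (by simp [hψ.apply_one_of_comm fun a b => Subtype.ext (hA.comm b.2 a.2)]), zero_sub]
  refine fun a ha => H33.indFun_eq_zero_of _ _ _ fun y c => absurd (Subtype.ext
    (eq_one_of_pow_coprime hc (congrArg Subtype.val (pow_card_eq_one' (x := a))) ?_)) ha
  obtain ⟨x, e⟩ := isConj_iff.mp c.symm
  rw [← e, conj_pow, show (y : G) ^ Nat.card A' = 1 from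
    congrArg Subtype.val (pow_card_eq_one' (x := y))]
  simp

theorem gam_gam_self (hT : T.IsFin m) (hA : IsCyclic A)
    (hk : Nat.card A = aP m ∨ Nat.card A = aM m)
    {ψ ψ' : A → ℂ} (hψ : IsIrrCharacter A ψ) (h1 : ψ ≠ fun _ => 1)
    (hψ' : IsIrrCharacter A ψ') (h1' : ψ' ≠ fun _ => 1) :
    ∃ r : ℝ, 0 ≤ r ∧ (ψ = ψ' → r = 1) ∧ classInner (M.gam A ψ) (M.gam A ψ') = 2 + r := by
  classical
  have hC := M.isCC_of_card hT hk hA rfl
  obtain ⟨r, r0, r1, h⟩ := hC.classInner_ind hψ h1 hψ' h1' (M.card_normalizer hT hk hA rfl)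
  refine ⟨r, r0, r1, ?_⟩
  rw [M.gam_gam hT hC hk hψ h1 hC hk hψ' h1', h]
  push_cast
  ring

theorem gam_cusp [Finite F] [Fintype A] (ψ : A → ℂ) (hχ : IsIrrCharacter G χ)
    (h1 : χ ≠ fun _ => 1) (h2 : χ ≠ M.st) :
    classInner ((fun _ => 1) - ψ) (fun a : A => χ a) = classInner (M.gam A ψ) χ := by
  rw [gam, classInner_add_left, classInner_sub_left (indFun _ _),
    isIrrCharacter_one.classInner_of_ne hχ h1.symm, M.isIrr_st.classInner_of_ne hχ h2.symm,
    H33.classInner_indFun_left _ _ hχ.isClassFunction, sub_zero, add_zero]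

theorem cusp_of_gam (hT : T.IsFin m) (hA : IsCC A) (hk : Nat.card A = aP m ∨ Nat.card A = aM m)
    {ψ : A → ℂ} (hψ : IsIrrCharacter A ψ) (h1 : ψ ≠ fun _ => 1) (hχ : IsIrrCharacter G χ)
    (h : classInner (M.gam A ψ) χ ≠ 0) : M.Cusp χ ∧ (χ ≠ fun _ => 1) ∧ χ ≠ M.st := by
  have := hT.finite
  refine (M.cusp_or hT hχ).resolve_right fun h' => h ?_
  rw [gam, classInner_add_left, classInner_sub_left (indFun _ _)]
  rcases h' with rfl | rfl | ⟨l, hl, rfl⟩
  · rw [ind_one hψ h1, classInner_one_one, classInner_st_one]; simp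
  · rw [M.ind_st hT hA hk hψ h1, classInner_one_st, M.isIrr_st.classInner_self]; simp
  · have q2 : (Nat.card F ^ 2 : ℕ) ≠ 0 := pow_ne_zero _ Nat.card_pos.ne'
    rw [M.ind_ps hT hA hk hψ, isIrrCharacter_one.classInner_of_ne hχ, M.isIrr_st.classInner_of_ne hχ]
    · simp
    · intro e
      have := congrFun e 1
      rw [st_one, ps_one, Nat.cast_inj] at this
      omega
    · intro e
      have := congrFun e 1
      rw [ps_one] at this
      norm_cast at this
      omega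

theorem gam_one [Finite F] (hA : IsCC A) {ψ : A → ℂ} (hψ : IsIrrCharacter A ψ) :
    M.gam A ψ 1 = ((Nat.card F ^ 2 - 1 : ℤ) : ℂ) := by
  simp [gam, H33.indFun_apply_one, st_one,
    hψ.apply_one_of_comm fun a b => Subtype.ext (hA.comm b.2 a.2), sub_eq_neg_add]

theorem gam_real (hT : T.IsFin m) (hA : IsCyclic A) (hk : Nat.card A = aP m ∨ Nat.card A = aM m)
    {ψ : A → ℂ} (hψ : IsIrrCharacter A ψ) (g : G) : conj (M.gam A ψ g) = M.gam A ψ g := by
  have hA' : IsTorus m A := ⟨hA, Or.inr hk⟩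
  obtain ⟨t, ht, t2, t1⟩ := M.exists_involution_normalizer hT hA'
  have h1 := indFun_real (isGeneralizedCharacter_one.sub hψ.isGeneralizedCharacter)
    (fun a ha => isConj_iff.mpr ⟨t, (M.isCC_of_isTorus hT hA').inverts ht (by rw [← pow_two, t2])
      (fun h => t1 (eq_one_of_mem_torus hA' h (by rw [show 4 = 2 * 2 from rfl, pow_mul, t2, one_pow])))
      ha⟩) g
  have h2 : conj (M.ps 1 g) = M.ps 1 g := by
    rw [ps, ← H33.indFun_conj]
    simp
  simp only [gam, st, Pi.add_apply, Pi.sub_apply, map_add, map_sub, map_one, h1, h2]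

theorem dvd_sub_of_gam [Finite F] (hA : IsCC A) (hχ : IsIrrCharacter G χ) (h1 : χ ≠ fun _ => 1)
    (h2 : χ ≠ M.st) {c : ℤ} (h : ∀ ψ : A → ℂ, IsIrrCharacter A ψ → (ψ ≠ fun _ => 1) →
      classInner (M.gam A ψ) χ = c) : (Nat.card A : ℤ) ∣ charDegree χ - c := by
  classical
  rw [← charDegree_restrict χ A]
  exact card_dvd_degree_sub (fun a b => Subtype.ext (hA.comm b.2 a.2)) (hχ.isCharacter.restrict A)
    fun ψ hψ h' => by rw [M.gam_cusp ψ hχ h1 h2, h ψ hψ h']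

include M in
theorem degrees_aux (hT : T.IsFin m) (hA : IsCyclic A) (hA' : IsCyclic A')
    (hk : Nat.card A = aP m ∧ Nat.card A' = aM m ∨ Nat.card A = aM m ∧ Nat.card A' = aP m) :
    (∀ χ, IsIrrCharacter G χ → 2 ∣ charDegree χ → (charDegree χ).Coprime (Nat.card F ^ 2 + 1)) ∧
    (∃ χ, IsIrrCharacter G χ ∧ (Nat.card F - 1) * Nat.card A' ∣ charDegree χ) ∧
    ∃ χ, IsIrrCharacter G χ ∧ Nat.card F - 1 ∣ charDegree χ ∧
      (charDegree χ).Coprime (Nat.card F ^ 2 + 1) ∧ ∃ e : ℤ, (e = 1 ∨ e = -1) ∧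
        (Nat.card A : ℤ) ∣ charDegree χ - e := by
  have := hT.finite
  have k1 : Nat.card A = aP m ∨ Nat.card A = aM m := hk.imp And.left And.left
  have k2 : Nat.card A' = aP m ∨ Nat.card A' = aM m := hk.symm.imp And.right And.right
  have hc : (Nat.card A).Coprime (Nat.card A') := by
    rcases hk with ⟨h1, h2⟩ | ⟨h1, h2⟩ <;> rw [h1, h2]
    exacts [coprime_aP_aM m, (coprime_aP_aM m).symm]
  have hm : Nat.card A * Nat.card A' = Nat.card F ^ 2 + 1 := by
    rcases hk with ⟨h1, h2⟩ | ⟨h1, h2⟩ <;> rw [h1, h2, ← hT.aP_mul_aM]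
    exact mul_comm _ _
  have hC := M.isCC_of_card hT k1 hA rfl
  have hC' := M.isCC_of_card hT k2 hA' rfl
  let S : Set (G → ℂ) := {θ | (∃ ψ, IsIrrCharacter A ψ ∧ (ψ ≠ fun _ => 1) ∧ θ = M.gam A ψ) ∨
    ∃ ψ, IsIrrCharacter A' ψ ∧ (ψ ≠ fun _ => 1) ∧ θ = -M.gam A' ψ}
  have gen : ∀ θ ∈ S, IsGeneralizedCharacter G θ := by
    rintro θ (⟨ψ, h, -, rfl⟩ | ⟨ψ, h, -, rfl⟩)
    exacts [M.isGen_gam h, (M.isGen_gam h).neg]
  have n3 : ∀ θ ∈ S, classInner θ θ = 3 := by
    rintro θ (⟨ψ, h, h1, rfl⟩ | ⟨ψ, h, h1, rfl⟩)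
    · obtain ⟨r, -, r1, e⟩ := M.gam_gam_self hT hA k1 h h1 h h1
      rw [e, r1 rfl]; norm_num
    · obtain ⟨r, -, r1, e⟩ := M.gam_gam_self hT hA' k2 h h1 h h1
      rw [classInner_neg_left, classInner_neg_right, e, r1 rfl]; norm_num
  have n2 : ∀ θ ∈ S, ∀ η ∈ S, 2 ≤ (classInner θ η).re := by
    rintro θ (⟨ψ, h, h1, rfl⟩ | ⟨ψ, h, h1, rfl⟩) η (⟨ψ', h', h1', rfl⟩ | ⟨ψ', h', h1', rfl⟩)
    · obtain ⟨r, r0, -, e⟩ := M.gam_gam_self hT hA k1 h h1 h' h1'
      simpa [e] using r0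
    · simp [classInner_neg_right, M.gam_gam_of_coprime hT hC k1 h h1 hC' k2 h' h1' hc]
    · simp [classInner_neg_left, M.gam_gam_of_coprime hT hC' k2 h h1 hC k1 h' h1' hc.symm]
    · obtain ⟨r, r0, -, e⟩ := M.gam_gam_self hT hA' k2 h h1 h' h1'
      simpa [classInner_neg_left, classInner_neg_right, e] using r0
  have real : ∀ θ ∈ S, ∀ g, conj (θ g) = θ g := by
    rintro θ (⟨ψ, h, -, rfl⟩ | ⟨ψ, h, -, rfl⟩) g
    · exact M.gam_real hT hA k1 h g
    · rw [Pi.neg_apply, map_neg, M.gam_real hT hA' k2 h g]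
  have deg : ∀ θ ∈ S, ∃ d : ℤ, Odd d ∧ θ 1 = d := by
    have o : Odd ((Nat.card F : ℤ) ^ 2 - 1) := Even.sub_odd
      (even_iff_two_dvd.mpr (dvd_pow (Int.natCast_dvd_natCast.mpr hT.two_dvd) two_ne_zero)) odd_one
    rintro θ (⟨ψ, h, -, rfl⟩ | ⟨ψ, h, -, rfl⟩)
    · exact ⟨_, o, M.gam_one hC h⟩
    · exact ⟨_, o.neg, by rw [Pi.neg_apply, M.gam_one hC' h, Int.cast_neg]⟩
  have dv : ∀ χ, IsIrrCharacter G χ → (χ ≠ fun _ => 1) → χ ≠ M.st → ∀ c : ℤ,
      (∀ θ ∈ S, classInner θ χ = c) →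
      (Nat.card A : ℤ) ∣ charDegree χ - c ∧ (Nat.card A' : ℤ) ∣ charDegree χ + c :=
    fun χ hχ h1 h2 c h => ⟨M.dvd_sub_of_gam hC hχ h1 h2 fun ψ a b => h _ (Or.inl ⟨ψ, a, b, rfl⟩), by
      simpa using M.dvd_sub_of_gam hC' hχ h1 h2 (c := -c) fun ψ a b => by
        rw [Int.cast_neg, ← h _ (Or.inr ⟨ψ, a, b, rfl⟩), classInner_neg_left, neg_neg]⟩
  have ex : ∀ χ, IsIrrCharacter G χ → M.Cusp χ ∧ (χ ≠ fun _ => 1) ∧ χ ≠ M.st →
      ∃ θ ∈ S, classInner θ χ ≠ 0 := fun χ hχ ⟨h0, h1, h2⟩ => by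
    by_contra h
    push Not at h
    obtain ⟨d1, d2⟩ := dv χ hχ h1 h2 0 (by simpa using h)
    simp only [sub_zero, add_zero, Int.natCast_dvd_natCast] at d1 d2
    have d3 := hT.coprime_sub_one.mul_dvd_of_dvd_of_dvd (Cusp.dvd M hχ.isCharacter h0)
      (hm ▸ hc.mul_dvd_of_dvd_of_dvd d1 d2)
    have d4 := Nat.le_of_dvd (Nat.pos_of_ne_zero fun e =>
      hχ.ne_zero (hχ.isCharacter.charDegree_eq_zero_iff.mp e)) d3
    have d5 := (Nat.pow_le_pow_left d4 2).trans hχ.charDegree_sq_le_card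
    rw [M.card_G, pow_two, mul_assoc (Nat.card F ^ 2)] at d5
    have q8 := hT.eight_le
    have d6 := Nat.le_of_mul_le_mul_right d5 (Nat.mul_pos (by omega) (by omega))
    have : 1 * (Nat.card F ^ 2 + 1) ≤ (Nat.card F - 1) * (Nat.card F ^ 2 + 1) :=
      Nat.mul_le_mul_right _ (by omega)
    omega
  -- a non-real character
  have x2 : M.u 1 0 ^ 2 ≠ 1 := by simp [M.u_sq, M.u_eq_one]
  have x1 : M.u 1 0 ≠ 1 := by simp [M.u_eq_one]
  obtain ⟨⟨W, hW⟩, hx⟩ := not_forall.mp (mt isConj_iff_irr.mpr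
    (M.not_isConj_inv hT (M.u_pow_four 1 0) x2))
  have hWc : M.Cusp W ∧ (W ≠ fun _ => 1) ∧ W ≠ M.st := by
    have e : ∀ l, M.ps l (M.u 1 0) = M.ps l (M.u 1 0)⁻¹ := fun l => by
      rw [M.ps_u l (M.u_mem_Q _ _) x1, M.ps_u l (inv_mem (M.u_mem_Q _ _)) (inv_ne_one.mpr x1)]
    refine (M.cusp_or hT hW).resolve_right ?_
    rintro (rfl | rfl | ⟨l, -, rfl⟩)
    · exact hx rfl
    · exact hx (by simp [st, e])
    · exact hx (e l)
  have hne : W ≠ fun g => conj (W g) := fun e =>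
    hx ((congrFun e _).trans (hW.isCharacter.apply_inv _).symm)
  obtain ⟨θ₀, h0, h0W⟩ := ex W hW hWc
  obtain ⟨e, he, hS⟩ := sunflower S gen n3 n2 real hW hne h0 h0W
  have eW : ∀ θ ∈ S, classInner θ W = e := fun θ hθ => by
    obtain ⟨X, ε, hX, -, x1, -, rfl⟩ := hS θ hθ
    simp [classInner_add_left, classInner_smul_left, hW.classInner_self,
      hW.conj.classInner_of_ne hW hne.symm, hX.classInner_of_ne hW x1]
  obtain ⟨d1, d2⟩ := dv W hW hWc.2.1 hWc.2.2 e eW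
  have cW : (charDegree W).Coprime (Nat.card F ^ 2 + 1) := by
    rw [← hm]
    refine Nat.Coprime.mul_right ?_ ?_
    · obtain ⟨c, hc⟩ := d1
      rw [← Nat.isCoprime_iff_coprime]
      exact ⟨e, -e * c, by rcases he with rfl | rfl <;> linarith⟩
    · obtain ⟨c, hc⟩ := d2
      rw [← Nat.isCoprime_iff_coprime]
      exact ⟨-e, e * c, by rcases he with rfl | rfl <;> linarith⟩
  refine ⟨fun χ hχ h2 => ?_, ?_, W, hW, Cusp.dvd M hW.isCharacter hWc.1, cW, e, he, d1⟩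
  · rcases M.cusp_or hT hχ with h | rfl | rfl | ⟨l, -, rfl⟩
    · obtain ⟨θ, hθ, h'⟩ := ex χ hχ h
      obtain ⟨d, od, hd⟩ := deg θ hθ
      obtain ⟨X, ε, hX, hε, -, -, rfl⟩ := hS θ hθ
      by_cases c1 : W = χ
      · exact c1 ▸ cW
      by_cases c2 : (fun g => conj (W g)) = χ
      · rw [← c2, hW.isCharacter.charDegree_conj]; exact cW
      obtain rfl : X = χ := by
        by_contra c3
        exact h' (by simp [classInner_add_left, classInner_smul_left, hW.classInner_of_ne hχ c1,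
          hW.conj.classInner_of_ne hχ c2, hX.classInner_of_ne hχ c3])
      simp only [Pi.add_apply, Pi.smul_apply, smul_eq_mul, hW.isCharacter.charDegree_eq_iff.mp rfl,
        hX.isCharacter.charDegree_eq_iff.mp rfl, map_natCast] at hd
      norm_cast at hd
      obtain ⟨c, hc⟩ := h2
      rw [hc] at hd
      exact absurd od (Int.not_odd_iff_even.mpr ⟨e * charDegree W + ε * c, by
        rw [← hd]; push_cast; ring⟩)
    · simp [charDegree_one]
    · rw [hχ.isCharacter.charDegree_eq_iff.mpr M.st_one]; simp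
    · rw [hχ.isCharacter.charDegree_eq_iff.mpr (M.ps_one l)] at h2
      exact absurd h2 hT.odd_sq_add_one.not_two_dvd_nat
  · have : Nontrivial A := Finite.one_lt_card_iff_nontrivial.mp (by have := hT.five_le k1; omega)
    obtain ⟨ψ, hψ, h1⟩ := exists_irr_ne_one (A := A)
    obtain ⟨X, ε, hX, hε, x1, x2, hθ⟩ := hS _ (Or.inl ⟨ψ, hψ, h1, rfl⟩)
    have ε0 : (ε : ℂ) ≠ 0 := by rcases hε with rfl | rfl <;> simp
    obtain ⟨c0, c1, c2⟩ := M.cusp_of_gam hT hC k1 hψ h1 hX (by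
      simpa [hθ, classInner_add_left, classInner_smul_left, hX.classInner_self,
        hW.conj.classInner_of_ne hX x2.symm, hW.classInner_of_ne hX x1.symm] using ε0)
    refine ⟨X, hX, (hT.coprime_sub_one.coprime_dvd_right (hT.dvd_of_torus k2)).mul_dvd_of_dvd_of_dvd
      (Cusp.dvd M hX.isCharacter c0) ?_⟩
    have := M.dvd_sub_of_gam hC' hX c1 c2 (c := 0) fun φ hφ h2 => by
      have hη : -M.gam A' φ ∈ S := Or.inr ⟨φ, hφ, h2, rfl⟩
      have a1 := eW _ hη
      have a2 := classInner_conj_of_real (real _ hη) a1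
      have a3 := M.gam_gam_of_coprime hT hC' k2 hφ h2 hC k1 hψ h1 hc.symm
      rw [classInner_neg_left, neg_eq_iff_eq_neg] at a1 a2
      rw [hθ, classInner_add_right, classInner_add_right, classInner_smul_right,
        classInner_smul_right, classInner_smul_right, a1, a2] at a3
      simp only [map_intCast] at a3
      have ee : (e : ℂ) * e = 1 := by rcases he with rfl | rfl <;> simp
      rw [Int.cast_zero]
      exact (mul_eq_zero.mp (by linear_combination a3 + 2 * ee)).resolve_left ε0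
    simpa [Int.natCast_dvd_natCast] using this

include M in
theorem degrees (hT : T.IsFin m) :
    (∀ χ, IsIrrCharacter G χ → 2 ∣ charDegree χ → (charDegree χ).Coprime (Nat.card F ^ 2 + 1)) ∧
    (∃ χ, IsIrrCharacter G χ ∧ charDegree χ = Nat.card F ^ 2 + 1) ∧
    (∃ χ, IsIrrCharacter G χ ∧ (Nat.card F - 1) * aP m ∣ charDegree χ) ∧
    (∃ χ, IsIrrCharacter G χ ∧ (Nat.card F - 1) * aM m ∣ charDegree χ) ∧
    ∃ χ, IsIrrCharacter G χ ∧ 2 * (Nat.card F - 1) ∣ charDegree χ := by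
  have := hT.finite
  obtain ⟨A, a1, a2, -⟩ := M.exists_torus hT (Or.inl rfl)
  obtain ⟨A', b1, b2, -⟩ := M.exists_torus hT (Or.inr rfl)
  obtain ⟨h1, h2, W, hW, w1, w2, e, he, w3⟩ := M.degrees_aux hT a1 b1 (Or.inl ⟨a2, b2⟩)
  obtain ⟨-, h3, -⟩ := M.degrees_aux hT b1 a1 (Or.inr ⟨b2, a2⟩)
  refine ⟨h1, ?_, a2 ▸ h3, b2 ▸ h2, W, hW, ?_⟩
  · obtain ⟨k, hk⟩ := hT.exists_unit_ne_one
    have : Nontrivial Fˣ := ⟨⟨k, 1, hk⟩⟩
    obtain ⟨ψ, hψ, h1⟩ := exists_irr_ne_one (A := Fˣ)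
    obtain ⟨l, rfl⟩ := hψ.isCharacter.exists_hom (hψ.apply_one_of_comm mul_comm)
    exact ⟨_, M.isIrr_ps hT (l := l) fun e => h1 (by simp [e]),
      (M.isCharacter_ps l).charDegree_eq_iff.mpr (M.ps_one l)⟩
  · refine (Nat.coprime_two_left.mpr hT.odd_sub_one).mul_dvd_of_dvd_of_dvd ?_ w1
    by_contra h
    have d1 := hW.charDegree_dvd_card
    rw [M.card_G] at d1
    have d2 := w2.dvd_of_dvd_mul_right d1
    have d3 : (charDegree W).Coprime (Nat.card F ^ 2) := by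
      rw [hT.card, ← pow_mul]
      exact (Nat.coprime_two_right.mpr (Nat.odd_iff.mpr (by omega))).pow_right _
    rw [Nat.dvd_antisymm (d3.dvd_of_dvd_mul_left d2) w1, a2] at w3
    have q8 := hT.eight_le
    have := Int.le_of_dvd (by omega) w3
    have : Nat.card F < aP m := by rw [hT.card, aP]; exact Nat.lt_succ_of_le (Nat.le_add_right _ _)
    omega

end Model

end H66
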