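import Cfsg.Agent.H70.ReeSpec
import Cfsg.Agent.H7.NormTrick
import Cfsg.Agent.H48.Rank2Solv
import Cfsg.Agent.S0626

/-! ORD3.md, section R27: elements of order `27` on a tensor product module. -/

set_option autoImplicit false

namespace H66.O3

open Cfsg Subgroup H24 H70.Sq Finset
open scoped commutatorElement

universe u

theorem exists_top {R : Type*} [Ring R] {n : R} (h4 : n ^ 4 ≠ 0) (h9 : n ^ 9 = 0) :
    ∃ a, n ^ a * n ^ 4 ≠ 0 ∧ n ^ a * n ^ 5 = 0 := by
  by_contra h
  push Not at h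
  have : ∀ a, n ^ a * n ^ 4 ≠ 0 := by
    intro a
    induction a with
    | zero => simpa using h4
    | succ a ih =>
      have := h a ih
      rwa [← pow_add, show a + 5 = a + 1 + 4 by omega, pow_add] at this
  exact this 5 (by rw [← pow_add]; exact h9)

theorem ring_end {R : Type*} [Ring R] (h3 : (3 : R) = 0) {n m : R} (hc : Commute n m)
    (n4 : n ^ 4 ≠ 0) (m4 : m ^ 4 ≠ 0) (n9 : n ^ 9 = 0) (m9 : m ^ 9 = 0) (h8 : (n - m) ^ 8 = 0)
    (rect : ∀ a b, n ^ a * m ^ b = 0 → n ^ a = 0 ∨ m ^ b = 0) : False := by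
  obtain ⟨a, ha, ha'⟩ := exists_top n4 n9
  obtain ⟨b, hb, hb'⟩ := exists_top m4 m9
  rw [← pow_add] at ha ha' hb hb'
  have hn : ∀ k, 5 ≤ k → n ^ (a + k) = 0 := fun k hk => pow_eq_zero_of_le (by omega) ha'
  have hm : ∀ k, 5 ≤ k → m ^ (b + k) = 0 := fun k hk => pow_eq_zero_of_le (by omega) hb'
  have e : ∀ k l, n ^ a * m ^ b * (n ^ k * (-m) ^ l) = (-1) ^ l * (n ^ (a + k) * m ^ (b + l)) := by
    intro k l
    rw [neg_pow m, pow_add, pow_add]
    have c1 : Commute ((-1 : R) ^ l) (n ^ k) := (Commute.neg_one_left _).pow_left _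
    have c2 : Commute ((-1 : R) ^ l) (n ^ a * m ^ b) := (Commute.neg_one_left _).pow_left _
    have c3 : Commute (m ^ b) (n ^ k) := (hc.symm.pow_pow b k)
    calc n ^ a * m ^ b * (n ^ k * ((-1) ^ l * m ^ l))
        = n ^ a * m ^ b * ((-1) ^ l * (n ^ k * m ^ l)) := by
          rw [← mul_assoc (n ^ k), ← c1.eq, mul_assoc ((-1) ^ l)]
      _ = (-1) ^ l * (n ^ a * (m ^ b * n ^ k) * m ^ l) := by
          rw [← mul_assoc, ← c2.eq]; simp only [mul_assoc]
      _ = _ := by rw [c3.eq]; simp only [mul_assoc]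
  have h := congrArg (n ^ a * m ^ b * ·) h8
  rw [sub_eq_add_neg, (hc.neg_right).add_pow, mul_zero, mul_sum, sum_eq_single 4] at h
  · rw [← mul_assoc, e] at h
    have h70 : ((Nat.choose 8 4 : ℕ) : R) = 1 := by
      rw [show Nat.choose 8 4 = 3 * 23 + 1 by decide, Nat.cast_add, Nat.cast_mul, Nat.cast_ofNat, h3,
        zero_mul, zero_add, Nat.cast_one]
    rw [h70, mul_one, show (8 - 4 : ℕ) = 2 * 2 by rfl, pow_mul, neg_one_sq, one_pow, one_mul] at h
    exact (rect _ _ h).elim ha hb
  · intro k hk hk4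
    rw [← mul_assoc, e]
    rcases Nat.lt_or_gt_of_ne hk4 with h | h
    · rw [hm (8 - k) (by omega), mul_zero, mul_zero, zero_mul]
    · rw [hn k (by omega), zero_mul, mul_zero, zero_mul]
  · intro h4
    exact absurd (mem_range.2 (by omega)) h4

theorem geom_nine {R : Type*} [Ring R] [CharP R 3] (z : R) :
    ∑ i ∈ range 9, z ^ i = (z - 1) ^ 8 := by
  have h3 : ((3 : ℕ) : R) = 0 := CharP.cast_eq_zero R 3
  have a := H7.geom_sum_eq_sub_one_pow 3 h3 z
  have b := H7.geom_sum_eq_sub_one_pow 3 h3 (z ^ 3)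
  have c : (z - 1) ^ 3 = z ^ 3 - 1 := by
    rw [sub_pow_char_of_commute _ (Commute.one_right z), one_pow]
  rw [show (8 : ℕ) = (3 - 1) + 3 * (3 - 1) by rfl, pow_add, pow_mul, c, ← a, ← b]
  simp only [sum_range_succ, range_zero, sum_empty, ← pow_mul, mul_add, add_mul, ← pow_add]
  norm_num
  abel

variable {G : Type u} [Group G] [Finite G]

/-- A quadratic element on a minimal normal elementary abelian `3`-subgroup acts trivially when the
Sylow `2`-subgroups are abelian. -/
theorem cent_of_quad {V : Subgroup G} [hn : V.Normal] (hV : IsElementaryAbelian 3 V)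
    (hmin : ∀ N : Subgroup G, N.Normal → N ≤ V → N = ⊥ ∨ N = V) (h4 : ¬ Ord G 4) {a : G}
    (hq : ∀ v ∈ V, a * (a * v * a⁻¹ * v⁻¹) * a⁻¹ = a * v * a⁻¹ * v⁻¹) :
    a ∈ centralizer (V : Set G) := by
  by_cases h0 : V = ⊥
  · intro v hv
    rw [h0] at hv
    rw [show v = 1 from hv, one_mul, mul_one]
  have hW : ∀ k : ℕ, ∀ v ∈ V, ⁅a ^ k, v⁆ ∈ centralizer ({a} : Set G) := by
    intro k
    induction k with
    | zero => intro v _; simp
    | succ k ih =>
      intro v hv
      have e : ⁅a ^ (k + 1), v⁆ = a ^ k * (a * v * a⁻¹ * v⁻¹) * (a ^ k)⁻¹ * ⁅a ^ k, v⁆ := by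
        simp only [commutatorElement_def]; group
      have m1 : a ∈ centralizer ({a} : Set G) := mem_centralizer_singleton_iff.2 rfl
      have m2 : a * v * a⁻¹ * v⁻¹ ∈ centralizer ({a} : Set G) :=
        mem_centralizer_singleton_iff.2 (mul_inv_eq_iff_eq_mul.1 (hq v hv)).symm
      rw [e]
      exact mul_mem (mul_mem (mul_mem (pow_mem m1 k) m2) (inv_mem (pow_mem m1 k))) (ih v hv)
  have hq' : ⁅⁅V, zpowers a⁆, zpowers a⁆ = ⊥ := by
    rw [commutator_eq_bot_iff_le_centralizer, commutator_comm]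
    refine le_trans (commutator_le.2 fun g hg v hv => ?_) (le_of_eq (centralizer_closure {a}).symm) |>.trans
      (le_of_eq (by rw [zpowers_eq_closure]))
    obtain ⟨k, rfl⟩ := (mem_powers_iff_mem_zpowers.2 hg : g ∈ Submonoid.powers a)
    exact hW k v hv
  have hs := (Cfsg.Agent.S0626.result (G := G) (p := 3) (by decide) (ab2_of_no_four h4).2).1 V hV a hq'
  let D := (pCore 3 (G ⧸ centralizer (V : Set G))).comap (QuotientGroup.mk' _)
  have hD : D.Normal := Normal.comap inferInstance _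
  have hne := H48.inf_centralizer_ne_bot_of_pow (p := 3) (U := V) (N := D)
    (fun v => ⟨1, Subtype.ext (by simpa using hV.2 v v.2)⟩) h0 (by rw [normalizer_eq_top]; exact le_top)
    (fun g hg => by
      obtain ⟨k, hk⟩ := H2.pCore_isPGroup 3 _ ⟨_, hg⟩
      refine ⟨k, (QuotientGroup.eq_one_iff _).1 ?_⟩
      simpa using congrArg Subtype.val hk)
  have hle := (hmin _ inferInstance inf_le_left).resolve_left hne
  intro v hv
  rw [← hle] at hv
  exact (hv.2 a hs).symm

theorem jobR27 : JobR27.{u} := by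
  intro G _ _ V J X hn hV hmin h4 hexp hJX hc y hy x hx y9 x9
  by_contra hno
  rw [not_or] at hno
  let _ : CommGroup V := { (inferInstance : Group V) with mul_comm := hV.1.is_comm.comm }
  let φ : G →* MulAut V := MulAut.conjNormal
  let ρ := H7.actEnd φ
  have hρ : ∀ (g : G) (v : Additive V), ((ρ g v).toMul : G) = g * v.toMul * g⁻¹ := fun _ _ => rfl
  have h3 : ((3 : ℕ) : AddMonoid.End (Additive V)) = 0 := by
    ext v
    rw [AddMonoid.End.natCast_apply, toMul_nsmul]
    exact hV.2 _ v.toMul.2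
  have hker : ∀ g ∈ V, ρ g = 1 := fun g hg => by
    ext v
    change g * (v.toMul : G) * g⁻¹ = v.toMul
    rw [(elem_comm hV hg v.toMul.2).eq, mul_inv_cancel_right]
  have hq : ∀ a : G, (ρ a - 1) ^ 2 = 0 → a ∈ centralizer (V : Set G) := fun a h =>
    cent_of_quad hV hmin h4 fun v hv => by
      have := H7.actEnd_sub_one_pow_apply φ a 2 ⟨v, hv⟩
      rw [show H7.actEnd φ a = ρ a from rfl, h] at this
      have h1 : (1 : G) = a * (a * v * a⁻¹ * v⁻¹) * a⁻¹ * (a * v * a⁻¹ * v⁻¹)⁻¹ :=
        congrArg (fun w : Additive V => (w.toMul : G)) this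
      exact mul_inv_eq_one.1 h1.symm
  have hnt : Nontrivial (AddMonoid.End (Additive V)) := by
    by_contra h
    rw [not_nontrivial_iff_subsingleton] at h
    exact hno.1 (hq _ (Subsingleton.elim _ _))
  have : CharP (AddMonoid.End (Additive V)) 3 := (CharP.charP_iff_prime_eq_zero Nat.prime_three).mpr h3
  have hcom : ∀ j ∈ J, ∀ g ∈ X, Commute (ρ j) (ρ g) := fun j hj g hg => by
    have := hker _ (hc (commutator_mem_commutator hj hg))
    rw [Commute, SemiconjBy, ← map_mul, ← map_mul, show j * g = ⁅j, g⁆ * (g * j) by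
      rw [commutatorElement_def]; group, map_mul ρ ⁅j, g⁆, this, one_mul]
  have p4 : ∀ a : G, a ^ 3 ∉ centralizer (V : Set G) → (ρ a - 1) ^ 4 ≠ 0 := fun a ha h => ha (hq _ (by
    rw [map_pow, ← one_pow (M := AddMonoid.End (Additive V)) 3,
      ← sub_pow_char_of_commute _ (Commute.one_right _), ← pow_mul]
    exact pow_eq_zero_of_le (by norm_num) h))
  have p9 : ∀ a : G, a ^ 9 = 1 → (ρ a - 1) ^ 9 = 0 := fun a ha => by
    have := sub_pow_char_pow_of_commute 3 2 (Commute.one_right (ρ a))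
    rw [show 3 ^ 2 = 9 by norm_num, ← map_pow, ha, map_one, one_pow, sub_self] at this
    exact this
  have cxy : Commute (ρ x) (ρ y) := (hcom y hy x hx).symm
  refine ring_end (by exact_mod_cast h3) (n := ρ x - 1) (m := ρ y - 1)
    ((cxy.sub_right (Commute.one_right _)).sub_left (Commute.one_left _)) (p4 x hno.2) (p4 y hno.1)
    (p9 x x9) (p9 y y9) ?_ ?_
  · -- the norm of `x y⁻¹`
    set g := x * y⁻¹ with hg
    have key : ∀ (v : V) (m : ℕ), ((v : G) * g) ^ m =
        (((∑ i ∈ range m, ρ g ^ i) (Additive.ofMul v)).toMul : V) * g ^ m := by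
      intro v m
      induction m with
      | zero => simp
      | succ m ih =>
        rw [pow_succ, ih, sum_range_succ, ← map_pow]
        change _ = (((∑ i ∈ range m, ρ g ^ i) (Additive.ofMul v)).toMul : V) *
          (g ^ m * v * (g ^ m)⁻¹) * g ^ (m + 1)
        rw [pow_succ]
        simp [mul_assoc]
    have g9 : g ^ 9 ∈ V := by
      rw [← QuotientGroup.eq_one_iff]
      have c : Commute (x : G ⧸ V) (y : G ⧸ V) := by
        rw [← commutatorElement_eq_one_iff_commute]
        refine (QuotientGroup.eq_one_iff ⁅x, y⁆).2 (hc ?_)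
        rw [commutator_comm]
        exact commutator_mem_commutator hx hy
      rw [hg, QuotientGroup.mk_pow, QuotientGroup.mk_mul, QuotientGroup.mk_inv, c.inv_right.mul_pow,
        inv_pow, ← QuotientGroup.mk_pow, ← QuotientGroup.mk_pow, x9, y9]
      simp
    have all9 : ∀ v : V, ((v : G) * g) ^ 9 = 1 := fun v => by
      refine hexp _ ⟨3, ?_⟩
      rw [show 3 ^ 3 = 9 * 3 by norm_num, pow_mul, key]
      exact hV.2 _ (mul_mem (Subtype.property _) g9)
    have h0 : ∑ i ∈ range 9, ρ g ^ i = 0 := by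
      ext v
      have h1 := key v.toMul 9
      have h2 := all9 1
      rw [OneMemClass.coe_one, one_mul] at h2
      rw [all9, h2, mul_one] at h1
      exact h1.symm
    rw [geom_nine] at h0
    have e : ρ x - 1 - (ρ y - 1) = (ρ g - 1) * ρ y := by
      rw [sub_mul, ← map_mul, hg, inv_mul_cancel_right, one_mul, sub_sub_sub_cancel_right]
    have c : Commute (ρ g - 1) (ρ y) := by
      refine Commute.sub_left ?_ (Commute.one_left _)
      rw [hg, map_mul]
      exact cxy.mul_left ((Commute.refl y).inv_left.map ρ)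
    rw [e, c.mul_pow, h0, zero_mul]
  · -- the rectangle
    intro a b hab
    let N : Subgroup G :=
      { carrier := {v | ∃ h : v ∈ V, ∀ g ∈ X, ((ρ x - 1) ^ a * ρ g) (Additive.ofMul ⟨v, h⟩) = 0}
        one_mem' := ⟨one_mem _, fun g _ => map_zero _⟩
        mul_mem' := by
          rintro v w ⟨hv, h1⟩ ⟨hw, h2⟩
          refine ⟨mul_mem hv hw, fun g hg => ?_⟩
          have := map_add ((ρ x - 1) ^ a * ρ g) (Additive.ofMul ⟨v, hv⟩) (Additive.ofMul ⟨w, hw⟩)
          rw [h1 g hg, h2 g hg, add_zero] at this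
          exact this
        inv_mem' := by
          rintro v ⟨hv, h1⟩
          refine ⟨inv_mem hv, fun g hg => ?_⟩
          have := map_neg ((ρ x - 1) ^ a * ρ g) (Additive.ofMul ⟨v, hv⟩)
          rw [h1 g hg, neg_zero] at this
          exact this }
    have hN : ∀ t : G, t ∈ J ∨ t ∈ X → ∀ v ∈ N, t * v * t⁻¹ ∈ N := by
      rintro t ht v ⟨hv, h1⟩
      refine ⟨hn.conj_mem v hv t, fun g hg => ?_⟩
      change ((ρ x - 1) ^ a * ρ g * ρ t) (Additive.ofMul ⟨v, hv⟩) = 0
      rcases ht with ht | ht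
      · have c : Commute (ρ t) ((ρ x - 1) ^ a * ρ g) :=
          (((hcom t ht x hx).sub_right (Commute.one_right _)).pow_right a).mul_right (hcom t ht g hg)
        rw [← c.eq]
        change ρ t (((ρ x - 1) ^ a * ρ g) (Additive.ofMul ⟨v, hv⟩)) = 0
        rw [h1 g hg, map_zero]
      · rw [mul_assoc, ← map_mul]
        exact h1 _ (mul_mem hg ht)
    have hNn : N.Normal := by
      rw [← normalizer_eq_top_iff, eq_top_iff, ← hJX]
      exact sup_le (fun t ht => mem_normalizer_fintype (hN t (.inl ht)))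
        (fun t ht => mem_normalizer_fintype (hN t (.inr ht)))
    rcases hmin N hNn (fun v hv => hv.1) with h | h
    · right
      ext v
      have : ((((ρ y - 1) ^ b) v).toMul : G) ∈ N := ⟨Subtype.property _, fun g hg => by
        change ((ρ x - 1) ^ a * ρ g * (ρ y - 1) ^ b) v = 0
        have c : Commute (ρ g) ((ρ y - 1) ^ b) :=
          ((hcom y hy g hg).symm.sub_right (Commute.one_right _)).pow_right b
        rw [mul_assoc, c.eq, ← mul_assoc, hab, zero_mul]
        rfl⟩
      rw [h] at this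
      exact this
    · left
      ext v
      have : (v.toMul : G) ∈ N := by rw [h]; exact v.toMul.2
      obtain ⟨_, h1⟩ := this
      have := h1 1 (one_mem _)
      rw [map_one, mul_one] at this
      exact congrArg (fun w : Additive V => (w.toMul : G)) this

end H66.O3
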