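import Cfsg.Agent.H86.SPIDef
import Cfsg.Agent.H59.SOFrame
import Cfsg.Agent.H91.SOFA

/-! STD-SP (row S3129), chapter I: the embedding of `X` as the stabiliser of `w₀` (slot `M1`). -/

set_option autoImplicit false
set_option linter.unusedSectionVars false

namespace H66.SPM1

open H67.UA hiding Par
open H67.SP H86.SPI
open H59.SO (Om E gam Ind)
open H56 H58 QuadraticMap Matrix

variable {n : ℕ} {F : Type} [Field F] [StarRing F] [TrivialStar F] [CharP F 2] [Finite F]
  [p : Par n F] {δ : F}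

theorem par (δ : F) : H59.SO.Par (QD n F δ) := by
  have h5 := p.five
  have e : Module.finrank F (WW n F) = n + 3 := by simp [Module.finrank_prod]
  refine ⟨⟨nondegenerate_of_polar fun x h => ?_, by omega⟩, fun h => p.four (by omega)⟩
  have h1 := h (w0 n F)
  have h2 := h (w1 n F)
  simp only [polar_QD, w0, w1, hf_zero_right, mul_zero, mul_one, zero_add, add_zero] at h1 h2
  refine Prod.ext (eq_of_hf fun z => ?_) (Prod.ext h2 h1)
  simpa [polar_QD] using h (z, 0, 0)

theorem split (x : WW n F) : x = (x.1, 0, 0) + x.2.1 • w0 n F + x.2.2 • w1 n F := by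
  simp [w0, w1]

theorem last {k : O (QD n F δ)} (h : k (w0 n F) = w0 n F) (x : WW n F) : (k x).2.2 = x.2.2 := by
  have := k.map_polar x (w0 n F)
  rw [h] at this
  simpa [polar_QD, w0] using this

theorem val {k : O (QD n F δ)} (h : k (w0 n F) = w0 n F) (v : Vn n F) :
    k (v, 0, 0) = ((k (v, 0, 0)).1, rt (q0 (k (v, 0, 0)).1 + q0 v), 0) := by
  have h1 := last h (v, 0, 0)
  have h2 := k.map_Q (v, 0, 0)
  generalize k (v, 0, 0) = y at *
  obtain ⟨y, a, b⟩ := y
  obtain rfl : b = 0 := h1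
  simp only [QD_apply] at h2
  refine Prod.ext rfl (Prod.ext (sq_inj ?_) rfl)
  rw [rt_sq]
  linear_combination h2 - q0 y * two0 F

theorem uniq0 {k : O (QD n F δ)} (h : k (w0 n F) = w0 n F) (h' : ∀ v, k (v, 0, 0) = (v, 0, 0)) :
    k = 1 ∨ k = refl (QD n F δ) (w0 n F) := by
  have h1 := last h (w1 n F)
  have h2 := k.map_Q (w1 n F)
  have h3 : (k (w1 n F)).1 = 0 := eq_of_hf fun z => by
    have := k.map_polar (w1 n F) (z, 0, 0)
    rw [h'] at this
    simpa [polar_QD, w1] using this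
  have h4 : ∀ x, k x = (x.1, 0, 0) + x.2.1 • w0 n F + x.2.2 • k (w1 n F) := fun x => by
    conv_lhs => rw [split x]
    rw [map_add, map_add, map_smul, map_smul, h, h']
  generalize k (w1 n F) = y at *
  obtain ⟨y, c, b⟩ := y
  obtain rfl : b = 1 := h1
  obtain rfl : y = 0 := h3
  rw [QD_apply, QD_w1, q0_zero] at h2
  rcases mul_eq_zero.1 (show c * (c + 1) = 0 by linear_combination h2) with e | e
  · exact .inl (O.ext fun x => by rw [h4, e]; exact (split x).symm)
  · refine .inr (O.ext fun x => ?_)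
    rw [h4, refl_apply, QD_w0, polar_QD, CharTwo.add_eq_zero.1 e]
    simp [w0, CharTwo.sub_eq_add, Prod.ext_iff]

theorem uniq {y y' : Om (QD n F δ)} (h : y.1 (w0 n F) = w0 n F) (h' : y'.1 (w0 n F) = w0 n F)
    (e : ∀ v, (y.1 (v, 0, 0)).1 = (y'.1 (v, 0, 0)).1) : y = y' := by
  rcases uniq0 (k := (y⁻¹ * y').1) (y.1.inv_apply_eq.2 (h'.trans h.symm))
    (fun v => y.1.inv_apply_eq.2 ((val h' v).trans (by rw [← e, ← val h]))) with k | k
  · exact inv_mul_eq_one.1 (Subtype.ext k)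
  · exact absurd (k ▸ (y⁻¹ * y').2) ((par δ).toPar0.refl_notMem (by rw [QD_w0]; exact one_ne_zero))

theorem rt_smul (c a : F) : rt (c ^ 2 * a) = c * rt a := sq_inj (by rw [rt_sq, mul_pow, rt_sq])

theorem ex (δ : F) (g : XU n F) :
    ∃ y : Om (QD n F δ), y.1 (w0 n F) = w0 n F ∧ ∀ v, (y.1 (v, 0, 0)).1 = ac g v := by
  let a : Vn n F × F →ₗ[F] WW n F := LinearMap.id.prodMap (LinearMap.inl F F F)
  let b : Vn n F × F →ₗ[F] WW n F :=
    { toFun := fun x => (ac g x.1, x.2 + rt (q0 (ac g x.1) + q0 x.1), 0)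
      map_add' := fun x y => by
        simp only [Prod.fst_add, Prod.snd_add, ac_add, q0_add, hf_ac, Prod.mk_add_mk, add_zero,
          Prod.mk.injEq, true_and, and_true, rt_add]
        linear_combination rt (hf x.1 y.1) * two0 F
      map_smul' := fun c x => by
        simp only [Prod.smul_fst, Prod.smul_snd, ac_smul, q0_smul, ← mul_add, rt_smul, RingHom.id_apply,
          Prod.smul_mk, smul_eq_mul, mul_zero] }
  obtain ⟨k, hk⟩ := witt_maps (par δ).nd a b
    (fun x y e => Prod.ext (congrArg (·.1) e) (congrArg (·.2.1) e))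
    (fun x y e => by
      have e1 : x.1 = y.1 := ac_inj g (congrArg (·.1) e)
      have e2 : x.2 + rt (q0 (ac g x.1) + q0 x.1) = y.2 + rt (q0 (ac g y.1) + q0 y.1) := congrArg (·.2.1) e
      rw [e1] at e2
      exact Prod.ext e1 (add_right_cancel e2))
    fun x => by
      change QD n F δ (_, _, _) = QD n F δ (x.1, x.2, 0)
      rw [QD_apply, QD_apply, CharTwo.add_sq, rt_sq]
      linear_combination q0 (ac g x.1) * two0 F
  have h0 : k (w0 n F) = w0 n F := (hk (0, 1)).trans (by simp [b, w0, rt_zero])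
  have h1 : ∀ v, (k (v, 0, 0)).1 = ac g v := fun v => congrArg (·.1) (hk (v, 0))
  have q : QD n F δ (w0 n F) ≠ 0 := by rw [QD_w0]; exact one_ne_zero
  by_cases m : k ∈ EG (QD n F δ)
  · exact ⟨⟨k, m⟩, h0, h1⟩
  refine ⟨⟨_, (par δ).toPar0.mul_mem m ((par δ).toPar0.refl_notMem q)⟩, ?_, fun v => ?_⟩
  · rw [O.mul_apply, refl_apply_of_orth (H59.SO.polar_self2 _), h0]
  · rw [O.mul_apply, refl_apply_of_orth (by simp [polar_QD, w0]), h1]

theorem isIo (δ : F) : IsIo n F δ (iO n F δ) := by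
  have h : ∃ j, IsIo n F δ j := by
    choose j h1 h2 using ex (n := n) δ
    refine ⟨MonoidHom.mk' j fun g g' => uniq (h1 _) ?_ fun v => ?_, fun g => ⟨h1 g, h2 g⟩⟩
    · rw [Subgroup.coe_mul, O.mul_apply, h1, h1]
    · rw [Subgroup.coe_mul, O.mul_apply, val (h1 g'), h2, h2, split (ac g' v, _, _), map_add, map_add,
        map_smul, map_smul, h1, ac_mul]
      simp [h2, w0]
  rw [iO, dif_pos h]
  exact h.choose_spec

theorem exists_X' (M : Matrix (Fin (n + 1)) (Fin (n + 1)) F)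
    (h : ∀ x y, hf (M *ᵥ x) (M *ᵥ y) = hf x y) : ∃ g : XU n F, mt g = M := by
  refine exists_X M (sq_inj ?_) h
  have e : (M.submatrix Fin.revPerm Fin.revPerm)ᵀ * M = 1 := Matrix.ext fun i j => by
    have := h (ev j) (ev i.rev)
    simp only [hf_ev, Fin.rev_inj] at this
    rw [one_apply, ← this, mul_apply, hf]
    simp [ev, mul_comm]
  have := congrArg det e
  rw [det_mul, det_transpose, det_submatrix_equiv_self, det_one] at this
  rw [pow_two, this, one_pow]

theorem rng (δ : F) (y : Om (QD n F δ)) (h : y.1 (w0 n F) = w0 n F) : ∃ g, iO n F δ g = y := by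
  let f : Vn n F →ₗ[F] Vn n F := LinearMap.fst F _ _ ∘ₗ y.1.lin ∘ₗ LinearMap.inl F _ _
  have e : ∀ v, LinearMap.toMatrix' f *ᵥ v = (y.1 (v, 0, 0)).1 := fun v => LinearMap.toMatrix'_mulVec f v
  obtain ⟨g, hg⟩ := exists_X' (LinearMap.toMatrix' f) fun u v => by
    have := y.1.map_polar (u, 0, 0) (v, 0, 0)
    rw [polar_QD, polar_QD, last h, last h] at this
    simpa [e] using this
  exact ⟨g, uniq (isIo δ g).1 h fun v => by rw [(isIo δ g).2, ac, hg, e]⟩

theorem jobM1 : JobM1 := fun _ _ _ _ _ _ _ _ => ⟨par, fun δ => H91.SO.simple (par δ).toPar0, isIo,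
  fun δ g h e => ac_ext fun v => by rw [← (isIo δ g).2, e, (isIo δ h).2], rng⟩

end H66.SPM1
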