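import Cfsg.Agent.H66.CC
import Cfsg.Agent.H28.Degree
import Cfsg.Agent.H33.IndTools

/-! Induction of characters from a subgroup that is the centraliser of each of its non-identity
elements, and families of real generalized characters of norm three. -/

set_option autoImplicit false

open Cfsg H28
open scoped ComplexConjugate

namespace H66

variable {G : Type*} [Group G] [Fintype G]

theorem sq_le_of_gen {θ χ : G → ℂ} (hχ : IsIrrCharacter G χ)
    {n N : ℤ} (hn : classInner θ χ = n) (hN : classInner θ θ = N) : n ^ 2 ≤ N := by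
  have h := classInner_self_re_nonneg (θ - (n : ℂ) • χ)
  have e : classInner (θ - (n : ℂ) • χ) (θ - (n : ℂ) • χ) = ((N - n ^ 2 : ℤ) : ℂ) := by
    simp only [classInner_sub_left, classInner_sub_right, classInner_smul_left,
      classInner_smul_right, hn, hN, classInner_comm_of_int hn, hχ.classInner_self, map_intCast]
    push_cast
    ring
  rw [e, Complex.intCast_re] at h
  have : (0 : ℤ) ≤ N - n ^ 2 := by exact_mod_cast h
  omega

theorem split_three {θ W W' : G → ℂ} (hθ : IsGeneralizedCharacter G θ)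
    (h3 : classInner θ θ = 3) (hW : IsIrrCharacter G W) (hW' : IsIrrCharacter G W') (hne : W ≠ W')
    {e : ℤ} (he : classInner θ W = e) (he' : classInner θ W' = e) (e0 : e ≠ 0) :
    (e = 1 ∨ e = -1) ∧ ∃ (X : G → ℂ) (ε : ℤ), IsIrrCharacter G X ∧ (ε = 1 ∨ ε = -1) ∧ X ≠ W ∧
      X ≠ W' ∧ θ = (e : ℂ) • W + (e : ℂ) • W' + (ε : ℂ) • X := by
  have h1 : e = 1 ∨ e = -1 := by
    have := sq_le_of_gen hW he (N := 3) (by simpa using h3)
    have : -2 < e := by nlinarith
    have : e < 2 := by nlinarith
    omega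
  refine ⟨h1, ?_⟩
  have ee : (e : ℂ) * e = 1 := by rcases h1 with rfl | rfl <;> simp
  set η := θ - (e : ℂ) • W - (e : ℂ) • W' with hη
  have gη : IsGeneralizedCharacter G η :=
    (hθ.sub (hW.isGeneralizedCharacter.intCast_smul e)).sub
      (hW'.isGeneralizedCharacter.intCast_smul e)
  have a1 : classInner η W = 0 := by
    simp [hη, classInner_sub_left, classInner_smul_left, he, hW.classInner_self,
      hW'.classInner_of_ne hW hne.symm]
  have a2 : classInner η W' = 0 := by
    simp [hη, classInner_sub_left, classInner_smul_left, he', hW'.classInner_self,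
      hW.classInner_of_ne hW' hne]
  have a3 : classInner η η = 1 := by
    nth_rewrite 2 [hη]
    rw [classInner_sub_right, classInner_sub_right, classInner_smul_right, classInner_smul_right,
      a1, a2, hη]
    simp only [classInner_sub_left, classInner_smul_left, h3, classInner_comm_of_int he,
      classInner_comm_of_int he', ee]
    norm_num
  rcases gη.eq_irr_or_neg_of_norm_one a3 with h | h
  · refine ⟨η, 1, h, Or.inl rfl, fun e => ?_, fun e => ?_, by simp [hη]⟩
    · rw [← e, a3] at a1; exact one_ne_zero a1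
    · rw [← e, a3] at a2; exact one_ne_zero a2
  · refine ⟨-η, -1, h, Or.inr rfl, fun e => ?_, fun e => ?_, by simp [hη]⟩
    · rw [← e, classInner_neg_right, a3] at a1; simp at a1
    · rw [← e, classInner_neg_right, a3] at a2; simp at a2

theorem classInner_conj_of_real {θ W : G → ℂ} (hr : ∀ g, conj (θ g) = θ g) {e : ℤ}
    (he : classInner θ W = e) : classInner θ (fun g => conj (W g)) = e := by
  rw [← classInner_comm_of_int he, ← classInner_conj_conj]
  simp only [hr, Complex.conj_conj]

/-- A family of real generalized characters of norm three with pairwise inner products at least two,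
one of which involves a non-real irreducible character. -/
theorem sunflower (S : Set (G → ℂ)) (gen : ∀ θ ∈ S, IsGeneralizedCharacter G θ)
    (n3 : ∀ θ ∈ S, classInner θ θ = 3) (n2 : ∀ θ ∈ S, ∀ η ∈ S, 2 ≤ (classInner θ η).re)
    (real : ∀ θ ∈ S, ∀ g, conj (θ g) = θ g) {W : G → ℂ} (hW : IsIrrCharacter G W)
    (hne : W ≠ fun g => conj (W g)) {θ₀ : G → ℂ} (h0 : θ₀ ∈ S) (h0W : classInner θ₀ W ≠ 0) :
    ∃ e : ℤ, (e = 1 ∨ e = -1) ∧ ∀ θ ∈ S, ∃ (X : G → ℂ) (ε : ℤ), IsIrrCharacter G X ∧
      (ε = 1 ∨ ε = -1) ∧ X ≠ W ∧ (X ≠ fun g => conj (W g)) ∧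
      θ = (e : ℂ) • W + (e : ℂ) • (fun g => conj (W g)) + (ε : ℂ) • X := by
  obtain ⟨e, he⟩ := (gen _ h0).classInner_int hW.isGeneralizedCharacter
  have e0 : e ≠ 0 := fun h => h0W (by simp [he, h])
  obtain ⟨h1, X, ε, hX, hε, -, -, hθ⟩ := split_three (gen _ h0) (n3 _ h0) hW hW.conj hne he
    (classInner_conj_of_real (real _ h0) he) e0
  refine ⟨e, h1, fun θ hS => ?_⟩
  obtain ⟨k, hk⟩ := (gen _ hS).classInner_int hW.isGeneralizedCharacter
  have hk' := classInner_conj_of_real (real _ hS) hk
  obtain ⟨n, hn⟩ := (gen _ hS).classInner_int hX.isGeneralizedCharacter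
  have b := sq_le_of_gen hX hn (N := 3) (by simpa using n3 _ hS)
  have b1 : -2 < n := by nlinarith
  have b2 : n < 2 := by nlinarith
  have h2 := n2 _ hS _ h0
  rw [hθ, classInner_add_right, classInner_add_right, classInner_smul_right, classInner_smul_right,
    classInner_smul_right, hk, hk', hn] at h2
  simp only [map_intCast] at h2
  norm_cast at h2
  have k0 : k ≠ 0 := by
    rintro rfl
    rcases hε with rfl | rfl <;> omega
  obtain ⟨h1', r⟩ := split_three (gen _ hS) (n3 _ hS) hW hW.conj hne hk hk' k0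
  have : k = e := by
    rcases h1 with rfl | rfl <;> rcases h1' with rfl | rfl <;> rcases hε with rfl | rfl <;> omega
  rwa [this] at r

/-- If all non-principal linear characters of an abelian group `A` have the same multiplicity in a
character `χ`, namely `c` less than the principal one, then `χ 1 ≡ c` modulo `|A|`. -/
theorem card_dvd_degree_sub {A : Type*} [Group A] [Fintype A] (hA : ∀ a b : A, a * b = b * a)
    {χ : A → ℂ} (hχ : IsCharacter A χ) {c : ℤ}
    (h : ∀ ψ : A → ℂ, IsIrrCharacter A ψ → (ψ ≠ fun _ => 1) →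
      classInner ((fun _ => 1) - ψ) χ = c) :
    (Nat.card A : ℤ) ∣ charDegree χ - c := by
  classical
  obtain ⟨n, hn⟩ := hχ.classInner_nat isCharacter_one
  have hc : (Fintype.card (IrrCharacter A) : ℂ) = Nat.card A := by
    rw [← sum_degree_sq]
    simp [fun ψ : IrrCharacter A => ψ.2.apply_one_of_comm hA]
  let o : IrrCharacter A := ⟨_, isIrrCharacter_one⟩
  have e : ∀ ψ : IrrCharacter A, classInner χ ψ * (ψ : A → ℂ) 1 =
      (n - c : ℂ) + if ψ = o then (c : ℂ) else 0 := fun ψ => by
    rw [ψ.2.apply_one_of_comm hA, mul_one]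
    split_ifs with h1
    · subst h1
      simpa using hn
    · have := h ψ ψ.2 fun e => h1 (Subtype.ext e)
      rw [classInner_sub_left, isCharacter_one.classInner_comm hχ, hn,
        ψ.2.isCharacter.classInner_comm hχ] at this
      rw [← this]
      ring
  have h1 := hχ.isClassFunction.apply_eq_sum_irr 1
  simp only [e, Finset.sum_add_distrib, Finset.sum_const, Finset.card_univ, nsmul_eq_mul, hc,
    Finset.sum_ite_eq', Finset.mem_univ, if_true] at h1
  rw [(hχ.charDegree_eq_iff).mp rfl] at h1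
  refine ⟨n - c, ?_⟩
  have : ((charDegree χ : ℤ) : ℂ) = ((Nat.card A * (n - c) + c : ℤ) : ℂ) := by
    push_cast
    exact h1
  have := Int.cast_injective this
  omega

variable {A : Subgroup G}

theorem IsCC.res_indFun (hA : IsCC A) {θ : A → ℂ} (h1 : θ 1 = 0) :
    (fun a : A => indFun A θ a) = (Nat.card A : ℂ)⁻¹ •
      ∑ᶠ x : Subgroup.normalizer (A : Set G), fun a => θ (A.normalizerMonoidHom x a) := by
  classical
  rw [finsum_eq_sum_of_fintype]
  ext a
  simp only [Pi.smul_apply, Finset.sum_apply, smul_eq_mul]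
  by_cases ha : a = 1
  · subst ha
    simp [H33.indFun_apply_one, h1]
  rw [H33.indFun_apply']
  congr 1
  rw [← Finset.sum_subset (Finset.subset_univ
    (Finset.univ.filter fun x => x ∈ Subgroup.normalizer (A : Set G))), Finset.sum_subtype
      (p := fun x => x ∈ Subgroup.normalizer (A : Set G)) _ (by simp)]
  · exact Finset.sum_congr rfl fun x _ => H33.ext0_coe A θ (A.normalizerMonoidHom x a)
  · intro x _ hx
    exact H33.ext0_of_not_mem _ _ fun h => hx (by
      simpa using hA.mem_normalizer a.2 (fun e => ha (Subtype.ext e)) h)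

theorem IsCC.mem_of_fix (hA : IsCC A) {ψ : A → ℂ} (hψ : IsIrrCharacter A ψ) (h1 : ψ ≠ fun _ => 1)
    {x : Subgroup.normalizer (A : Set G)} (h : ψ = fun a => ψ (A.normalizerMonoidHom x a)) :
    (x : G) ∈ A := by
  by_contra hx
  have hc : ∀ a b : A, a * b = b * a := fun a b => Subtype.ext (hA.comm b.2 a.2)
  obtain ⟨f, rfl⟩ := hψ.isCharacter.exists_hom (hψ.apply_one_of_comm hc)
  let φ : A → A := fun a => A.normalizerMonoidHom x a * a⁻¹
  have hφ : Function.Injective φ := fun a b e => by
    have e1 : (x : G) * a * (x : G)⁻¹ * (a : G)⁻¹ = x * b * (x : G)⁻¹ * (b : G)⁻¹ :=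
      congrArg Subtype.val e
    by_contra hab
    refine hx (hA.mem_of_commute (mul_mem (inv_mem b.2) a.2)
      (fun e => hab (Subtype.ext (inv_mul_eq_one.mp e).symm)) ?_)
    calc (x : G) * ((b : G)⁻¹ * a) =
        (x * (b : G)⁻¹ * (x : G)⁻¹) * (x * a * (x : G)⁻¹ * (a : G)⁻¹) * a * x := by group
      _ = _ := by rw [e1]; group
  apply h1
  ext a
  obtain ⟨b, rfl⟩ := Finite.surjective_of_injective hφ a
  have := congrFun h b
  simp only [φ, map_mul, map_inv, Units.val_mul, ← this]
  simp

theorem classInner_one_sub {A : Type*} [Group A] [Fintype A] {ψ φ : A → ℂ}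
    (hψ : IsIrrCharacter A ψ) (h1 : ψ ≠ fun _ => 1) (hφ : IsIrrCharacter A φ) (h2 : φ ≠ fun _ => 1)
    (σ : A ≃* A) [Decidable (ψ = fun a => φ (σ a))] :
    classInner ((fun _ => 1) - ψ) (fun a => ((fun _ => 1) - φ : A → ℂ) (σ a)) =
      1 + if ψ = fun a => φ (σ a) then 1 else 0 := by
  have i := hφ.comp_mulEquiv σ
  have i1 : (fun _ => 1) ≠ fun a => φ (σ a) := fun e => h2 (by
    ext a
    simpa using (congrFun e (σ.symm a)).symm)
  rw [show (fun a => ((fun _ => 1) - φ : A → ℂ) (σ a)) = (fun _ => 1) - fun a => φ (σ a) from rfl,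
    classInner_sub_left, classInner_sub_right, classInner_sub_right, classInner_one_one,
    isIrrCharacter_one.classInner_of_ne i i1, hψ.classInner_of_ne isIrrCharacter_one h1]
  split_ifs with h
  · rw [← h, hψ.classInner_self]; simp
  · rw [hψ.classInner_of_ne i h]; simp

theorem IsCC.card_fix (hA : IsCC A) {ψ : A → ℂ} (hψ : IsIrrCharacter A ψ) (h1 : ψ ≠ fun _ => 1) :
    Nat.card {x : Subgroup.normalizer (A : Set G) //
      ψ = fun a => ψ (A.normalizerMonoidHom x a)} = Nat.card A := by
  rw [← Nat.card_congr (Subgroup.subgroupOfEquivOfLe A.le_normalizer).toEquiv]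
  refine Nat.card_congr (Equiv.subtypeEquivRight fun x => ?_)
  rw [Subgroup.mem_subgroupOf]
  refine ⟨hA.mem_of_fix hψ h1, fun hx => funext fun a => congrArg ψ (Subtype.ext ?_)⟩
  change (a : G) = x * a * (x : G)⁻¹
  rw [hA.comm a.2 hx, mul_inv_cancel_right]

theorem IsCC.classInner_ind (hA : IsCC A) [Fintype A] {ψ φ : A → ℂ} (hψ : IsIrrCharacter A ψ)
    (h1 : ψ ≠ fun _ => 1) (hφ : IsIrrCharacter A φ) (h2 : φ ≠ fun _ => 1) {k : ℕ}
    (hk : Nat.card (Subgroup.normalizer (A : Set G)) = k * Nat.card A) :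
    ∃ r : ℝ, 0 ≤ r ∧ (ψ = φ → r = 1) ∧
      classInner (indFun A ((fun _ => 1) - ψ)) (indFun A ((fun _ => 1) - φ)) = k + r := by
  classical
  have hc : ∀ a b : A, a * b = b * a := fun a b => Subtype.ext (hA.comm b.2 a.2)
  have c0 : (Nat.card A : ℂ) ≠ 0 := H33.natCard_ne_zero A
  refine ⟨Nat.card {x : Subgroup.normalizer (A : Set G) //
    ψ = fun a => φ (A.normalizerMonoidHom x a)} / Nat.card A, by positivity, ?_, ?_⟩
  · rintro rfl
    rw [hA.card_fix hψ h1, div_self (by exact_mod_cast Nat.card_pos.ne')]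
  rw [H33.classInner_indFun_left _ _ (H33.indFun_isClassFunction _ _),
    hA.res_indFun (by simp [hφ.apply_one_of_comm hc]), finsum_eq_sum_of_fintype,
    classInner_smul_right, classInner_sum_right,
    Finset.sum_congr rfl fun x _ => classInner_one_sub hψ h1 hφ h2 _, Finset.sum_add_distrib,
    Finset.sum_boole, ← Fintype.card_subtype, ← Nat.card_eq_fintype_card, Finset.sum_const,
    Finset.card_univ, ← Nat.card_eq_fintype_card, hk]
  simp only [map_inv₀, map_natCast, nsmul_eq_mul]
  push_cast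
  field_simp

theorem indFun_real {θ : A → ℂ} (hθ : IsGeneralizedCharacter A θ)
    (h : ∀ a ∈ A, IsConj a a⁻¹) (g : G) : conj (indFun A θ g) = indFun A θ g := by
  classical
  have := Fintype.ofFinite A
  rw [← hθ.indFun.apply_inv]
  by_cases hg : ∃ a ∈ A, IsConj g a
  · obtain ⟨a, ha, c⟩ := hg
    refine ((H33.indFun_isClassFunction A θ).eq_of_isConj (c.trans ((h a ha).trans ?_))).symm
    obtain ⟨x, rfl⟩ := isConj_iff.mp c
    exact isConj_iff.mpr ⟨x⁻¹, by group⟩
  · rw [H33.indFun_eq_zero_of A θ g fun y c => absurd ⟨y, y.2, c⟩ hg, H33.indFun_eq_zero_of]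
    intro y c
    obtain ⟨x, e⟩ := isConj_iff.mp c
    exact absurd ⟨_, inv_mem y.2, isConj_iff.mpr ⟨x, by rw [← e]; group⟩⟩ hg

end H66
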