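import Cfsg.Agent.H20.DGSpec
import Cfsg.Agent.H33.Ind

/-! Tower DG, slot T1: the norm of `μ^G - ν^G` is two. -/

set_option autoImplicit false

namespace H66.DGT1

open Subgroup MulAction Cfsg H98 H20.DG
open scoped ComplexConjugate

universe u v

theorem mem_of_pow {G : Type u} [Group G] [Finite G] {A : Subgroup G} {h b : G} {p : ℕ}
    (hp : 0 < p) (hA : Nat.card A = p) (hle : A ≤ zpowers h) (hb : b ∈ zpowers h)
    (hbp : b ^ p = 1) : b ∈ A := by
  classical
  have : Fintype (zpowers h) := Fintype.ofFinite _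
  have h1 := IsCyclic.card_pow_eq_one_le (α := zpowers h) hp
  have h2 : (Finset.univ.filter fun a : zpowers h => (a : G) ∈ A).card = p := by
    rw [← hA, ← Nat.card_congr (subgroupOfEquivOfLe hle).toEquiv, Nat.card_eq_fintype_card,
      ← Fintype.card_subtype]
    exact Fintype.card_congr (Equiv.refl _)
  have h3 : (Finset.univ.filter fun a : zpowers h => (a : G) ∈ A) ⊆
      Finset.univ.filter fun a : zpowers h => a ^ p = 1 := by
    intro a ha
    rw [Finset.mem_filter] at ha ⊢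
    refine ⟨ha.1, Subtype.ext ?_⟩
    have := pow_card_eq_one' (G := A) (x := ⟨a, ha.2⟩)
    rw [hA] at this
    have h6 : (a : G) ^ p = 1 := congrArg (Subtype.val : A → G) this
    exact h6
  have h4 := Finset.eq_of_subset_of_card_le h3 (h2 ▸ h1)
  have h5 : (⟨b, hb⟩ : zpowers h) ∈ Finset.univ.filter fun a : zpowers h => a ^ p = 1 :=
    Finset.mem_filter.2 ⟨Finset.mem_univ _, Subtype.ext hbp⟩
  rw [← h4] at h5
  exact (Finset.mem_filter.1 h5).2

theorem sum_mul_conj {C : Type u} [Group C] [Fintype C] (α β : C →* ℂˣ) [Decidable (α = β)] :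
    ∑ h : C, (α h : ℂ) * conj (β h : ℂ) = if α = β then (Nat.card C : ℂ) else 0 := by
  classical
  have e : ∀ h : C, (α h : ℂ) * conj (β h : ℂ) = ((Units.coeHom ℂ).comp (α * β⁻¹)) h := by
    intro h
    have h1 : (β h : ℂ) ^ Nat.card C = 1 := by
      rw [← Units.val_pow_eq_pow_val, ← map_pow, pow_card_eq_one', map_one, Units.val_one]
    rw [← Complex.inv_eq_conj (Complex.norm_eq_one_of_pow_eq_one h1 Nat.card_pos.ne')]
    simp
  simp_rw [e]
  split_ifs with h
  · subst h
    simp [Nat.card_eq_fintype_card]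
  · refine sum_hom_units_eq_zero _ fun h1 => h ?_
    ext c
    have := DFunLike.congr_fun h1 c
    simp only [MonoidHom.comp_apply, MonoidHom.mul_apply, MonoidHom.inv_apply, Units.coeHom_apply,
      MonoidHom.one_apply, Units.val_eq_one, mul_inv_eq_one] at this
    rw [this]

section
variable {G : Type u} [Group G]

theorem conj_mem_Cn {A : Subgroup G} {x : G} (hx : x ∈ normalizer (A : Set G)) {c : G}
    (hc : c ∈ Cn A) : x⁻¹ * c * x ∈ Cn A := by
  rw [mem_centralizer_iff] at hc ⊢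
  intro a ha
  have h1 := hc _ ((mem_normalizer_iff.1 hx a).1 ha)
  calc a * (x⁻¹ * c * x) = x⁻¹ * (x * a * x⁻¹ * c) * x := by group
    _ = x⁻¹ * (c * (x * a * x⁻¹)) * x := by rw [h1]
    _ = x⁻¹ * c * x * a := by group

/-- Conjugation on the centraliser. -/
def gam {A : Subgroup G} {x : G} (hx : x ∈ normalizer (A : Set G)) : Cn A →* Cn A where
  toFun c := ⟨x⁻¹ * c * x, conj_mem_Cn hx c.2⟩
  map_one' := Subtype.ext (by simp)
  map_mul' a b := Subtype.ext (by simp only [coe_mul]; group)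

theorem gam_coe {A : Subgroup G} {x : G} (hx : x ∈ normalizer (A : Set G)) (c : Cn A) :
    (gam hx c : G) = x⁻¹ * c * x := rfl

theorem self_iff [Finite G] {A L : Subgroup G} {p : ℕ} (hp : p.Prime) (hA : Nat.card A = p)
    (hAC : A ≤ Cn A) {μ : Cn A →* ℂˣ} (hμ : μ ∈ MM A L) {x : G}
    (hx : x ∈ normalizer (A : Set G)) : μ = μ.comp (gam hx) ↔ x ∈ Cn A := by
  constructor
  · intro h
    have : Fact (Nat.card A).Prime := ⟨hA ▸ hp⟩
    have hk : (μ.comp (inclusion hAC)).ker = ⊥ := by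
      rcases Subgroup.eq_bot_or_eq_top_of_prime_card (μ.comp (inclusion hAC)).ker with h1 | h1
      · exact h1
      · exfalso
        obtain ⟨c, hc, hc1⟩ := hμ.2
        have : (⟨c, hc⟩ : A) ∈ (μ.comp (inclusion hAC)).ker := h1 ▸ mem_top _
        exact hc1 this
    have hinj := (MonoidHom.ker_eq_bot_iff _).1 hk
    rw [mem_centralizer_iff]
    intro a ha
    have ha' : x⁻¹ * a * x ∈ A := (mem_normalizer_iff''.1 hx a).1 ha
    have h2 : (⟨a, ha⟩ : A) = ⟨x⁻¹ * a * x, ha'⟩ :=
      hinj (DFunLike.congr_fun h (inclusion hAC ⟨a, ha⟩))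
    have h3 : a = x⁻¹ * a * x := congrArg Subtype.val h2
    calc a * x = x * (x⁻¹ * a * x) := by group
      _ = x * a := by rw [← h3]
  · intro h
    ext c
    have : gam hx c = (⟨x, h⟩ : Cn A)⁻¹ * c * ⟨x, h⟩ := rfl
    rw [MonoidHom.comp_apply, this, map_mul, map_mul, map_inv, mul_comm (μ _)⁻¹, inv_mul_cancel_right]

end

theorem jobT1 : H20.DG.JobT1.{u, v} := by
  intro G Ω _ _ _ _ _ p q P A L O hy cy μ hμ ν hν hnc
  classical
  have : Fintype (Cn A) := Fintype.ofFinite _
  have hAC : A ≤ Cn A := fun a ha => mem_centralizer_iff.2 fun b hb => cy.el.1 b hb a ha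
  set φ : Cn A → ℂ := (fun c => (μ c : ℂ)) - fun c => (ν c : ℂ) with hφ
  have hφL : ∀ c : Cn A, (c : G) ∈ L → φ c = 0 := fun c hc => by
    simp [hφ, hμ.1 c hc, hν.1 c hc]
  have e1 : II A μ - II A ν = indFun (Cn A) φ := (H33.indFun_sub _ _ _).symm
  have key : ∀ x : G, ∑ h : Cn A, φ h * conj (extendByZero (Cn A) φ (x⁻¹ * h * x)) =
      if x ∈ Cn A then 2 * (Nat.card (Cn A) : ℂ) else 0 := by
    intro x
    by_cases hx : x ∈ normalizer (A : Set G)
    · have e2 : ∀ h : Cn A, φ h * conj (extendByZero (Cn A) φ (x⁻¹ * h * x)) =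
          ((μ h : ℂ) * conj (μ.comp (gam hx) h : ℂ) + (ν h : ℂ) * conj (ν.comp (gam hx) h : ℂ)) -
          ((μ h : ℂ) * conj (ν.comp (gam hx) h : ℂ) + (ν h : ℂ) * conj (μ.comp (gam hx) h : ℂ)) := by
        intro h
        rw [← gam_coe hx, H33.ext0_coe]
        simp only [hφ, Pi.sub_apply, map_sub, MonoidHom.comp_apply]
        ring
      have n1 : μ ≠ ν.comp (gam hx) := fun h => hnc ⟨x, hx, fun c d hd => by
        rw [h, MonoidHom.comp_apply]
        congr 1
        exact Subtype.ext (by rw [gam_coe, hd]; group)⟩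
      have n2 : ν ≠ μ.comp (gam hx) := fun h => hnc ⟨x⁻¹, inv_mem hx, fun c d hd => by
        rw [h, MonoidHom.comp_apply]
        congr 1
        exact Subtype.ext (by rw [gam_coe, hd]; group)⟩
      simp_rw [e2]
      rw [Finset.sum_sub_distrib, Finset.sum_add_distrib, Finset.sum_add_distrib, sum_mul_conj,
        sum_mul_conj, sum_mul_conj, sum_mul_conj, if_neg n1, if_neg n2]
      simp only [self_iff hy.pp cy.cardA hAC hμ hx, self_iff hy.pp cy.cardA hAC hν hx]
      split_ifs <;> ring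
    · have hxC : x ∉ Cn A := fun h => hx (centralizer_le_normalizer _ h)
      rw [if_neg hxC]
      refine Finset.sum_eq_zero fun h _ => ?_
      by_cases h1 : (h : G) ∈ L
      · rw [hφL h h1, zero_mul]
      by_cases h2 : x⁻¹ * h * x ∈ Cn A
      swap
      · rw [H33.ext0_of_not_mem _ _ h2, map_zero, mul_zero]
      by_cases h3 : x⁻¹ * h * x ∈ L
      · rw [H33.ext0_of_mem _ _ h2, hφL ⟨_, h2⟩ h3, map_zero, mul_zero]
      exfalso
      refine hx (mem_normalizer_fintype fun a ha => ?_)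
      obtain ⟨k, hk⟩ := cy.ti _ h2 h3 ha
      refine mem_of_pow hy.pp.pos cy.cardA (cy.ti _ h.2 h1) ⟨k, ?_⟩ ?_
      · have hk' : (x⁻¹ * h * x⁻¹⁻¹) ^ k = a := by rw [inv_inv]; exact hk
        rw [conj_zpow] at hk'
        show (h : G) ^ k = _
        rw [← hk']; group
      · rw [conj_pow, cy.el.2 a ha]; group
  have hC : (Nat.card (Cn A) : ℂ) ≠ 0 := H33.natCard_ne_zero _
  rw [e1, H33.classInner_indFun_left _ _ (H33.indFun_isClassFunction _ _)]
  unfold classInner
  simp only [H33.indFun_apply, map_mul, map_sum, map_inv₀, map_natCast]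
  have e3 : ∑ h : Cn A, φ h * ((Nat.card (Cn A) : ℂ)⁻¹ *
      ∑ x : G, conj (extendByZero (Cn A) φ (x⁻¹ * h * x))) = (Nat.card (Cn A) : ℂ)⁻¹ *
      ∑ x : G, ∑ h : Cn A, φ h * conj (extendByZero (Cn A) φ (x⁻¹ * h * x)) := by
    rw [Finset.sum_comm, Finset.mul_sum]
    refine Finset.sum_congr rfl fun h _ => ?_
    rw [mul_left_comm, Finset.mul_sum]
  rw [e3]
  simp_rw [key]
  rw [← Finset.sum_filter, Finset.sum_const, ← Fintype.card_subtype, ← Nat.card_eq_fintype_card,
    nsmul_eq_mul]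
  show (Nat.card (Cn A) : ℂ)⁻¹ * ((Nat.card (Cn A) : ℂ)⁻¹ * ((Nat.card (Cn A) : ℂ) * _)) = 2
  field_simp

end H66.DGT1
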