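import Cfsg.Agent.H74.FSp
import Cfsg.Agent.H78.XSMap

/-! blueprints/FUSMC.md: assembly and the rows from `Main`. -/

set_option autoImplicit false

namespace H66.FM
open Cfsg H92 H92.Es H93 H92.P5 H74.FM Subgroup
open scoped commutatorElement

universe u

theorem pow_inj {p i j : ℕ} [hp : Fact p.Prime] (h : p ^ i = p ^ j) : i = j :=
  Nat.pow_right_injective hp.out.two_le h

theorem main (j1 : JobPearl.{u}) (j2 : JobSmall.{u}) (j3 : JobM6.{u}) (j4 : JobE1.{u})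
    (j5 : JobMore.{u}) (j6 : JobN6.{u}) (j7 : JobP.{u}) : Main.{u} := by
  intro Ω _ _ S p n hp F γ cx
  have h := cx.mx
  have hF := cx.sat
  have h4 := h.four
  have tri : ∀ E, F.IsEssential p E → ¬ Bad p n F γ E → E = γ 1 ∨ E = Mz n S γ ∨
      (Prl p E ∧ ∃ s ∈ E, s ∉ γ 1 ∧ s ∉ Mz n S γ ∧
        ((Nat.card E = p ^ 2 ∧ E = γ (n - 1) ⊔ zpowers s) ∨
          (Nat.card E = p ^ 3 ∧ E = γ (n - 2) ⊔ zpowers s))) := fun E hE nb => by
    by_cases a : E ≤ γ 1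
    · exact .inl (a.eq_or_lt.resolve_right fun r => nb ⟨hE, .inl r⟩)
    by_cases b : E ≤ Mz n S γ
    · exact .inr (.inl (b.eq_or_lt.resolve_right fun r => nb ⟨hE, .inr r⟩))
    exact .inr (.inr (j1 p n F γ cx E hE a b))
  have sm : ∀ D, F.IsEssential p D → ¬ Bad p n F γ D →
      D = γ 1 ∨ D = Mz n S γ ∨ Nat.card D ≤ p ^ 3 := fun D hD nb =>
    (tri D hD nb).imp_right (Or.imp_right fun ⟨_, _, _, _, _, e⟩ => e.elim
      (fun e => e.1.trans_le (Nat.pow_le_pow_right hp.out.pos (by omega))) fun e => e.1.le)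
  have nb : ∀ E, ¬ Bad p n F γ E := by
    by_contra! hb
    obtain ⟨E, hB, mx⟩ := Set.exists_max_image {E | Bad p n F γ E} (fun E => Nat.card E)
      (Set.toFinite _) hb
    have top : ∀ D, F.IsEssential p D → Nat.card E < Nat.card D →
        D = γ 1 ∨ D = Mz n S γ ∨ Nat.card D ≤ p ^ 3 := fun D hD l =>
      sm D hD fun b => absurd (mx D b) (not_le.2 l)
    obtain ⟨p5, n5, c3⟩ := j2 p n F γ cx E hB
    have hE := hB.1
    by_cases ex : γ 1 ≤ Ct (γ (n - 2))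
    · have e := h.M_eq ex
      have l : E < γ 1 := hB.2.elim id fun r => e ▸ r
      exact j7 p n F γ cx p5 n5 (.inl ex) E hE l fun g hg => ext1 hF (h.le 1) (h.nm 1) c3
        (fun D a b => (top D a b).elim .inl fun r => r.imp_left fun r => r.trans e) l.le hg
    have n6 : 6 ≤ n := (h.exc.resolve_left ex).2.1
    have ltP : E ≤ γ 1 → E < γ 1 := fun l => hB.2.elim id fun r =>
      l.lt_of_ne fun e => ex ((e.ge.trans r.le).trans inf_le_right)
    have nd : E ≤ γ 1 → ¬ ⁅γ 1, γ 1⁆ ≤ γ (n - 1) := fun l r => by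
      have := card_le_of_der hF hE (ltP l) (h.le 1) (h.cen ▸ cen_le hF hE)
        (by rw [h.card, show n - (n - 1) = 1 by omega, pow_one]) r
        (h.cen ▸ inf_le_right.trans (Ct_anti (h.le 1)))
      have l2 : γ 1 ⊓ Ct (γ 1) ≤ γ (n - 1) := fun x hx => h.ct_exc ex le_rfl (by omega) hx.1 hx.2
      have := this.trans (Nat.mul_le_mul_left _ (card_le_of_le l2))
      rw [h.card, h.card, ← pow_add] at this
      have := (Nat.pow_le_pow_iff_right hp.out.one_lt).1 this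
      omega
    by_cases hM : F.IsEssential p (Mz n S γ)
    · obtain ⟨rfl, k⟩ := j3 p n F γ cx ex hM
      have l : E ≤ γ 1 := hB.2.elim le_of_lt fun r => (k E hE r).trans (h.succ 1)
      obtain ⟨nP, k6⟩ := j6 p 6 F γ cx rfl ex (nd l)
      have top' : ∀ D, F.IsEssential p D → Nat.card E < Nat.card D →
          D = Mz 6 S γ ∨ Nat.card D ≤ p ^ 3 := fun D a b =>
        (top D a b).resolve_left fun r => nP (r ▸ a)
      by_cases m : E ≤ Mz 6 S γ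
      · exact k6 E hE (h.inf_M ex ▸ le_inf l m) fun g hg => ext1 hF inf_le_left h.nmM c3 top' m hg
      · refine j7 p 6 F γ cx p5 n5 (.inr (nd l)) E hE (ltP l) fun g hg => ?_
        obtain ⟨t, a, b⟩ := ext2 hF h.nmM h.nmM c3 (fun D a b => .inr (top' D a b)) m m hg
        exact ⟨t, mem_Aut_of_le a le_rfl (h.le 1) (h.nm 1 (Aut_le_Nm F S a)), b⟩
    · have top' : ∀ D, F.IsEssential p D → Nat.card E < Nat.card D →
          D = γ 1 ∨ Nat.card D ≤ p ^ 3 := fun D a b =>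
        (top D a b).imp_right fun r => r.resolve_left fun r => hM (r ▸ a)
      by_cases l : E ≤ γ 1
      · exact j7 p n F γ cx p5 n5 (.inr (nd l)) E hE (ltP l) fun g hg =>
          ext1 hF (h.le 1) (h.nm 1) c3 top' l hg
      · exact j4 p n F γ cx ex E hE (hB.2.resolve_left fun r => l r.le) l fun g hg =>
          ext2 hF (h.nm 1) (h.nm 1) c3 (fun D a b => .inr (top' D a b)) l l hg
  refine ⟨nb, fun ex E hE hx => ?_, fun E hE => tri E hE (nb E)⟩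
  have n6 : 6 ≤ n := (h.exc.resolve_left ex).2.1
  have c := hx.1
  rcases tri E hE (nb E) with rfl | rfl | ⟨-, s, a, b, d, e | e⟩
  · have := pow_inj (c.symm.trans (h.card 1)); omega
  · have := pow_inj (c.symm.trans h.cardM); omega
  · have := pow_inj (c.symm.trans e.1); omega
  · exact j5 p n F γ cx ex E s hE (hE.1.1 a) b d e.2 fun g hg => ext2 hF (h.nm 1) h.nmM c.ge
      (fun D a _ => sm D a (nb D)) (fun r => b (r a)) (fun r => d (r a)) hg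

theorem xs_congr {Ω Ω' : Type u} [Group Ω] [Group Ω'] {A : Subgroup Ω} {B : Subgroup Ω'} {p : ℕ}
    (e : A ≃* B) (h : XS p A) : XS p B :=
  ⟨(Nat.card_congr e.toEquiv).symm.trans h.1, H78.isExtraspecial_of_equiv e h.2.1,
    fun r => (Monoid.exponent_eq_of_mulEquiv e).symm.trans (h.2.2.1 r),
    fun r => (h.2.2.2 r).map e.symm.trans⟩

theorem prl_congr {Ω Ω' : Type u} [Group Ω] [Group Ω'] {A : Subgroup Ω} {B : Subgroup Ω'} {p : ℕ}
    (e : A ≃* B) (h : Prl p A) : Prl p B :=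
  h.imp (fun h => ⟨(Nat.card_congr e.toEquiv).symm.trans h.1, ⟨⟨fun x y => e.symm.injective (by
      rw [map_mul, map_mul]; exact h.2.1.1.1 _ _)⟩⟩, fun x hx => by
    have : e.symm ⟨x, hx⟩ ^ p = 1 := Subtype.ext (h.2.2 _ (e.symm ⟨x, hx⟩).2)
    rw [← map_pow, map_eq_one_iff _ e.symm.injective] at this
    exact congrArg Subtype.val this⟩) (xs_congr e)

/-- `Main` without the ambient group -/
theorem down (m : Main.{u}) {Ω : Type u} [Group Ω] {S : Subgroup Ω} [Finite S] {p n : ℕ}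
    [Fact p.Prime] {γ : ℕ → Subgroup Ω} (h : MX p n S γ) {F : FusionSystem S} (hF : F.IsSaturated p)
    {E : Subgroup Ω} (hE : F.IsEssential p E) :
    (γ 1 ≠ Mz n S γ → ¬ XS p E) ∧
      (E = γ 1 ∨ E = Mz n S γ ∨ (Prl p E ∧ (S ≤ Nm E → n = 4 ∧ XS p E))) := by
  obtain ⟨a, b, S', F', k, hA⟩ := exists_satA h.pg hF
  have h' := h.img k.1
  have hE' := k.isEssential hE
  obtain ⟨-, m2, m3⟩ := m p n F' _ ⟨hA, h'⟩
  have e := k.1.equiv hE.1.1 rfl
  have eM := h.img_M k.1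
  refine ⟨fun ne hx => m2 (fun r => ne ?_) _ hE' (xs_congr e hx), ?_⟩
  · exact (k.1.img_inj (h.le 1) inf_le_left).1 (eM.trans (h'.M_eq r)).symm
  rcases m3 _ hE' with r | r | ⟨r, s, s0, s1, s2, r'⟩
  · exact .inl ((k.1.img_inj hE.1.1 (h.le 1)).1 r)
  · exact .inr (.inl ((k.1.img_inj hE.1.1 inf_le_left).1 (r.trans eM.symm)))
  refine .inr (.inr ⟨prl_congr e.symm r, fun nE => ?_⟩)
  have h4 := h.four
  have nE' : S' ≤ Nm (img E a) := by
    have := k.1.img_normalizerIn' hE.1.1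
    rw [normalizerIn_eq, normalizerIn_eq, inf_eq_left.2 nE, k.1.img_top] at this
    exact this.le.trans inf_le_right
  have sS := hE'.1.1 s0
  obtain ⟨w, w1, w2⟩ := h'.ex (i := 1) (by omega)
  have l := h'.eq_of_nm' (K := img E a ⊓ img (γ 2) a) (i := 2) sS s1 s2
    (mem_Nm_inf (le_Nm _ s0) (h'.nmS 2 sS)) (by omega) inf_le_right fun r =>
      h'.unif sS s1 le_rfl (by omega) w1 w2
        (r ⟨comm_mem_of_Nm (nE' (h'.le 1 w1)) s0, h'.cS w1 sS⟩)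
  have lt : img (γ 2) a < img E a :=
    (inf_eq_right.1 l).lt_of_ne fun r => s1 (h'.succ 1 (r.ge s0))
  rcases r' with r' | r'
  · have := pow_lt_of_lt lt (h'.card 2) r'.1
    omega
  · have := pow_lt_of_lt lt (h'.card 2) r'.1
    refine ⟨by omega, xs_congr e.symm (r.resolve_left fun q => ?_)⟩
    have := pow_inj (q.1.symm.trans r'.1)
    omega

theorem s5267 (m : Main.{u}) {Ω : Type u} [Group Ω] {S : Subgroup Ω} [Finite S] (p : ℕ) [Fact p.Prime] (_hS : IsPGroup p ↥S) (n : ℕ) (hn : Nat.card S = p ^ n) (h4 : 4 ≤ n) (hmax : Subgroup.lowerCentralSeries S (n - 2) ≠ ⊥) (F : Cfsg.FusionSystem S) (hF : F.IsSaturated p) (Γ₁ : Subgroup Ω) (hΓ₁ : ∀ x : Ω, x ∈ Γ₁ ↔ x ∈ S ∧ ∀ y ∈ Subgroup.lowerCentralSeries S 1, x * y * x⁻¹ * y⁻¹ ∈ Subgroup.lowerCentralSeries S 3) : (∀ E : Subgroup Ω, F.IsEssential p E → (Nat.card ↥E = p ^ 2 ∧ Cfsg.IsElementaryAbelian p E) ∨ (Nat.card ↥E = p ^ 3 ∧ Cfsg.IsExtraspecial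 p ↥E ∧ (p ≠ 2 → Monoid.exponent ↥E = p) ∧ (p = 2 → Nonempty (↥E ≃* QuaternionGroup 2))) ∨ E = Γ₁ ∨ E = (S ⊓ Subgroup.centralizer (((Subgroup.upperCentralSeries ↥S 2).map S.subtype) : Set Ω))) ∧ (Γ₁ ≠ (S ⊓ Subgroup.centralizer (((Subgroup.upperCentralSeries ↥S 2).map S.subtype) : Set Ω)) → ∀ E : Subgroup Ω, F.IsEssential p E → (Nat.card ↥E = p ^ 3 ∧ Cfsg.IsExtraspecial p ↥E ∧ (p ≠ 2 → Monoid.exponent ↥E = p) ∧ (p = 2 → Nonempty (↥E ≃* QuaternionGroup 2))) → False) := by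
  obtain ⟨γ, h⟩ := exists_mx hn h4 hmax
  rw [h.gam_eq hΓ₁, h.ucs_eq]
  refine ⟨fun E hE => ?_, fun ne E hE => (down m h hF hE).1 ne⟩
  rcases (down m h hF hE).2 with r | r | ⟨r | r, -⟩
  exacts [.inr (.inr (.inl r)), .inr (.inr (.inr r)), .inl r, .inr (.inl r)]

theorem s5269 (m : Main.{u}) {Ω : Type u} [Group Ω] {S : Subgroup Ω} [Finite S] (p : ℕ) [hp' : Fact p.Prime] (_hS : IsPGroup p ↥S) (n : ℕ) (hn : Nat.card S = p ^ n) (h4 : 4 ≤ n) (hmax : Subgroup.lowerCentralSeries S (n - 2) ≠ ⊥) (F : Cfsg.FusionSystem S) (hF : F.IsSaturated p) (hp : 5 ≤ p) (Γ₁ : Subgroup Ω) (hΓ₁ : ∀ x : Ω, x ∈ Γ₁ ↔ x ∈ S ∧ ∀ y ∈ Subgroup.lowerCentralSeries S 1, x * y * x⁻¹ * y⁻¹ ∈ Subgroup.lowerCentralSeries S 3) (E : Subgroup Ω) (hE : F.IsEssential p E) (hEn : (E.subgroupOf S).Normal) : (E.subgroupOf S).index = p ∧ (E = Γ₁ ∨ E = (S ⊓ Subgroup.centralizer (((Subgroup.upperCentralSeries ↥S 2).map S.subtype) : Set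 Ω)) ∨ (n = 4 ∧ Nat.card ↥E = p ^ 3 ∧ Cfsg.IsExtraspecial p ↥E ∧ Monoid.exponent ↥E = p)) := by
  obtain ⟨γ, h⟩ := exists_mx hn h4 hmax
  rw [h.gam_eq hΓ₁, h.ucs_eq]
  have idx : Nat.card E = p ^ (n - 1) → (E.subgroupOf S).index = p := fun c => by
    have e := (E.subgroupOf S).index_mul_card
    rw [hn, Nat.card_congr (subgroupOfEquivOfLe hE.1.1).toEquiv, c, show n = n - 1 + 1 by omega,
      pow_succ'] at e
    exact Nat.eq_of_mul_eq_mul_right (pow_pos hp'.out.pos _) e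
  rcases (down m h hF hE).2 with r | r | ⟨-, r⟩
  · exact ⟨idx (r ▸ h.card 1), .inl r⟩
  · exact ⟨idx (r ▸ h.cardM), .inr (.inl r)⟩
  · obtain ⟨rfl, q⟩ := r ((normal_subgroupOf_iff_le_normalizer hE.1.1).1 hEn)
    exact ⟨idx q.1, .inr (.inr ⟨rfl, q.1, q.2.1, q.2.2.1 (by omega)⟩)⟩

theorem s5316 (m : Main.{u}) {Ω : Type u} [Group Ω] {S : Subgroup Ω} [Finite S] (p : ℕ) [hp' : Fact p.Prime] (hp : 5 ≤ p) (_hS : IsPGroup p ↥S) (n : ℕ) (hn : Nat.card S = p ^ n) (h5 : 5 ≤ n)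
    (hmax : Subgroup.lowerCentralSeries S (n - 2) ≠ ⊥) (F : Cfsg.FusionSystem S) (hF : F.IsSaturated p)
    (E : Subgroup Ω) (hE : F.IsEssential p E)
    (hnp : ¬ ((Nat.card ↥E = p ^ 2 ∧ Cfsg.IsElementaryAbelian p E) ∨ (Nat.card ↥E = p ^ 3 ∧ Cfsg.IsExtraspecial p ↥E ∧ Monoid.exponent ↥E = p))) :
    p ^ 4 ≤ Nat.card ↥E := by
  obtain ⟨γ, h⟩ := exists_mx hn (by omega) hmax
  have l : p ^ 4 ≤ p ^ (n - 1) := Nat.pow_le_pow_right hp'.out.pos (by omega)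
  rcases (down m h hF hE).2 with r | r | ⟨r, -⟩
  · exact l.trans_eq (r ▸ h.card 1).symm
  · exact l.trans_eq (r ▸ h.cardM).symm
  · exact absurd (r.imp_right fun r => ⟨r.1, r.2.1, r.2.2.1 (by omega)⟩) hnp

end H66.FM
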