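import Cfsg.Agent.H74.FSp

/-! blueprints/FUSMC.md: `JobN6`. -/

set_option autoImplicit false

namespace H66.FM
open Cfsg H92 H92.Es H93 H92.P5 H74.FM Subgroup
open scoped commutatorElement

universe u

theorem jobN6 (tp : JobTP.{u}) : JobN6.{u} := by
  intro Ω _ _ S p n _ F γ cx hn ex nd
  subst hn
  have h := cx.mx
  have hF := cx.sat
  have p5 : 6 ≤ p + 1 := (h.exc.resolve_left ex).2.2
  obtain ⟨s, sS, s1, sM⟩ := h.exists_unif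
  have b6 : γ 6 = ⊥ := h.bot le_rfl
  have tv : ∀ {a b c}, ⁅γ a, γ b⁆ ≤ γ c → γ a ≤ Tv (γ b) (γ c) := fun e =>
    tv_of_le ((h.le _).trans (h.nmS _)) e
  have ct : ∀ {a b}, 1 ≤ a → 1 ≤ b → a + b = 6 → γ a ≤ Ct (γ b) := fun ha hb e x hx =>
    tv_bot.1 (b6 ▸ tv (e ▸ h.com ha hb) hx)
  have c5 : S ≤ Ct (γ 5) := fun x hx => tv_bot.1 (b6 ▸ h.tvS 5 hx)
  have nc : ∀ {A B}, S ≤ Nm A → S ≤ Nm B → s ∈ Nm ⁅A, B⁆ := fun a b => mem_Nm_commutator (a sS) (b sS)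
  have ctE : ∀ k, 1 ≤ k → k < 6 → γ 1 ⊓ Ct (γ k) = γ (6 - k) := fun k a b =>
    le_antisymm (fun x hx => h.ct_exc ex a b hx.1 hx.2)
      (le_inf (h.anti (by omega)) (ct (by omega) a (by omega)))
  have t24 : γ 1 ≤ Tv (γ 2) (γ 4) := tv (h.ne le_rfl (by omega) (by omega))
  have t35 : γ 1 ≤ Tv (γ 3) (γ 5) := tv (h.ne le_rfl (by omega) (by omega))
  have t25 : γ 3 ≤ Tv (γ 2) (γ 5) := tv (h.com (by omega) (by omega))
  have d22 : ⁅γ 2, γ 2⁆ = γ 5 := by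
    refine h.eq_of_nm' sS s1 sM (nc (h.nmS _) (h.nmS _)) (by omega)
      (h.ne (by omega) (by omega) (by omega)) fun e => ?_
    obtain ⟨x, a, b⟩ := h.ex (i := 2) (by omega)
    obtain ⟨y, c, d⟩ := h.ex (i := 3) (by omega)
    exact h.pair ex (by omega) (by omega) rfl a b c d
      (mem_bot.1 (b6 ▸ e (commutator_mem_commutator a (h.succ 2 c))))
  obtain ⟨w, w1, w2⟩ := h.ex (i := 1) (by omega)
  refine ⟨fun hE => s1 ?_, fun E hE l2 hx => ?_⟩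
  · have d11 : ⁅γ 1, γ 1⁆ = γ 4 := h.eq_of_nm' sS s1 sM (nc (h.nmS _) (h.nmS _)) (by omega)
      (le_of_tv ((h.sp (by omega)).cyc ((h.le _).trans (h.nmS _)) t24)) nd
    have e3 : γ 1 ⊓ Tv (γ 1) (γ 5) = γ 3 := by
      have l : γ 3 ≤ γ 1 ⊓ Tv (γ 1) (γ 5) :=
        le_inf (h.anti (by omega)) (tv_symm ((h.le _).trans (h.nmS _)) t35)
      obtain ⟨i, a, b, e⟩ := h.eq_of_normal (K := γ 1 ⊓ Tv (γ 1) (γ 5))
        (fun g hg => mem_Nm_inf (h.nmS _ hg) (mem_Nm_Tv (h.nmS _ hg) (h.nmS _ hg))) inf_le_left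
      rcases lt_trichotomy i 3 with r | rfl | r
      · exact absurd (le_of_tv ((h.sp (by omega)).cyc ((h.le _).trans (h.nmS _))
          (tv_symm ((h.le _).trans (h.nmS _))
            (((h.anti (by omega : i ≤ 1 + 1)).trans e.ge).trans inf_le_right)))) nd
      · exact e
      · exact absurd (l.trans e.le) (h.nle (by omega) r)
    have n1 := Aut_le_Nm F (γ 1)
    have n5 : Aut F (γ 1) ≤ Nm (γ 5) := fun g hg =>
      ctE 1 le_rfl (by omega) ▸ mem_Nm_inf (n1 hg) (mem_Nm_Ct (n1 hg))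
    have n4 : Aut F (γ 1) ≤ Nm (γ 4) := fun g hg => d11 ▸ mem_Nm_commutator (n1 hg) (n1 hg)
    have n3 : Aut F (γ 1) ≤ Nm (γ 3) := fun g hg =>
      e3 ▸ mem_Nm_inf (n1 hg) (mem_Nm_Tv (n1 hg) (n5 hg))
    have n2 : Aut F (γ 1) ≤ Nm (γ 2) := fun g hg =>
      ctE 4 (by omega) (by omega) ▸ mem_Nm_inf (n1 hg) (mem_Nm_Ct (n4 hg))
    refine mem_of_St hF hE (l := [γ 2, γ 3, γ 4, γ 5]) ?_ ⟨sS, h.nmS 1 sS⟩
      ⟨h.tvS 1 sS, h.tvS 2 sS, h.tvS 3 sS, h.tvS 4 sS, c5 sS⟩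
    simp only [List.forall_mem_cons, List.not_mem_nil, false_imp_iff, implies_true, and_true]
    exact ⟨⟨h.anti (by omega), n2⟩, ⟨h.anti (by omega), n3⟩, ⟨h.anti (by omega), n4⟩,
      h.anti (by omega), n5⟩
  have c42 : γ 4 ≤ Ct (γ 2) := ct (by omega) (by omega) rfl
  have l4 : γ 4 ≤ E := fun x a => cen hF hE (h.le _ a) (Ct_anti l2 (c42 a))
  have l5 : γ 5 ≤ E := (h.succ 4).trans l4
  have n4 : E ≠ γ 4 := fun e => h.nle (i := 2) (j := 4) (by omega) (by omega) fun x a =>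
    e ▸ cen hF hE (h.le _ a) (e ▸ le_Ct_comm.1 c42 a)
  have wE : w ∈ S ⊓ Nm E := ⟨h.le _ w1, Nm_of_Tv (t24 w1) l4 l2⟩
  have nE := Aut_le_Nm F E
  rcases l2.eq_or_lt with rfl | lt2
  · refine w2 (mem_of_St hF hE (l := [γ 4, γ 5]) ?_ wE ⟨t24 w1, h.tvS 4 wE.1, c5 wE.1⟩)
    simp only [List.forall_mem_cons, List.not_mem_nil, false_imp_iff, implies_true, and_true]
    refine ⟨⟨l4, fun g hg => ?_⟩, l5, fun g hg => d22 ▸ mem_Nm_commutator (nE hg) (nE hg)⟩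
    have e : γ 2 ⊓ Ct (γ 2) = γ 4 := le_antisymm
      ((inf_le_inf_right _ (h.succ 1)).trans (ctE 2 (by omega) (by omega)).le) (le_inf l4 c42)
    exact e ▸ mem_Nm_inf (nE hg) (mem_Nm_Ct (nE hg))
  obtain ⟨sp1, sp2⟩ := sp_mid h.pg (h.le 2) (i := 2) (h.card 2) (h.card 4) (l4.lt_of_ne n4.symm) lt2
  have s5 : Sp p (γ 5) ⊥ := b6 ▸ h.sp (i := 5) (by omega)
  by_cases l3 : E ≤ γ 3
  · obtain rfl : E = γ 3 := (h.sp (by omega)).eq_of l4 l3 sp2.not_le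
    obtain ⟨a, ha, ha'⟩ := exists_notXE hF hE
    obtain ⟨v, v1, v2⟩ := (s5.cj a).ex
    rw [cj_bot] at v2
    have la : cj a (γ 5) ≤ γ 3 := (cj_mono a l5).trans (cj_eq_of_Aut ha).le
    obtain ⟨z, hz, hz'⟩ := exists_out (S := γ 1) (E := γ 3) (i := 3) (h.card 1) (h.card 3)
      (card_le_cm (w := v) s5 ((h.le 1).trans (le_tv_bot c5)) fun g hg => com_of_tv (t35 hg) (la v1))
    have zS := h.le 1 hz.1
    exact trv' hF hE ⟨zS, h.nmS 3 zS⟩ hz' (t35 hz.1) (mem_Ct_sup.2 ⟨c5 zS,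
      (s5.cj a).ct_of (by rw [cj_bot, Ct_bot]; trivial) v1 (by rwa [cj_bot]) (mem_bot.1 hz.2.2)⟩)
      le_sup_left (sup_le l5 la) ha ha' le_sup_right
  obtain ⟨x, x3, x4⟩ := h.ex (i := 3) (by omega)
  have xE : x ∉ E := fun e => l3 (eq_of_le_of_card_ge ((h.sp (by omega)).le_of l4 x3 x4 e)
    (by rw [sp2.card, (h.sp (i := 3) (by omega)).card])).ge
  have xt : x ∈ Tv E (γ 5) := Tv_anti l2 _ (t25 x3)
  have xN : x ∈ S ⊓ Nm E := ⟨h.le _ x3, Nm_of_Tv xt l5 le_rfl⟩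
  have dM : ⁅Mz 6 S γ, Mz 6 S γ⁆ = γ 3 := by
    have nM : S ≤ Nm (Mz 6 S γ) := (le_Nm S).trans h.nmM
    refine h.eq_of_nm' sS s1 sM (nc nM nM) (by omega)
      (le_of_tv (h.spM2.cyc (inf_le_left.trans (h.nmS _)) (inf_le_left.trans (h.tvS 2)))) fun e => ?_
    obtain ⟨t, a, b⟩ := h.spM2.ex
    obtain ⟨y, c, d⟩ := h.ex (i := 2) (by omega)
    exact h.unif a.1 (fun r => b (h.inf_M ex ▸ (⟨r, a⟩ : t ∈ γ 1 ⊓ Mz 6 S γ))) (by omega) (by omega) c d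
      (e (commutator_mem_commutator (h.two_le_M c) a))
  have e2 : E ⊔ γ 3 = γ 2 := (h.sp (i := 2) (by omega)).eq_of le_sup_right (sup_le l2 (h.succ 2))
    fun e => l3 (le_sup_left.trans e)
  have nZ : XE F E ≤ Nm (γ 5) := fun g hg => by
    obtain ⟨t, a, b⟩ := hx g hg
    have m1 := Aut_le_Nm F _ a
    have m2 : t ∈ Nm (γ 2) := e2 ▸ mem_Nm_sup (Nm_of_div_Ct (nE (XE_le_Aut F E hg)) b)
      (dM ▸ mem_Nm_commutator m1 m1)
    exact Nm_of_div_Ct (d22 ▸ mem_Nm_commutator m2 m2) (Ct_anti l5 (div_symm b))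
  have := tp p 6 F γ cx E E x w 2 hE p5 (by omega) l5
    (le_inf le_rfl (sp2.cyc' (l2.trans (le_Ct_comm.1 c42))))
    (fun y hy => mem_bot.1 (h.bot (i := 2 + p - 1) (by omega) ▸ (h.pow2 le_rfl (l2 hy)).1)) nE l2 nZ xN xE xt
    (Ct_anti inf_le_right (ct (by omega) (by omega) rfl x3)) wE
    (fun e => w2 (sup_le l2 (zpowers_le.2 (h.succ 2 x3)) e)) (l5 (com_of_tv (t35 w1) x3))
  refine xE (mem_of_St hF hE (l := [γ 5]) ?_ xN ⟨xt, c5 xN.1⟩)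
  simp only [List.forall_mem_cons, List.not_mem_nil, false_imp_iff, implies_true, and_true]
  exact ⟨l5, this⟩

end H66.FM
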