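import Cfsg.Agent.H67.GAInd
import Cfsg.Agent.H64.SGA2

/-! STD-UM (row S3128): `JobH` of the type-free tower `H67.GA`. -/

set_option autoImplicit false
set_option linter.unusedSectionVars false

namespace H66.GAH

open H64.SG (O2 Syl Cz Cs Ns cjs Is2 Inv2 UF IsO2 fx mem_Cs mem_Cz mem_fx Qt)
open H57 Subgroup H67.GA
open scoped commutatorElement

universe u

section Lift

variable {G H Y : Type*} [Group G] [Group H] [Group Y] {O : Subgroup G} (q : Qt O H)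

theorem lift_hom [Finite Y] (hp : commutator Y = ⊤) (hm : H21.multCard Y = 1) (f : Y →* H)
    (hf : ∀ y, f y ∈ q.im (Cs O)) : ∃ φ : Y →* G, (∀ y, φ y ∈ Cs O) ∧ ∀ y, q.p (φ y) = f y := by
  have hN := H64.SG.Cs_le_Ns O
  let π : Cs O →* q.im (Cs O) := (q.φ.comp (inclusion hN)).codRestrict _ fun g => by
    rw [MonoidHom.comp_apply, q.eq]; exact q.p_mem g.2 (hN g.2)
  have h1 : ∀ g : Cs O, (π g : H) = q.p g := fun g => q.eq _
  obtain ⟨φ, hφ⟩ := H21.exists_lift_of_perfect hp hm (f.codRestrict _ hf) (π := π) (by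
    rintro ⟨h, hh⟩
    obtain ⟨g, g1, -, rfl⟩ := q.mem_im.1 hh
    exact ⟨⟨g, g1⟩, Subtype.ext (h1 _)⟩) (fun g hg => mem_center_iff.2 fun c => Subtype.ext
      (c.2 g ((q.ker g (hN g.2)).1 (by rw [← h1, MonoidHom.mem_ker.1 hg]; rfl))).symm)
  exact ⟨(Cs O).subtype.comp φ, fun y => (φ y).2, fun y => (h1 _).symm.trans
    (congrArg Subtype.val (hφ y))⟩

theorem mem_O {a b : G} (ha : a ∈ Cs O) (hb : b ∈ Cs O) (h : q.p a = q.p b) : a * b⁻¹ ∈ O := by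
  have hN := H64.SG.Cs_le_Ns O
  exact (q.ker _ (hN (mul_mem ha (inv_mem hb)))).1 (by
    rw [q.mul (hN ha) (hN (inv_mem hb)), q.inv (hN hb), h, mul_inv_cancel])

theorem eq_of_p (hp : commutator Y = ⊤) (f g : Y →* G) (hf : ∀ y, f y ∈ Cs O)
    (hg : ∀ y, g y ∈ Cs O) (h : ∀ y, q.p (f y) = q.p (g y)) : f = g :=
  hom_eq_of_central' hp f g (fun a b => hg b _ (mem_O q (hf a) (hg a) (h a)))
    fun a b => hf b _ (mem_O q (hf a) (hg a) (h a))

theorem le_of_p {L R : Subgroup G} (hp : L ≤ ⁅L, L⁆) (hL : L ≤ Cs O) (hR : R ≤ Cs O)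
    (h : ∀ l ∈ L, ∃ g ∈ R, q.p l = q.p g) : L ≤ R := by
  refine hp.trans (commutator_le.2 fun a ha b hb => ?_)
  obtain ⟨g, g1, g2⟩ := h a ha
  obtain ⟨k, k1, k2⟩ := h b hb
  have h1 := mem_O q (hL ha) (hR g1) g2
  have h2 := mem_O q (hL hb) (hR k1) k2
  have e1 : ⁅a, b⁆ = ⁅g, b⁆ := by
    have h3 := (mul_mem (mul_mem (hR g1) (hL hb)) (inv_mem (hR g1))) _ h1
    rw [commutatorElement_def, commutatorElement_def, show a * b * a⁻¹ =
      a * g⁻¹ * (g * b * g⁻¹) * (a * g⁻¹)⁻¹ by group, h3, mul_inv_cancel_right]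
  have e2 : ⁅g, b⁆ = ⁅g, k⁆ := by
    have h3 := (mul_mem (mul_mem (hR k1) (inv_mem (hR g1))) (inv_mem (hR k1))) _ h2
    rw [commutatorElement_def, commutatorElement_def, show g * b * g⁻¹ * b⁻¹ =
      g * (b * k⁻¹ * (k * g⁻¹ * k⁻¹) * (b * k⁻¹)⁻¹) by group, h3, mul_inv_cancel_right]
    group
  rw [e1, e2, commutatorElement_def]
  exact mul_mem (mul_mem (mul_mem g1 k1) (inv_mem g1)) (inv_mem k1)

theorem im_normal : (q.im (Cs O)).Normal := ⟨fun c hc h => by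
  have := mul_mem (q.conj_mem_C h hc) hc
  rwa [inv_mul_cancel_right] at this⟩

end Lift

variable {X : Type} [Group X] [Finite X] {G : Type u} [Group G] [Finite G] {e : X →* G} {t : G}

/-- `C_K(t) = O × ⟨t⟩`. -/
theorem odd_core (h : CE e t) : Odd (Nat.card (O2 (Cs e.range ⊓ Cz t))) ∧
    ∀ k ∈ Cs e.range, k ∈ Cz t → k ∈ O2 (Cs e.range ⊓ Cz t) ∨ k * t ∈ O2 (Cs e.range ⊓ Cz t) := by
  obtain ⟨T, T1⟩ := H98.exists_isSyl 2 (Cs e.range ⊓ Cz t)
  refine ⟨H64.SG.odd_O2 T1 (h.b0.cyc T (T1.le.trans inf_le_left) T1.isPGroup), fun k k1 k2 => ?_⟩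
  obtain ⟨i, j, e0, e1, e2⟩ := H64.SG.exists_two_odd k
  have e3 := H64.SG.mem_O2_of_odd (pow_mem (mem_inf.2 ⟨k1, k2⟩) j) e2
  rcases h.eq_or (pow_mem k1 i) e1 (mem_Cz.1 (pow_mem k2 i)) with e4 | e4
  · left; rwa [e0, e4, one_mul]
  · right; rwa [e0, e4, mem_Cz.1 (pow_mem k2 j), mul_assoc, h.inv.1, mul_one]

theorem jobH : JobH.{u} := by
  intro X _ _ _ _ Y _ _ ι τ hB hH G _ _ e t h
  obtain ⟨o1, ko⟩ := odd_core h.toCE
  have ole := H64.SG.O2_le (Cs e.range ⊓ Cz t)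
  have no : Ns ((UU X).map e ⊔ zpowers t) ≤ Ns (O2 (Cs e.range ⊓ Cz t)) := fun g hg =>
    H98.mem_normalizer_of_cj_le (by
      rintro _ ⟨a, ha, rfl⟩
      have h1 : a ∈ Cs ((UU X).map e ⊔ zpowers t) := by
        rw [Cs, H98.centralizer_sup]
        exact ⟨Cs_range_le _ (ole ha).1, H64.SG.mem_Cs_zpowers.2 (mem_Cz.1 (ole ha).2)⟩
      have h2 := H98.conj_mem_of_mem_normalizer (H98.normalizer_le_normalizer_centralizer _ hg) h1
      have h3 : g * a * g⁻¹ ∈ Cz t := mem_Cz.2 (h2 t (mem_sup_right (mem_zpowers t)))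
      have h4 : Odd (orderOf (g * a * g⁻¹)) := H64.SG.odd_orderOf_of_pow
        (H64.SG.odd_orderOf_of_mem o1 ha) (by rw [conj_pow, pow_orderOf_eq_one]; simp)
      exact H64.SG.mem_O2_of_odd ⟨H64.SG.mem_of_sq_mem (cq2 h.ker rg1 (h.cz h3)
        (centralizer_le ((map_mono QQ_le_UU).trans le_sup_left) h2)) h4, h3⟩ h4)
  generalize O2 (Cs e.range ⊓ Cz t) = O at o1 ko ole no
  obtain ⟨q⟩ := H64.SG.exists_qt o1
  have hC := H64.SG.Cs_le_Ns O
  have hL : e.range ≤ Cs O := le_centralizer_iff.1 (ole.trans inf_le_left)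
  have hN : e.range ≤ Ns O := hL.trans hC
  have t1 : t ∈ Cs O := fun o ho => (mem_Cz.1 (ole ho).2).symm
  have t2 := hC t1
  have t3 := H64.SG.is2_of_sq h.inv.1
  have x0 : ∀ s, e s ∈ Cs O := fun s => hL ⟨s, rfl⟩
  have x1 : ∀ s, e s ∈ Ns O := fun s => hN ⟨s, rfl⟩
  let e' := q.φ.comp (e.codRestrict (Ns O) x1)
  have e1 : ∀ s, e' s = q.p (e s) := fun s => q.eq _
  have e2 : ∀ A : Subgroup X, A.map e' = q.im (A.map e) := fun A => by
    ext g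
    refine ⟨?_, fun hg => ?_⟩
    · rintro ⟨s, hs, rfl⟩
      exact e1 s ▸ q.p_mem ⟨s, hs, rfl⟩ (x1 s)
    · obtain ⟨_, ⟨s, hs, rfl⟩, -, rfl⟩ := q.mem_im.1 hg
      exact ⟨s, hs, e1 s⟩
  have e3 : e'.range = q.im e.range := by rw [MonoidHom.range_eq_map, e2, ← MonoidHom.range_eq_map]
  have H : CH e' (q.p t) := by
    refine ⟨⟨fun s hs => (e_mem_Cs h.ker).1 (ole ((q.ker _ (x1 s)).1 (e1 s ▸ hs))).1,
      ⟨by rw [← q.mul t2 t2, h.inv.1, q.one], fun e => h.inv.2 (t3.eq_one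
        (H64.SG.odd_orderOf_of_mem o1 ((q.ker t t2).1 e)))⟩, e3 ▸ q.p_mem_Cs h.cen t2,
      fun g hg => ?_⟩, fun g g1 g2 => ?_, ?_⟩
    · obtain ⟨g, g1, g2, rfl⟩ := q.lift_Cz t2 t3 hg
      exact e3 ▸ q.p_mem_Ns (h.cz g2) g1
    · obtain ⟨g, g3, g4, rfl⟩ := q.lift_Cz t2 t3 g1
      have g5 : g ∈ Cs e.range := mem_Cs_of_cm h.ker (h.cz g4) fun s => (ole ((q.ker _
        (mul_mem (mul_mem (mul_mem g3 (x1 s)) (inv_mem g3)) (inv_mem (x1 s)))).1 (by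
          rw [q.mul (mul_mem (mul_mem g3 (x1 s)) (inv_mem g3)) (inv_mem (x1 s)), q.conj g3 (x1 s),
            q.inv (x1 s), ← e1, ← g2 _ ⟨s, rfl⟩]; group))).1
      refine (ko g g5 g4).imp (q.ker g g3).2 fun e => ?_
      have := (q.ker _ (mul_mem g3 t2)).2 e
      rw [q.mul g3 t2] at this
      rw [eq_inv_of_mul_eq_one_left this, ← q.inv t2, inv_eq_of_mul_eq_one_right h.inv.1]
    · obtain ⟨g, g1, c, hc, c1, g2⟩ := h.mv
      have g3 := no g1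
      refine ⟨q.p g, ?_, c, hc, c1, by rw [← q.conj g3 t2, g2, q.mul t2 (x1 _), e1]⟩
      have : zpowers (q.p t) = q.im (zpowers t) := by
        rw [H64.SG.Qt.im, show (zpowers t).subgroupOf (Ns O) = zpowers ⟨t, t2⟩ from
          map_injective (subtype_injective _) (by
            rw [subgroupOf_map_subtype, inf_eq_left.2 (zpowers_le.2 t2), MonoidHom.map_zpowers]; rfl),
          MonoidHom.map_zpowers, q.eq]
      rw [e2, this, ← q.im_sup ((map_le_range _ _).trans hN) (zpowers_le.2 t2)]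
      exact q.p_mem_Ns g1 g3
  have e4 : ∀ s, e' s ∈ q.im (Cs O) := fun s => e1 s ▸ q.p_mem (x0 s) (x1 s)
  have ct : ∀ {a}, a ∈ Cs O → t * a * t⁻¹ ∈ Cs O := fun ha => mul_mem (mul_mem t1 ha) (inv_mem t1)
  rcases hH _ e' _ H with ⟨Φ', B⟩ | ⟨f₁, f₂, B⟩
  · have h1 : ∀ y, Φ' y ∈ q.im (Cs O) := by
      rcases hB.nrm _ ((im_normal q).comap Φ') with h2 | h2
      · obtain ⟨z, hz, z1⟩ := exists_ZZ (X := X)
        obtain ⟨s, hs⟩ : (Φ'.comp ι) z ∈ e'.range := B.rg ▸ ⟨z, rfl⟩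
        exact absurd (eq_one_of_center (hB.cen z (h2 (show Φ' (ι z) ∈ q.im (Cs O) from
          hs.symm ▸ e4 s))) (is2_of_UU (ZZ_le_UU hz))) z1
      · exact fun y => show y ∈ (q.im (Cs O)).comap Φ' from h2 ▸ mem_top y
    obtain ⟨Φ, p1, p2⟩ := lift_hom q hB.perf hB.mult Φ' h1
    refine Or.inl ⟨Φ, fun y hy => B.ker (show Φ' y = 1 by rw [← p2, MonoidHom.mem_ker.1 hy, q.one]),
      fun y => ?_, le_antisymm ?_ ?_⟩
    · exact DFunLike.congr_fun (eq_of_p q hB.perf ((MulAut.conj t).toMonoidHom.comp Φ)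
        (Φ.comp τ.toMonoidHom) (fun y => ct (p1 y)) (fun y => p1 _) fun y =>
          (q.conj t2 (hC (p1 y))).trans (by rw [p2, B.act y]; exact (p2 _).symm)) y
    · refine le_of_p q range_perfect (by rintro _ ⟨s, rfl⟩; exact p1 _) hL ?_
      rintro _ ⟨s, rfl⟩
      obtain ⟨r, hr⟩ : (Φ'.comp ι) s ∈ e'.range := B.rg ▸ ⟨s, rfl⟩
      exact ⟨e r, ⟨r, rfl⟩, (p2 _).trans (hr.symm.trans (e1 r))⟩
    · refine le_of_p q range_perfect hL (by rintro _ ⟨s, rfl⟩; exact p1 _) ?_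
      rintro _ ⟨s, rfl⟩
      obtain ⟨r, hr⟩ : e' s ∈ (Φ'.comp ι).range := B.rg.symm ▸ ⟨s, rfl⟩
      exact ⟨_, ⟨r, rfl⟩, (e1 s).symm.trans (hr.symm.trans (p2 _).symm)⟩
  · have h1 : ∀ y, f₁ y ∈ q.im (Cs O) := fun y => by
      refine show y ∈ (q.im (Cs O)).comap f₁ from (perfect.symm.le.trans
        (commutator_le.2 fun a _ b _ => ?_)) (mem_top y)
      have h2 := q.conj_mem_C (f₁ a) (e4 b)
      rw [B.diag, ← mul_assoc, mul_assoc _ (f₂ b), ← map_inv, ← B.comm, mul_inv_rev, ← mul_assoc,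
        ← mul_assoc, mul_inv_cancel_right, ← map_inv, ← map_mul, ← map_mul, ← map_mul] at h2
      exact h2
    obtain ⟨e₁, p1, p2⟩ := lift_hom q perfect FO.mult f₁ h1
    have p3 : ∀ a, cje t e₁ a ∈ Cs O := fun a => ct (p1 a)
    have p4 : ∀ a, q.p (cje t e₁ a) = f₂ a := fun a =>
      (q.conj t2 (hC (p1 a))).trans (by rw [p2, B.sw])
    have p5 : ∀ a b, e₁ a * cje t e₁ b = cje t e₁ b * e₁ a := fun a b =>
      mul_inv_eq_iff_eq_mul.1 (DFunLike.congr_fun (eq_of_p q perfect (cje (e₁ a) (cje t e₁))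
        (cje t e₁) (fun b => mul_mem (mul_mem (p1 a) (p3 b)) (inv_mem (p1 a))) p3 fun b =>
          (q.conj (hC (p1 a)) (hC (p3 b))).trans (by
            rw [p2, p4, B.comm, mul_inv_cancel_right])) b)
    refine Or.inr ⟨e₁, cje t e₁, fun y hy => B.ker (show f₁ y = 1 by
      rw [← p2, MonoidHom.mem_ker.1 hy, q.one]), p5, fun a => ?_, fun _ => rfl⟩
    exact DFunLike.congr_fun (eq_of_p q perfect e (MonoidHom.mk' (fun a => e₁ a * cje t e₁ a)
      fun a b => by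
        rw [map_mul, map_mul, mul_assoc, mul_assoc, ← mul_assoc (e₁ b), p5, mul_assoc])
      x0 (fun a => mul_mem (p1 a) (p3 a)) fun a => (e1 a).symm.trans ((B.diag a).trans (by
        rw [← p2, ← p4]; exact (q.mul (hC (p1 a)) (hC (p3 a))).symm))) a

end H66.GAH
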