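import Cfsg.Agent.H66.GAK
import Cfsg.Agent.H67.GANP
import Cfsg.Agent.H18.SANQ

/-! STD-UM (row S3128), wreath case: `JobNQ` of `H67.GA` (first half after `H18/SANQ`). -/

set_option autoImplicit false
set_option linter.unusedSectionVars false

namespace H66.GAK

open H64.SG (O2 Syl Cz Cs Ns cjs Is2 Inv2 UF IsO2 fx mem_Cs mem_Cz mem_fx is2_of_sq
  isPGroup_iff_is2 mem_of_sq_mem)
open H57 H98 H67.GA Subgroup
open H18.SA (nor_of_odd)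
open scoped commutatorElement

universe u

variable {X : Type} [Group X] [Finite X] [Dat X] [Fa X] {G : Type u} [Group G] [Finite G]
  {e e₁ e₂ : X →* G} {g m r t : G} {β : MulAut X} {A B : Subgroup X}
  {a b : X}

/-- An involution that normalises `B` and centralises `B ^ t` lies in `M`. -/
theorem tr {M B : Subgroup G} (h : UF M t) (h1 : r ∈ Ns B) (h2 : r ∈ Cs (cjs t B))
    (h3 : Cs B ⊓ Cs (cjs t B) ≤ M) (hr : r * r = 1) : r ∈ M := by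
  have t1 : t⁻¹ = t := inv_eq_of_mul_eq_one_right h.inv.1
  have e : cjs t (cjs t B) = B := (cj_cj t t B).trans (by rw [h.inv.1, cj_one])
  have h4 : t * r * t⁻¹ ∈ Cs B := by rw [← e, ← H64.SG.cj_Cs]; exact conj_mem_cj h2
  have h5 : t * r * t⁻¹ ∈ Ns (cjs t B) := by rw [← H64.SG.cj_Ns]; exact conj_mem_cj h1
  have h6 : r * (t * r * t⁻¹) ∈ M := h.uf _ (by
    have : r * (t * r * t⁻¹) * t * (r * (t * r * t⁻¹))⁻¹ = cm r (t * r * t⁻¹) * t := by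
      simp only [cm, mul_inv_rev, t1, mul_assoc]
      rw [← mul_assoc t t, h.inv.1, one_mul, mul_one]
    rw [this]
    refine mul_mem (h3 (mem_inf.2 ⟨mul_mem (conj_mem_of_mem_normalizer
      (normalizer_le_normalizer_centralizer _ h1) h4) (inv_mem h4), ?_⟩)) h.mem
    have := mul_mem h2 (conj_mem_of_mem_normalizer
      (normalizer_le_normalizer_centralizer _ h5) (inv_mem h2))
    simpa only [cm, mul_assoc] using this)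
  refine h.uf r ?_
  rw [inv_eq_of_mul_eq_one_right hr]
  simpa [mul_assoc] using mul_mem h6 h.mem

theorem cm_QQ (ha : a ∈ QQ X) (hb : b ∈ QQ X) : cm a b ∈ ZZ X := FB.cmQ 1 rg1 a ha b hb

theorem cm_ZZ (ha : a ∈ ZZ X) (hb : b ∈ QQ X) : cm a b = 1 :=
  cm_eq_one.2 (UU_le_Cs (QQ_le_UU hb) a ha)

theorem exists_QZ : ∃ a ∈ QQ X, a ∉ ZZ X := SetLike.not_le_iff_exists.1 FB.QZ

theorem exP (hk : e.ker ≤ center X) (hm : m ∈ Ns ((PP X).map e)) :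
    ∃ p ∈ PP X, e p * m ∈ Ns ((Qk X 2).map e) := by
  obtain ⟨β, hβ⟩ := exists_indP hk hm
  obtain ⟨p, p1, p2⟩ := ((H64.SG.syl_iff.1 (syl_UU (X := X))).of_le UU_le_PP le_top).exists_cj_le
    (isP_UU.map β.toMonoidHom) (by rintro _ ⟨u, hu, rfl⟩; exact (hβ u (UU_le_PP hu)).1)
  have h1 := (FA.nu (MulAut.conj p * β) (mem_St_of_finite fun u hu =>
    p2 (conj_mem_cj ⟨u, hu, rfl⟩)) 2 rg2).2
  refine ⟨p, p1, mem_normalizer_of_cj_le ?_⟩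
  rintro _ ⟨_, ⟨u, hu, rfl⟩, rfl⟩
  refine ⟨_, (h1 u).1 hu, ?_⟩
  have h2 := (hβ u (UU_le_PP (Qk_le_UU rg2 hu))).2
  simp only [MulAut.mul_apply, MulAut.conj_apply, map_mul, map_inv, ← h2, MulEquiv.coe_toMonoidHom]
  group

namespace HB

variable (h : HB e t e₁ e₂)
include h

theorem cm2 (a b c d : X) :
    cm (e₁ a * e₂ b) (e₁ c * e₂ d) = e₁ (cm a c) * e₂ (cm b d) := by
  rw [cm, h.conj2, mul_inv_eq_iff_eq_mul, h.mul_mul, inv_mul_cancel_right, inv_mul_cancel_right]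

theorem G12_mem : (∀ a, e₁ a ∈ Ns (G12 e₁ e₂)) ∧ ∀ a, e₂ a ∈ Ns (G12 e₁ e₂) :=
  ⟨fun a => le_normalizer (mem_sup_left ⟨a, rfl⟩), fun a => le_normalizer (mem_sup_right ⟨a, rfl⟩)⟩

theorem comm_nor {a b : G} (ha : a ∈ Ns (G12 e₁ e₂)) (hb : b ∈ Ns (G12 e₁ e₂)) :
    ⁅a, b⁆ ∈ Ns e₁.range := by
  have k : cj a⁻¹ (cj b⁻¹ e₁.range) = cj b⁻¹ (cj a⁻¹ e₁.range) := by
    rcases h.pm _ (inv_mem ha) with ⟨a1, a2⟩ | ⟨a1, a2⟩ <;>
      rcases h.pm _ (inv_mem hb) with ⟨b1, b2⟩ | ⟨b1, b2⟩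
    · rw [cj_eq_self a1, cj_eq_self b1, cj_eq_self a1]
    · rw [cj_eq_self a1, show cj b⁻¹ e₁.range = _ from b1, cj_eq_self a2]
    · rw [cj_eq_self b1, show cj a⁻¹ e₁.range = _ from a1, cj_eq_self b2]
    · rw [show cj a⁻¹ e₁.range = _ from a1, show cj b⁻¹ e₁.range = _ from b1]
      exact a2.trans b2.symm
  refine cj_eq_self_iff.1 ?_
  rw [commutatorElement_def, mul_assoc, ← cj_cj, ← cj_cj a⁻¹, k, cj_cj, cj_cj]
  simp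

/-- A perfect subgroup of `M` generated by involutions lies in `G₁`. -/
theorem le_G (f : X →* G) (h1 : A ≤ ⁅A, A⁆) (h2 : A ≤ Iv A)
    (h3 : ∀ v ∈ A, v * v = 1 → f v ∈ Ns (G12 e₁ e₂)) : A.map f ≤ G12 e₁ e₂ := by
  have k1 : A.map f ≤ Ns (G12 e₁ e₂) := map_le_iff_le_comap.2 (h2.trans (Iv_le_iff.2 h3))
  have k2 : A.map f ≤ ⁅A.map f, A.map f⁆ := by rw [← map_commutator]; exact map_mono h1
  have k3 : A.map f ≤ Ns e₁.range := k2.trans (commutator_le.2 fun a ha b hb =>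
    h.comm_nor (k1 ha) (k1 hb))
  have k4 : A.map f ≤ Ns e₂.range := k2.trans (commutator_le.2 fun a ha b hb =>
    h.symm.comm_nor (G12_comm (e₁ := e₁) (e₂ := e₂) ▸ k1 ha) (G12_comm (e₁ := e₁) (e₂ := e₂) ▸ k1 hb))
  refine map_le_iff_le_comap.2 (h2.trans (Iv_le_iff.2 fun v hv v2 => ?_))
  have v3 : f v * f v = 1 := by rw [← map_mul, v2, map_one]
  obtain ⟨β₁, i1⟩ := exists_ind h.ker (k3 ⟨v, hv, rfl⟩)
  obtain ⟨β₂, i2⟩ := exists_ind h.ker₂ (k4 ⟨v, hv, rfl⟩)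
  obtain ⟨a, -, rfl⟩ := inner_of_out (H81.GA.out_of_commutator h.ker i1
    (commutator_mono k3 k3 (k2 ⟨v, hv, rfl⟩))) (is2_of_sq (i1.sq h.ker v3))
  obtain ⟨b, -, rfl⟩ := inner_of_out (H81.GA.out_of_commutator h.ker₂ i2
    (commutator_mono k4 k4 (k2 ⟨v, hv, rfl⟩))) (is2_of_sq (i2.sq h.ker₂ v3))
  exact h.mem_G i1 i2 v3

theorem tr_le {B : Subgroup G} (h1 : A ≤ ⁅A, A⁆) (h2 : A ≤ Iv A) (n1 : m ∈ Ns B)
    (n2 : m ∈ Ns (cjs t B)) (a1 : A.map e₁ ≤ Ns B) (a2 : A.map e₁ ≤ Cs (cjs t B))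
    (h3 : Cs B ⊓ Cs (cjs t B) ≤ Ns (G12 e₁ e₂)) : A.map (cje m e₁) ≤ G12 e₁ e₂ :=
  h.le_G _ h1 h2 fun v hv v2 => tr h.uf (mul_mem (mul_mem n1 (a1 ⟨v, hv, rfl⟩)) (inv_mem n1))
    (conj_mem_of_mem_normalizer (normalizer_le_normalizer_centralizer _ n2) (a2 ⟨v, hv, rfl⟩)) h3
    (by rw [← map_mul, v2, map_one])

theorem fin (cu : Cs ((Qk X 2).map e) ≤ Ns (G12 e₁ e₂)) (n1 : m ∈ Ns ((Qk X 2).map e₁))
    (n2 : m ∈ Ns ((Qk X 2).map e₂)) (n3 : m ∈ Ns ((PP X).map e₁)) :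
    cj m e₁.range ≤ G12 e₁ e₂ := by
  have t1 := h.cjs_map (Qk X 2)
  have k := h.tr_le FP.pfS FP.ivS n1 (t1 ▸ n2) (by rintro _ ⟨s, hs, rfl⟩; exact map_mem_Ns (FP.SN hs))
    (t1 ▸ (map_le_range _ _).trans (h.le_Cs'.trans (Cs_range_le _))) (by
      rw [t1, ← centralizer_sup]; exact (centralizer_anti (h.map_le _)).trans cu)
  rw [MonoidHom.range_eq_map, ← FP.top, Subgroup.map_sup, cj_sup, cj_eq_self n3]
  exact sup_le ((map_le_range _ _).trans le_sup_left) ((map_cje (g := m) (e := e₁) _).ge.trans k)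

/-- `[v, Q*] ≤ Z₁` for `v ∈ Q₁ Z₂` -/
theorem cm_mem (h1 : m ∈ Ns (two e₁ e₂ (QQ X))) (ha : a ∈ QQ X) (hb : b ∈ ZZ X)
    (hg : g ∈ two e₁ e₂ (QQ X)) : cm (m * (e₁ a * e₂ b) * m⁻¹) g ∈ cjs m ((ZZ X).map e₁) := by
  obtain ⟨c, hc, d, hd, k⟩ := h.mem_two.1 (conj_mem_of_mem_normalizer' h1 hg)
  refine mem_cjs.2 ⟨_, cm_QQ ha hc, ?_⟩
  rw [← mul_one (e₁ _), ← map_one e₂, ← cm_ZZ hb hd, ← h.cm2, ← k, cm, cm]
  group

variable (h1 : m ∈ Ns (two e₁ e₂ (QQ X)))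
include h1

theorem z_or : cjs m ((ZZ X).map e₁) ≤ (ZZ X).map e₁ ∨
    cjs m ((ZZ X).map e₁) ≤ (ZZ X).map e₂ := by
  obtain ⟨a, ha, a1⟩ := exists_QZ (X := X)
  obtain ⟨a', ha', b', hb', k⟩ := h.mem_two.1 (conj_mem_of_mem_normalizer h1
    (h.mem_two.2 ⟨a, ha, 1, one_mem _, rfl⟩))
  have k1 : ∀ w ∈ cjs m ((ZZ X).map e₁), ∃ c ∈ QQ X, ∃ d ∈ QQ X,
      w = e₁ (cm a' c) * e₂ (cm b' d) := by
    rintro _ ⟨_, ⟨z, hz, rfl⟩, rfl⟩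
    obtain ⟨u, hu, rfl⟩ := FA.qz a ha a1 z hz
    obtain ⟨c, hc, d, hd, k1⟩ := h.mem_two.1 (conj_mem_of_mem_normalizer h1
      (mem_sup_left ⟨u, hu, rfl⟩))
    exact ⟨c, hc, d, hd, by rw [← h.cm2, ← k, ← k1]; simp [cm, mul_assoc]⟩
  by_cases b1 : b' ∈ ZZ X
  · refine .inl fun w hw => ?_
    obtain ⟨c, hc, d, hd, rfl⟩ := k1 w hw
    exact ⟨_, cm_QQ ha' hc, by rw [cm_ZZ b1 hd, map_one, mul_one]⟩
  by_cases a2 : a' ∈ ZZ X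
  · refine .inr fun w hw => ?_
    obtain ⟨c, hc, d, hd, rfl⟩ := k1 w hw
    exact ⟨_, cm_QQ hb' hd, by rw [cm_ZZ a2 hc, map_one, one_mul]⟩
  have k2 : two e₁ e₂ (ZZ X) ≤ cjs m ((ZZ X).map e₁) := fun w hw => by
    obtain ⟨y, hy, z, hz, rfl⟩ := h.mem_two.1 hw
    obtain ⟨c, hc, rfl⟩ := FA.qz a' ha' a2 y hy
    obtain ⟨d, hd, rfl⟩ := FA.qz b' hb' b1 z hz
    rw [← h.cm2, ← k]
    exact h.cm_mem h1 ha (one_mem _) (h.mem_two.2 ⟨c, hc, d, hd, rfl⟩)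
  have := card_le_of_le k2
  rw [card_cjs, card_map2 h.ker isP_ZZ, h.card_two isP_ZZ, FB.cardZ]
    at this
  exact absurd ((Nat.pow_le_pow_iff_right one_lt_q).1 (this.trans_eq (pow_one _).symm)) (by omega)

variable (ho : Odd (orderOf m))
include ho

theorem nZ : m ∈ Ns ((ZZ X).map e₁) := nor_of_odd ho
  (by rw [card_map2 h.ker isP_ZZ, card_map2 h.ker₂ isP_ZZ]) (h.z_or h1)
  (h.symm.z_or (by rwa [two_comm]))

theorem nB : m ∈ Ns ((QQ X).map e₁ ⊔ (ZZ X).map e₂) := mem_normalizer_of_cj_le (by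
  rintro _ ⟨w, hw, rfl⟩
  obtain ⟨a, ha, b, hb, rfl⟩ := h.mem_sup.1 hw
  obtain ⟨a', ha', b', hb', k⟩ := h.mem_two.1 (conj_mem_of_mem_normalizer h1
    (h.mem_two.2 ⟨a, ha, b, ZZ_le_QQ hb, rfl⟩))
  refine h.mem_sup.2 ⟨a', ha', b', by_contra fun b1 => ?_, k⟩
  obtain ⟨d, hd, k1⟩ := FA.qz b' hb' b1 _ x_mem
  have := (cj_eq_self (h.nZ h1 ho)).le
    (h.cm_mem h1 ha hb (h.mem_two.2 ⟨1, one_mem _, d, hd, rfl⟩))
  rw [k, h.cm2, ← k1] at this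
  exact x0_ne (h.eq_one₂ (is2_of_sq x_sq) (map_le_range _ _ this)))

theorem nP (cu : Cs ((QQ X).map e) ≤ Ns (G12 e₁ e₂)) : m ∈ Ns ((PP X).map e₁) := by
  have t1 : cjs t ((QQ X).map e₁ ⊔ (ZZ X).map e₂) = (QQ X).map e₂ ⊔ (ZZ X).map e₁ := by
    exact (cj_sup t _ _).trans (congrArg₂ _ (h.cjs_map _) (h.symm.cjs_map _))
  have n2 := h.symm.nB (by rwa [two_comm]) ho
  have c2 : ∀ A : Subgroup X, (PP X).map e₁ ≤ Cs (A.map e₂) := fun A =>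
    (map_le_range _ _).trans (h.le_Cs'.trans (Cs_range_le _))
  have a2 : (PP X).map e₁ ≤ Cs ((QQ X).map e₂ ⊔ (ZZ X).map e₁) := (le_inf (c2 _) (by
    rintro _ ⟨p, hp, rfl⟩; exact map_mem_Cs (PP_le_Cs hp))).trans (centralizer_sup _ _).ge
  have k := h.tr_le FP.pfP FP.ivP (h.nB h1 ho) (t1 ▸ n2) (le_normalizer_sup (by
    rintro _ ⟨p, hp, rfl⟩; exact map_mem_Ns (PP_le_Ns_QQ hp)) ((c2 _).trans (H64.SG.Cs_le_Ns _)))
    (t1 ▸ a2) (by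
      rw [t1, ← centralizer_sup]
      exact (centralizer_anti ((h.map_le _).trans (sup_le_sup le_sup_left le_sup_left))).trans cu)
  have k1 : (PP X).map (cje m e₁) ≤ Cs ((QQ X).map e₂ ⊔ (ZZ X).map e₁) := by
    rintro _ ⟨p, hp, rfl⟩
    exact conj_mem_of_mem_normalizer (normalizer_le_normalizer_centralizer _ n2) (a2 ⟨p, hp, rfl⟩)
  have k2 : (PP X).map (cje m e₁) ≤ ⁅(PP X).map (cje m e₁), (PP X).map (cje m e₁)⁆ := by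
    rw [← map_commutator]; exact map_mono FP.pfP
  have k3 : ∀ g ∈ (PP X).map (cje m e₁), ∃ a b, ∃ z ∈ ZZ X, b * z⁻¹ ∈ center X ∧ g = e₁ a * e₂ b :=
    fun g hg => by
      obtain ⟨a, b, rfl⟩ := h.mem_G12.1 (k hg)
      obtain ⟨z, z1, z2⟩ := exists_of_Cs_Qk rg1 (g := b) fun u hu => (mul_inv_eq_iff_eq_mul.1
        ((h.ind₂ a b).fix h.ker₂ isP_QQ (centralizer_anti le_sup_left (k1 hg)) u hu)).symm
      exact ⟨a, b, z, z1, z2, rfl⟩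
  refine mem_normalizer_of_cj_le ((map_cje (g := m) (e := e₁) _).ge.trans (np h.ker
    (k2.trans (commutator_le.2 fun g hg g' hg' => ?_)) k2 x_mem x0_ne fun g hg =>
      mem_Cz.2 (k1 hg _ (mem_sup_right ⟨_, x_mem, rfl⟩))))
  obtain ⟨a, b, z, z1, z2, rfl⟩ := k3 g hg
  obtain ⟨a', b', z', z3, z4, rfl⟩ := k3 g' hg'
  have k4 : b * b' = b' * b := by
    rw [← inv_mul_cancel_right b z, ← inv_mul_cancel_right b' z']
    exact ((show Commute _ _ from mem_center_iff.1 z4 _).mul_right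
      (show Commute _ _ from (mem_center_iff.1 z2 _).symm)).mul_left
      ((show Commute _ _ from mem_center_iff.1 z4 _).mul_right (Mk_le_Cs rg1 z3 z z1))
  exact ⟨cm a a', by
    rw [← mul_one (e₁ _), ← map_one e₂, ← cm_eq_one.2 k4, ← h.cm2]; rfl⟩

end HB

theorem jobNQ : JobNQ.{u} := by
  intro X _ _ _ _ G _ _ e t e₁ e₂ _ c w
  have h := hb_of c w
  have hG : G12 e₂ e₁ = G12 e₁ e₂ := G12_comm
  refine jobK11 h.uf (IsConj.refl t) h.uf.mem _ (h.t_mem_Ns h.tt _) fun m h1 ho => ?_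
  have k1 := h.nP h1 ho (w.cu 1 rg1)
  have k2 := h.symm.nP (by rwa [two_comm]) ho (hG ▸ w.cu 1 rg1)
  obtain ⟨p₁, p1, p2⟩ := exP h.ker k1
  obtain ⟨p₂, p3, p4⟩ := exP h.ker₂ k2
  have c1 : ∀ A : Subgroup X, e₁ p₁ ∈ Ns (A.map e₂) := fun A =>
    H64.SG.Cs_le_Ns _ (Cs_range_le _ (h.le_Cs' ⟨_, rfl⟩))
  have c2 : ∀ A : Subgroup X, e₂ p₂ ∈ Ns (A.map e₁) := fun A =>
    H64.SG.Cs_le_Ns _ (Cs_range_le _ (h.le_Cs ⟨_, rfl⟩))
  have e0 : e₁ p₁ * (e₂ p₂ * m) = e₂ p₂ * (e₁ p₁ * m) := by rw [← mul_assoc, h.comm, mul_assoc]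
  have n1 : e₁ p₁ * (e₂ p₂ * m) ∈ Ns ((Qk X 2).map e₁) := e0 ▸ mul_mem (c2 _) p2
  have n2 : e₁ p₁ * (e₂ p₂ * m) ∈ Ns ((Qk X 2).map e₂) := mul_mem (c1 _) p4
  have k3 : e₁ p₁ * (e₂ p₂ * m) ∈ Ns (G12 e₁ e₂) := mem_normalizer_of_cj_le (by
    rw [cj_sup]
    exact sup_le (h.fin (w.cu 2 rg2) n1 n2 (mul_mem (le_normalizer ⟨_, p1, rfl⟩) (mul_mem (c2 _) k1)))
      ((h.symm.fin (hG ▸ w.cu 2 rg2) n2 n1 (mul_mem (c1 _) (mul_mem (le_normalizer ⟨_, p3, rfl⟩)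
        k2))).trans hG.le))
  exact (mul_mem_cancel_left (h.G12_mem.2 p₂)).1 ((mul_mem_cancel_left (h.G12_mem.1 p₁)).1 k3)

end H66.GAK
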