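import Cfsg.Agent.H7.HKSSpec
import Cfsg.Agent.H7.SylowIn

/-! Split rank one groups: fixed points of involutions (job `Bnd` of blueprint `HKS2.md`). -/

set_option autoImplicit false

namespace H66.HKS

open MulAction Cfsg Subgroup H89.K H65 H7.HKS
open scoped Pointwise commutatorElement

universe u

section field

variable {F : Type*} [Field F]

theorem two_ne_zero_of_odd [Fintype F] (h : Odd (Fintype.card F)) : (2 : F) ≠ 0 :=
  Ring.two_ne_zero fun e => by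
    have := FiniteField.even_card_iff_char_two.1 e
    obtain ⟨k, hk⟩ := h
    omega

theorem card_split (h2 : (2 : F) ≠ 0) {l : F} {σ : F ≃+* F} (hτ : ∀ c, l * σ (l * σ c) = c) :
    Nat.card F = Nat.card {c // l * σ c = c} * Nat.card {c // l * σ c = -c} := by
  rw [← Nat.card_prod]
  refine (Nat.card_eq_of_bijective (fun z : {c // l * σ c = c} × {c // l * σ c = -c} =>
    z.1.1 + z.2.1) ⟨?_, fun c => ?_⟩).symm
  · rintro ⟨⟨a, ha⟩, ⟨b, hb⟩⟩ ⟨⟨c, hc⟩, ⟨d, hd⟩⟩ e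
    change a + b = c + d at e
    have e2 := congrArg (fun z => l * σ z) e
    simp only [map_add, mul_add, ha, hb, hc, hd] at e2
    have h1 : a = c := mul_left_cancel₀ h2 (by linear_combination e + e2)
    have h3 : b = d := mul_left_cancel₀ h2 (by linear_combination e - e2)
    subst h1 h3
    rfl
  · have h3 : σ 2 = 2 := map_ofNat σ 2
    refine ⟨⟨⟨(c + l * σ c) / 2, ?_⟩, ⟨(c - l * σ c) / 2, ?_⟩⟩, ?_⟩
    · rw [map_div₀, h3, map_add, ← mul_div_assoc, mul_add, hτ, add_comm]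
    · rw [map_div₀, h3, map_sub, ← mul_div_assoc, mul_sub, hτ, ← neg_div, neg_sub]
    · change (c + l * σ c) / 2 + (c - l * σ c) / 2 = c
      field_simp
      ring

theorem card_pm {l : F} {σ : F ≃+* F} {c e : F} (hc : c ≠ 0) (he : e ≠ 0) (h1 : l * σ c = c)
    (h3 : l * σ e = -e) : Nat.card {c // l * σ c = -c} = Nat.card {c // l * σ c = c} := by
  have hk : σ (c / e) = -(c / e) := by
    have hl : l ≠ 0 := left_ne_zero_of_mul (h1.symm ▸ hc)
    rw [map_div₀, ← mul_div_mul_left _ _ hl, h1, h3, div_neg]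
  have hk0 : c / e ≠ 0 := div_ne_zero hc he
  refine Nat.card_congr ((Equiv.mulRight₀ (c / e) hk0).subtypeEquiv fun z => ?_)
  change _ ↔ l * σ (z * (c / e)) = z * (c / e)
  rw [map_mul, hk, ← mul_assoc, mul_neg, ← neg_mul, mul_left_inj' hk0, neg_eq_iff_eq_neg]

theorem card_le_sq [Finite F] (h2 : (2 : F) ≠ 0) {l : F} {σ : F ≃+* F}
    (hτ : ∀ c, l * σ (l * σ c) = c) {c : F} (hc : c ≠ 0) (h1 : l * σ c = c) :
    Nat.card F ≤ Nat.card {c // l * σ c = c} ^ 2 := by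
  rw [card_split h2 hτ, sq]
  refine Nat.mul_le_mul_left _ ?_
  by_cases h : ∃ e, e ≠ 0 ∧ l * σ e = -e
  · obtain ⟨e, he, h3⟩ := h
    exact (card_pm hc he h1 h3).le
  · push Not at h
    refine Nat.card_le_card_of_injective (fun _ => ⟨c, h1⟩) fun a b _ => Subtype.ext ?_
    rw [of_not_not fun e => h a e a.2, of_not_not fun e => h b e b.2]

theorem pm_of_not_sq (h2 : (2 : F) ≠ 0) (hn : ¬ IsSquare (Nat.card F)) {l : F} {σ : F ≃+* F}
    (hτ : ∀ c, l * σ (l * σ c) = c) : (∀ c, l * σ c = c) ∨ ∀ c, l * σ c = -c := by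
  have h1 : l * σ l = 1 := by simpa using hτ 1
  have hσ : ∀ c, 1 * σ (1 * σ c) = c := fun c => by
    have := hτ c
    rw [map_mul, ← mul_assoc, h1] at this
    rwa [one_mul (σ c)]
  have h3 : ∀ c, σ c = c := fun c => by
    by_contra e
    refine hn ⟨_, (card_split h2 hσ).trans (congrArg _ (card_pm (c := 1) (e := c - σ c)
      one_ne_zero (sub_ne_zero.2 (Ne.symm e)) (by simp) ?_))⟩
    have := hσ c
    rw [one_mul, one_mul] at this
    rw [one_mul, map_sub, this, neg_sub]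
  rw [h3] at h1
  rcases mul_self_eq_one_iff.1 h1 with rfl | rfl
  · exact Or.inl fun c => by rw [h3, one_mul]
  · exact Or.inr fun c => by rw [h3, neg_one_mul]

end field

section grp

variable {G : Type*} [Group G]

theorem zpowers_invol {v z : G} (hv : v * v = 1) (hz : z ∈ zpowers v) : z = 1 ∨ z = v := by
  obtain ⟨k, rfl⟩ := hz
  have h2 : v ^ (2 : ℤ) = 1 := by rw [zpow_two, hv]
  obtain ⟨m, rfl | rfl⟩ := Int.even_or_odd' k
  · left; simp only [zpow_mul, h2, one_zpow]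
  · right; simp only [zpow_add, zpow_mul, h2, one_zpow, one_mul, zpow_one]

theorem three_le_card [Finite G] {H : Subgroup G} {c w : G} (hc : c ∈ H) (hw : w ∈ H) (h1 : c ≠ 1)
    (h2 : w ≠ 1) (h3 : c ≠ w) : 3 ≤ Nat.card H := by
  have := Fintype.ofFinite H
  rw [Nat.card_eq_fintype_card]
  exact Fintype.two_lt_card_iff.2 ⟨1, ⟨c, hc⟩, ⟨w, hw⟩, fun e => h1 (congrArg Subtype.val e).symm,
    fun e => h2 (congrArg Subtype.val e).symm, fun e => h3 (congrArg Subtype.val e)⟩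

theorem pgroup_zpowers {x : G} {k : ℕ} (h : x ^ 2 ^ k = 1) : IsPGroup 2 (zpowers x) :=
  IsPGroup.of_card_dvd_pow (n := k) (by rw [Nat.card_zpowers]; exact orderOf_dvd_of_pow_eq_one h)

/-- In a group of odd order with an involutory automorphism every element is the product of a
fixed and an inverted element. -/
theorem exists_fix_inv [Finite G] {W : Subgroup G} (ho : Odd (Nat.card W)) {t : G}
    (ht : t * t = 1) (hn : ∀ u ∈ W, t * u * t⁻¹ ∈ W) {u : G} (hu : u ∈ W) :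
    ∃ s ∈ W, t * s * t⁻¹ = s⁻¹ ∧ t * (u * s) * t⁻¹ = u * s := by
  obtain ⟨k, hk⟩ := ho
  have hy : u⁻¹ * (t * u * t⁻¹) ∈ W := mul_mem (inv_mem hu) (hn u hu)
  have ht' : t⁻¹ = t := inv_eq_of_mul_eq_one_right ht
  have h1 : t * (u⁻¹ * (t * u * t⁻¹)) * t⁻¹ = (u⁻¹ * (t * u * t⁻¹))⁻¹ := by
    simp only [mul_inv_rev, inv_inv, ht']
    calc _ = t * u⁻¹ * t * u * (t * t) := by group
      _ = _ := by rw [ht]; group
  generalize hy' : u⁻¹ * (t * u * t⁻¹) = y at hy h1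
  have h2 : y ^ (2 * k + 1) = 1 := hk ▸ congrArg Subtype.val (pow_card_eq_one' (x := (⟨y, hy⟩ : W)))
  have h3 : t * y ^ (k + 1) * t⁻¹ = (y ^ (k + 1))⁻¹ := by rw [← conj_pow, h1, inv_pow]
  refine ⟨y ^ (k + 1), pow_mem hy _, h3, ?_⟩
  have h4 : t * u * t⁻¹ = u * y := by rw [← hy']; group
  have h5 : y = y ^ (k + 1) * y ^ (k + 1) := by
    rw [← pow_add, show k + 1 + (k + 1) = 2 * k + 1 + 1 by ring, pow_succ, h2, one_mul]
  calc _ = t * u * t⁻¹ * (t * y ^ (k + 1) * t⁻¹) := by group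
    _ = _ := by rw [h4, h3, mul_assoc, mul_inv_eq_iff_eq_mul.2 h5]

/-- The fusion argument for Sylow subgroups of order eight. -/
theorem no_outer [Finite G] {L E : Subgroup G} [L.Normal] (hEL : E ≤ L) (h8 : Nat.card E = 8)
    (hE : ∀ e ∈ E, e * e = 1) (ho : Odd (E.relIndex L)) {v w c d g : G} (hv : v * v = 1)
    (hw : w ≠ 1) (hc : c ≠ 1) (hcw : c ≠ w) (hcL : c ∈ L) (hdL : d ∈ L) (hg : g ∈ L)
    (hgw : g * w * g⁻¹ = c) (hvw : v * w = w * v) (hdw : d * w = w * d) (hc2 : c * c = 1)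
    (hd : d * d = 1) (hvc : v * c * v⁻¹ = c⁻¹) (hvd : v * d * v⁻¹ = d * c) : False := by
  have : Fact (Nat.Prime 2) := ⟨Nat.prime_two⟩
  have hS : H7.IsSylowIn 2 E L := ⟨hEL, IsPGroup.of_card (n := 3) h8,
    fun e => Nat.not_even_iff_odd.2 ho (even_iff_two_dvd.2 e)⟩
  have hv' : v⁻¹ = v := inv_eq_of_mul_eq_one_right hv
  have hy : d * v * (d * v) = c := by
    calc _ = d * (v * d * v⁻¹) := by rw [hv']; group
      _ = _ := by rw [hvd, ← mul_assoc, hd, one_mul]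
  have h4 : (d * v) ^ 2 ^ 2 = 1 := by
    rw [show 2 ^ 2 = 2 * 2 from rfl, pow_mul, sq (d * v), hy, sq, hc2]
  have hD : IsPGroup 2 ↥(zpowers (d * v) ⊔ zpowers v) := by
    rw [sup_comm]
    refine (pgroup_zpowers (k := 1) (by rw [pow_one, sq, hv])).to_sup_of_normal_right'
      (pgroup_zpowers h4) (zpowers_le.2 (H7.mem_normalizer_of_forall ?_))
    rintro _ ⟨k, rfl⟩
    have : v * (d * v) * v⁻¹ = (d * v)⁻¹ := by
      rw [mul_inv_rev, inv_eq_of_mul_eq_one_right hd, hv']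
      calc _ = v * d * (v * v) := by group
        _ = _ := by rw [hv, mul_one]
    change v * (d * v) ^ k * v⁻¹ ∈ _
    rw [← conj_zpow, this]
    exact zpow_mem (inv_mem (mem_zpowers _)) k
  let C : Subgroup G := (L ⊔ zpowers v) ⊓ centralizer {w}
  have hvC : v ∈ C := ⟨mem_sup_right (mem_zpowers v), mem_centralizer_singleton_iff.2 hvw⟩
  have hdC : d ∈ C := ⟨mem_sup_left hdL, mem_centralizer_singleton_iff.2 hdw⟩
  obtain ⟨P, hP, hDP⟩ := H7.exists_isSylowIn_ge hD (H := C)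
    (sup_le (zpowers_le.2 (mul_mem hdC hvC)) (zpowers_le.2 hvC))
  have hvP : v ∈ P := hDP (mem_sup_right (mem_zpowers v))
  have hyP : d * v ∈ P := hDP (mem_sup_left (mem_zpowers _))
  have hdP : d ∈ P := by simpa using mul_mem hyP (inv_mem hvP)
  have hcP : c ∈ P := hy ▸ mul_mem hyP hyP
  have hy1 : g⁻¹ * (d * v) * g * (g⁻¹ * (d * v) * g) = w := by
    calc _ = g⁻¹ * (d * v * (d * v)) * g := by group
      _ = _ := by rw [hy, ← hgw]; group
  have hy2 : g⁻¹ * (d * v) * g ∈ C := ⟨mul_mem (mul_mem (mem_sup_left (inv_mem hg))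
    (mul_mem hdC hvC).1) (mem_sup_left hg), mem_centralizer_singleton_iff.2 (by
      rw [← hy1]; group)⟩
  obtain ⟨k, hk, hk'⟩ := hP.exists_conj_le (pgroup_zpowers (x := g⁻¹ * (d * v) * g) (k := 2) (by
    have := conj_pow (a := g⁻¹) (b := d * v) (i := 2 ^ 2)
    rwa [h4, inv_inv, mul_one, inv_mul_cancel] at this)) (zpowers_le.2 hy2)
  have hzP := H7.conj_smul_le_iff.1 hk' _ (mem_zpowers _)
  have hz : k * (g⁻¹ * (d * v) * g) * k⁻¹ * (k * (g⁻¹ * (d * v) * g) * k⁻¹) = w := by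
    rw [conj_mul, hy1, mem_centralizer_singleton_iff.1 hk.2, mul_inv_cancel_right]
  generalize k * (g⁻¹ * (d * v) * g) * k⁻¹ = z at hz hzP
  have hwP : w ∈ P := hz ▸ mul_mem hzP hzP
  have hwL : w ∈ L := by
    have := ‹L.Normal›.conj_mem c hcL g⁻¹
    rwa [← hgw, show g⁻¹ * (g * w * g⁻¹) * g⁻¹⁻¹ = w by group] at this
  have hQ : IsPGroup 2 ↥(P ⊓ L) := hP.isPGroup.to_le inf_le_left
  have hQ8 : Nat.card ↥(P ⊓ L) ≤ 8 := h8 ▸ hS.card_le hQ inf_le_right
  have hQ2 : ∀ x ∈ P ⊓ L, x * x = 1 := by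
    obtain ⟨j, -, hj⟩ := hS.exists_conj_le hQ inf_le_right
    intro x hx
    have := hE _ (H7.conj_smul_le_iff.1 hj x hx)
    rwa [conj_mul, conj_eq_one_iff] at this
  have hQc : ∀ x ∈ P ⊓ L, ∀ y ∈ P ⊓ L, x * y = y * x := fun x hx y hy => by
    rw [← inv_eq_of_mul_eq_one_right (hQ2 _ (mul_mem hx hy)), mul_inv_rev,
      inv_eq_of_mul_eq_one_right (hQ2 x hx), inv_eq_of_mul_eq_one_right (hQ2 y hy)]
  have hQv : ∀ x ∈ P ⊓ L, v * x * v⁻¹ ∈ P ⊓ L := fun x hx =>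
    ⟨P.mul_mem (P.mul_mem hvP hx.1) (P.inv_mem hvP), ‹L.Normal›.conj_mem x hx.2 v⟩
  have hzL : z * v ∈ L := by
    obtain ⟨n, hn, y, hy, rfl⟩ := (H7.mem_sup_iff_of_le_normalizer
      (le_normalizer_of_normal : zpowers v ≤ _)).1 (hP.le hzP).1
    rcases zpowers_invol hv hy with rfl | rfl
    · rw [mul_one] at hz hzP
      exact absurd (hz.symm.trans (hQ2 n ⟨hzP, hn⟩)) hw
    · rwa [mul_assoc, hv, mul_one]
  let f : ↥(P ⊓ L) →* G := MonoidHom.mk' (fun x => x * (v * x * v⁻¹)) fun x y => by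
    have := hQc _ y.2 _ (hQv _ x.2)
    rw [coe_mul, ← conj_mul]
    calc _ = x * (y * (v * x * v⁻¹)) * (v * y * v⁻¹) := by group
      _ = _ := by rw [this]; group
  have h1 : 3 ≤ Nat.card f.range := by
    refine three_le_card ⟨⟨d, hdP, hdL⟩, ?_⟩ ⟨⟨z * v, mul_mem hzP hvP, hzL⟩, ?_⟩ hc hw hcw
    · change d * (v * d * v⁻¹) = c
      rw [hvd, ← mul_assoc, hd, one_mul]
    · change z * v * (v * (z * v) * v⁻¹) = w
      calc _ = z * (v * v) * z := by group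
        _ = _ := by rw [hv, mul_one, hz]
  have h2 : 3 ≤ Nat.card f.ker := by
    refine three_le_card (c := ⟨c, hcP, hcL⟩) (w := ⟨w, hwP, hwL⟩) ?_ ?_
      (fun e => hc (congrArg Subtype.val e)) (fun e => hw (congrArg Subtype.val e))
      fun e => hcw (congrArg Subtype.val e)
    · change c * (v * c * v⁻¹) = 1
      rw [hvc, mul_inv_cancel]
    · change w * (v * w * v⁻¹) = 1
      rw [hvw, mul_inv_cancel_right]
      exact hQ2 w ⟨hwP, hwL⟩
  have h3 := f.ker.card_mul_index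
  rw [index_ker] at h3
  nlinarith

/-- The count for special groups of order `q³`. -/
theorem card_le_special [Finite G] {W Z C : Subgroup G} {q : ℕ} (hZ : Z = W ⊓ centralizer W)
    (hq : Nat.card Z = q) (hc : ∀ u ∈ W, ∀ w ∈ W, u * w * u⁻¹ * w⁻¹ ∈ Z)
    (hz : ∀ u ∈ W, u ∉ Z → Nat.card ↥(W ⊓ centralizer {u}) = q ^ 2) (hC : C ≤ W) :
    Nat.card C ≤ Nat.card ↥(Z ⊓ C) ^ 2 * q := by
  have hq0 : 0 < q := hq ▸ Nat.card_pos
  have hm : 0 < Nat.card ↥(Z ⊓ C) := Nat.card_pos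
  by_cases h : C ≤ Z
  · rw [inf_of_le_right h] at hm ⊢
    nlinarith [Nat.mul_le_mul_left (Nat.card C ^ 2) hq0]
  obtain ⟨u, huC, huZ⟩ := SetLike.not_le_iff_exists.1 h
  have hu := hC huC
  let f : C →* G := MonoidHom.mk' (fun w => u * w * u⁻¹ * (w : G)⁻¹) fun x y => by
    have := (hZ.le (hc u hu y (hC y.2))).2 x (hC x.2)
    rw [coe_mul]
    calc _ = u * x * u⁻¹ * (u * y * u⁻¹ * (y : G)⁻¹) * (x : G)⁻¹ := by group
      _ = u * x * u⁻¹ * (x : G)⁻¹ * (x * (u * y * u⁻¹ * (y : G)⁻¹)) * (x : G)⁻¹ := by group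
      _ = _ := by rw [this]; group
  have h1 : Nat.card f.range ≤ Nat.card ↥(Z ⊓ C) := card_le_of_le (by
    rintro _ ⟨w, rfl⟩
    exact ⟨hc u hu w (hC w.2),
      C.mul_mem (C.mul_mem (C.mul_mem huC w.2) (C.inv_mem huC)) (C.inv_mem w.2)⟩)
  have h2 : f.ker.map C.subtype ≤ W ⊓ centralizer {u} := by
    rintro _ ⟨w, hw, rfl⟩
    refine ⟨hC w.2, mem_centralizer_singleton_iff.2 ?_⟩
    have : u * w * u⁻¹ * (w : G)⁻¹ = 1 := hw
    rw [mul_inv_eq_one, mul_inv_eq_iff_eq_mul] at this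
    exact this.symm
  have h3 : Z ≤ W ⊓ centralizer {u} := fun z hz' =>
    ⟨(hZ.le hz').1, mem_centralizer_singleton_iff.2 ((hZ.le hz').2 u hu).symm⟩
  have h4 := H7.relIndex_mul_card h3
  rw [hz u hu huZ, hq, sq, Nat.mul_left_inj hq0.ne'] at h4
  have h5 : Z.relIndex (f.ker.map C.subtype) ≤ q :=
    h4 ▸ relIndex_le_of_le_right h2 (h4 ▸ hq0.ne')
  have h6 := H7.relIndex_mul_card (inf_le_right : Z ⊓ f.ker.map C.subtype ≤ _)
  rw [inf_relIndex_right, card_map_of_injective C.subtype_injective] at h6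
  have h7 : Nat.card ↥(Z ⊓ f.ker.map C.subtype) ≤ Nat.card ↥(Z ⊓ C) :=
    card_le_of_le (inf_le_inf_left _ (map_subtype_le _))
  have h8 := f.ker.card_mul_index
  rw [index_ker] at h8
  calc Nat.card C = _ := h8.symm
    _ ≤ q * Nat.card ↥(Z ⊓ C) * Nat.card ↥(Z ⊓ C) :=
      Nat.mul_le_mul (h6 ▸ Nat.mul_le_mul h5 h7) h1
    _ = _ := by ring

end grp

variable {G Ω : Type u} [Group G] [Finite G] [MulAction G Ω] {U : Ω → Subgroup G} {a b : Ω} {v : G}

omit [Finite G] [MulAction G Ω] in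
theorem CU_empty (c : Ω) : CU U ∅ c = U c :=
  inf_of_le_left fun _ _ _ h => h.elim

theorem mem_norm_CU (h : Sp U) {X : Set G} {c : Ω} (hv : v • c = c) (hX : v ∈ centralizer X) :
    v ∈ normalizer (CU U X c : Set G) :=
  H7.mem_normalizer_of_forall fun x hx => ⟨by simpa [hv] using h.conj v c x hx.1,
    (centralizer X).mul_mem ((centralizer X).mul_mem hX hx.2) ((centralizer X).inv_mem hX)⟩

theorem mem_norm_ZU (h : Sp U) {X : Set G} {c : Ω} (hv : v • c = c) (hX : v ∈ centralizer X) :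
    v ∈ normalizer (ZU U X c : Set G) :=
  H7.mem_normalizer_of_forall fun _ hx => ⟨H7.conj_mem_of_mem_normalizer (mem_norm_CU h hv hX) hx.1,
    H7.conj_mem_of_mem_normalizer
      (H7.normalizer_le_normalizer_centralizer _ (mem_norm_CU h hv hX)) hx.2⟩

omit [Finite G] [MulAction G Ω] in
theorem tau_tau {F : Type} [Field F] {x : F → G} (hx : Function.Injective x) (h2 : v * v = 1)
    {l : F} {σ : F ≃+* F} (h : ∀ c, v * x c * v⁻¹ = x (l * σ c)) (c : F) :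
    l * σ (l * σ c) = c := by
  apply hx
  rw [← h, ← h, ← conj_mul_aux h2]
where
  conj_mul_aux {v z : G} (h2 : v * v = 1) : z = v * (v * z * v⁻¹) * v⁻¹ := by
    calc z = v * v * z * (v * v)⁻¹ := by rw [h2]; group
      _ = _ := by group

theorem bnd_A (k2 : Kit2.{u}) (h : Rg U) (hab : a ≠ b) (hT : TA U ∅ a) (hv : v ∈ St G a b)
    (h2 : v * v = 1) (hr : 2 ≤ Nat.card (CU U {v} a)) :
    Nat.card (U a) ≤ Nat.card (CU U {v} a) ^ 3 := by
  obtain ⟨-, E, hE⟩ := hT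
  have := (((k2.aa h hab (Set.empty_subset _) hE).2.2.2.2 v hv fun _ h => h.elim).2.2 h2 _ rfl).1
  rw [insert_empty_eq, CU_empty] at this
  generalize Nat.card (CU U {v} a) = r at this hr
  rcases this with e | e <;> rw [e]
  · exact Nat.le_self_pow three_ne_zero r
  · calc r * (r + 2) ≤ r * (r * r) := Nat.mul_le_mul_left _ (by nlinarith)
      _ = _ := by ring

theorem bnd_L (k2 : Kit2.{u}) (h : Rg U) (hab : a ≠ b) (hT : TL U ∅ a b) (hv : v ∈ St G a b)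
    (h2 : v * v = 1) (hr : CU U {v} a ≠ ⊥) : Nat.card (U a) ≤ Nat.card (CU U {v} a) ^ 3 := by
  obtain ⟨F, _, _, x, y, H⟩ := hT
  obtain ⟨ho, hc, -⟩ := k2.bas h.sr hab inf_le_left inf_le_left H
  obtain ⟨l, σ, -, hx, -⟩ := k2.semi h.sr hab inf_le_left inf_le_left H v hv
    (mem_norm_CU h.toSp hv.1 fun _ h => h.elim) (mem_norm_CU h.toSp hv.2 fun _ h => h.elim)
  change Nat.card (CU U ∅ a) = _ at hc
  rw [CU_empty] at hc
  rw [CU_empty] at H
  obtain ⟨⟨u, hu⟩, hu1⟩ := ne_bot_iff_exists_ne_one.1 hr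
  obtain ⟨c, rfl⟩ := (H.rx u).1 hu.1
  have hc0 : c ≠ 0 := by
    rintro rfl
    exact hu1 (Subtype.ext H.rel.x_zero)
  have h3 := card_le_sq (two_ne_zero_of_odd ho) (tau_tau H.inj h2 hx) hc0 (H.inj (by
    rw [← hx, ← mem_centralizer_singleton_iff.1 hu.2, mul_inv_cancel_right]))
  have h4 : Nat.card {c // l * σ c = c} ≤ Nat.card (CU U {v} a) :=
    Nat.card_le_card_of_injective (fun e => ⟨x e.1, (H.rx _).2 ⟨_, rfl⟩,
      mem_centralizer_singleton_iff.2 (by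
        rw [← mul_inv_eq_iff_eq_mul.1 ((hx e).trans (congrArg x e.2))])⟩)
      fun e e' he => Subtype.ext (H.inj (congrArg Subtype.val he))
  rw [Nat.card_eq_fintype_card, ← hc] at h3
  exact h3.trans ((Nat.pow_le_pow_left h4 2).trans (Nat.pow_le_pow_right Nat.card_pos (by omega)))

theorem bnd_U (k1 : Kit1.{u}) (k2 : Kit2.{u}) (h : Rg U) (hab : a ≠ b) (hT : TU U ∅ a b)
    (hv : v ∈ St G a b) (h2 : v * v = 1) : Nat.card (U a) ≤ Nat.card (CU U {v} a) ^ 3 := by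
  obtain ⟨F, _, _, x, y, H, h3, hζ, hz⟩ := hT
  have hA : ∀ c, ZU U ∅ c ≤ U c := fun c => inf_le_left.trans inf_le_left
  obtain ⟨-, hc, -, hh, -⟩ := k2.bas h.sr hab (hA a) (hA b) H
  obtain ⟨l, σ, -, -, -, -, hx⟩ := k2.semi h.sr hab (hA a) (hA b) H v hv
    (mem_norm_ZU h.toSp hv.1 fun _ h => h.elim) (mem_norm_ZU h.toSp hv.2 fun _ h => h.elim)
  have hm : (-1 : F) ≠ 0 := neg_ne_zero.2 one_ne_zero
  have e1 := hx _ hm
  have e2 := H.rel.h_mul' hm hm
  have e3 := hh _ hm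
  rw [map_neg, map_one, mul_inv_eq_iff_eq_mul] at e1
  rw [neg_mul_neg, one_mul, H.rel.h_one] at e2
  clear hh hx
  generalize sl2h x y (-1) = ζ at *
  clear H
  unfold ZU at *
  rw [CU_empty] at h3 hζ hz hc
  have hn : ∀ g : G, g • a = a → ∀ u ∈ U a, g * u * g⁻¹ ∈ U a := fun g hg u hu => by
    simpa [hg] using h.conj g a u hu
  have hw := (k1.wie (U a) ζ v (h.odd a) (H7.mem_normalizer_of_forall (hn _ e3.1))
    (H7.mem_normalizer_of_forall (hn _ hv.1)) e2 h2 e1.symm).1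
  set Z := U a ⊓ centralizer (U a : Set G) with hZ
  have hZζ : ∀ z ∈ Z, z * ζ = ζ * z := fun z hz' =>
    mem_centralizer_singleton_iff.1 (hζ.ge hz').2
  have h4 : ∀ u ∈ U a, ζ * u * ζ⁻¹ * u ∈ Z := fun u hu => by
    obtain ⟨s, hs, h5, h6⟩ := exists_fix_inv (h.odd a) e2 (hn _ e3.1) hu
    have h7 : u * s ∈ Z := hζ.le ⟨mul_mem hu hs,
      mem_centralizer_singleton_iff.2 (mul_inv_eq_iff_eq_mul.1 h6).symm⟩
    have h8 := h7.2 s hs
    have : ζ * u * ζ⁻¹ * u = u * s * (u * s) := by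
      calc _ = ζ * (u * s) * ζ⁻¹ * (ζ * s * ζ⁻¹)⁻¹ * u := by group
        _ = u * s * (s * (u * s)) * s⁻¹ := by rw [h5, h6]; group
        _ = _ := by rw [h8]; group
    exact this ▸ mul_mem h7 h7
  have h5 : ∀ u ∈ U a, ∀ w ∈ U a, u * w * u⁻¹ * w⁻¹ ∈ Z := fun u hu w hw' => by
    have a1 := h4 _ (inv_mem hu)
    have a2 := h4 _ (inv_mem hw')
    have a3 := h4 _ (mul_mem (inv_mem hu) (inv_mem hw'))
    have a4 := a2.2 u hu
    have : u * w * u⁻¹ * w⁻¹ = (ζ * w⁻¹ * ζ⁻¹ * w⁻¹)⁻¹ * (ζ * u⁻¹ * ζ⁻¹ * u⁻¹)⁻¹ *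
        (ζ * (u⁻¹ * w⁻¹) * ζ⁻¹ * (u⁻¹ * w⁻¹)) := by
      calc _ = (ζ * w⁻¹ * ζ⁻¹ * w⁻¹)⁻¹ * (ζ * w⁻¹ * ζ⁻¹ * w⁻¹ * u) * w * u⁻¹ * w⁻¹ := by group
        _ = _ := by rw [← a4]; group
    exact this ▸ mul_mem (mul_mem (inv_mem a2) (inv_mem a1)) a3
  have h6 := card_le_special hZ hc h5 hz (inf_le_left : U a ⊓ centralizer {ζ * v} ≤ _)
  have h7 : Z ⊓ (U a ⊓ centralizer {ζ * v}) ≤ U a ⊓ centralizer {ζ, v} := by
    rintro z ⟨hz1, hz2, hz3⟩
    have b1 := hZζ z hz1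
    have b2 := mem_centralizer_singleton_iff.1 hz3
    refine ⟨hz2, ?_⟩
    rintro _ (rfl | rfl)
    · exact b1.symm
    · rw [← mul_assoc, b1, mul_assoc, mul_assoc, mul_right_inj] at b2
      exact b2.symm
  have h8 := h6.trans (Nat.mul_le_mul_right _ (Nat.pow_le_pow_left (card_le_of_le h7) 2))
  rw [hζ, hc, h3] at hw
  rw [h3]
  refine Nat.pow_le_pow_left ?_ 3
  have hq : 0 < Fintype.card F := Fintype.card_pos
  have hm0 : 0 < Nat.card ↥(U a ⊓ centralizer {ζ, v}) := Nat.card_pos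
  refine Nat.le_of_mul_le_mul_right (c := Fintype.card F ^ 2 *
    Nat.card ↥(U a ⊓ centralizer {ζ, v}) ^ 2) ?_ (by positivity)
  calc _ = Fintype.card F ^ 3 * Nat.card ↥(U a ⊓ centralizer {ζ, v}) ^ 2 := by ring
    _ ≤ _ := hw.le.trans (Nat.mul_le_mul_left _ h8)
    _ = _ := by ring

/-- The fixed points of the involution of type R carry data of type L. -/
theorem tl_of_RD (k2 : Kit2.{u}) (h : Rg U) (hL : Loc U) (hab : a ≠ b) {q : ℕ} {w : G}
    (H : RD U ∅ a b q w) : Nat.card (CU U {w} a) = q ∧ TL U {w} a b := by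
  have hc := H.cardw
  have hm := H.comm
  have he := H.exp
  rw [CU_empty] at hc hm he
  obtain ⟨f, hf⟩ := H.pow
  have h3 : 3 ≤ q := hf ▸ Nat.le_self_pow (by omega) 3
  have hw : w ≠ 1 := fun e => by simpa [e] using H.ord
  refine ⟨hc, ?_⟩
  rcases hL {w} a b hab (Set.singleton_subset_iff.2 H.st) ⟨w, rfl, hw⟩
    (fun e => by rw [show U a ⊓ centralizer {w} = ⊥ from e, card_bot] at hc; omega) with
    ⟨h7, E, hE⟩ | hT | ⟨F, _, _, x, y, H', h4, -⟩ | ⟨q', w', H'⟩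
  · have := hE.cyc
    have h5 : Monoid.exponent (CU U {w} a) ∣ 3 :=
      Monoid.exponent_dvd_of_forall_pow_eq_one fun g => Subtype.ext (he g g.2)
    rw [IsCyclic.exponent_eq_card] at h5
    have := Nat.le_of_dvd (by norm_num) h5
    omega
  · exact hT
  · have hA : ∀ c, ZU U {w} c ≤ U c := fun c => inf_le_left.trans inf_le_left
    have h5 := (k2.bas h.sr hab (hA a) (hA b) H').2.1
    rw [show ZU U {w} a = CU U {w} a from inf_of_le_left fun g hg k hk => hm k hk g hg, h4] at h5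
    have h6 : 1 < Fintype.card F := Fintype.one_lt_card
    exact absurd h5 (Nat.lt_pow_self_aux h6)
  · have h5 := H'.der
    obtain ⟨f', hf'⟩ := H'.pow
    have h6 : 3 ≤ q' := hf' ▸ Nat.le_self_pow (by omega) 3
    rw [commutator_eq_bot_iff_le_centralizer.2 fun g hg k hk => hm k hk g hg, card_bot] at h5
    omega
where
  Nat.lt_pow_self_aux {n : ℕ} (h : 1 < n) : n ^ 3 ≠ n :=
    ((pow_one n).ge.trans_lt (Nat.pow_lt_pow_right h (by norm_num))).ne'

theorem bnd_R (k1 : Kit1.{u}) (k2 : Kit2.{u}) (h : Rg U) (hL : Loc U) (hab : a ≠ b)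
    (hT : TR U ∅ a b) (hv : v ∈ St G a b) (h2 : v * v = 1) :
    Nat.card (U a) ≤ Nat.card (CU U {v} a) ^ 3 := by
  obtain ⟨q, w, H⟩ := hT
  obtain ⟨hq, F, _, _, x, y, H'⟩ := tl_of_RD k2 h hL hab H
  have hn : (LX U ∅).Normal := normalizer_eq_top_iff.1 (eq_top_iff.2 fun g _ =>
    (k1.fx h hab (Set.empty_subset _)).2.2.2.2.1 fun _ => by simp)
  have hvw : v * w = w * v := mul_inv_eq_iff_eq_mul.1 (H.uniq _ (hn.conj_mem w H.mem v)
    (mul_mem (mul_mem hv H.st) (inv_mem hv)) (by rw [← H.ord]; exact (MulAut.conj v).orderOf_eq w))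
  have hvc := mem_centralizer_singleton_iff.2 hvw
  obtain ⟨ho, hc, -⟩ := k2.bas h.sr hab inf_le_left inf_le_left H'
  obtain ⟨l, σ, hl, hx, hy, -⟩ := k2.semi h.sr hab inf_le_left inf_le_left H' v hv
    (mem_norm_CU h.toSp hv.1 hvc) (mem_norm_CU h.toSp hv.2 hvc)
  obtain ⟨f, hf⟩ := H.pow
  have hF : Fintype.card F = 3 ^ (2 * f + 1) := hc.symm.trans (hq.trans hf)
  have hns : ¬ IsSquare (Nat.card F) := by
    rw [Nat.card_eq_fintype_card, hF]
    rintro ⟨m, hm⟩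
    have := congrArg (fun n => n.factorization 3) hm
    have hm0 : m ≠ 0 := by rintro rfl; simp at hm
    simp only [Nat.factorization_mul hm0 hm0, Nat.prime_three.factorization_pow, Finsupp.add_apply,
      Finsupp.single_eq_same] at this
    omega
  rcases pm_of_not_sq (two_ne_zero_of_odd ho) hns (tau_tau H'.inj h2 hx) with e | e
  · have h4 := H.card
    rw [CU_empty] at h4
    rw [h4, ← hq]
    refine Nat.pow_le_pow_left (card_le_of_le (le_inf inf_le_left fun g hg => ?_)) 3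
    obtain ⟨c, rfl⟩ := (H'.rx g).1 hg
    have := hx c
    rw [e, mul_inv_eq_iff_eq_mul] at this
    exact mem_centralizer_singleton_iff.2 this.symm
  exfalso
  have hl1 : l = -1 := by simpa using e 1
  have hy' : ∀ c, v * y c * v⁻¹ = y (-c) := fun c => by rw [hy, ← e c, hl1, inv_neg, inv_one]
  obtain ⟨c, d, s, -, -, -, hc1, hd1, h5, -, h6, -, -, h7⟩ :=
    k2.syl h.sr hab inf_le_left inf_le_left H' (by
      rw [hF, pow_succ, pow_mul, Nat.mul_mod, Nat.pow_mod]; norm_num)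
  obtain ⟨h8, h9⟩ := h7 v hv (fun c => by rw [hx, e]) hy'
  obtain ⟨E, hEL, hE8, hE, hEo⟩ := H.syl
  have : Fact (Nat.Prime 2) := ⟨Nat.prime_two⟩
  have hS : H7.IsSylowIn 2 E (LX U ∅) := ⟨hEL, IsPGroup.of_card (n := 3) hE8,
    fun e => Nat.not_even_iff_odd.2 hEo (even_iff_two_dvd.2 e)⟩
  have hsq : ∀ z ∈ LX U ∅, ∀ k, z ^ 2 ^ k = 1 → z * z = 1 := fun z hz k hk => by
    obtain ⟨j, -, hj⟩ := hS.exists_conj_le (pgroup_zpowers hk) (zpowers_le.2 hz)
    have := hE _ (H7.conj_smul_le_iff.1 hj z (mem_zpowers z))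
    rwa [conj_mul, conj_eq_one_iff] at this
  have hle : ∀ p, CU U {w} p ≤ LX U ∅ := fun p =>
    le_iSup₂_of_le (f := fun c (_ : c ∈ Fx Ω (∅ : Set G)) => CU U ∅ c) p (fun _ h => h.elim)
      (inf_le_left.trans (CU_empty p).ge)
  have hAB : CU U {w} a ⊔ CU U {w} b ≤ LX U ∅ := sup_le (hle a) (hle b)
  have hABw : CU U {w} a ⊔ CU U {w} b ≤ centralizer {w} := sup_le inf_le_right inf_le_right
  have hm : (-1 : F) ≠ 0 := neg_ne_zero.2 one_ne_zero
  have e2 := H'.rel.h_mul' hm hm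
  rw [neg_mul_neg, one_mul, H'.rel.h_one] at e2
  have hn4 : sl2n x y 1 ^ 2 ^ 2 = 1 := by
    rw [show 2 ^ 2 = 2 * 2 from rfl, pow_mul, sq (sl2n x y 1), H'.rel.n_one_sq, sq, e2]
  have hζ : sl2h x y (-1) = 1 :=
    H'.rel.n_one_sq ▸ hsq _ (h5 ▸ pow_mem (hAB hc1) _) _ hn4
  have hc2 : c * c = 1 := hsq c (hAB hc1) (s - 2 + 2) (by rw [pow_add, pow_mul, h5, hn4])
  have hc0 : c ≠ 1 := by
    rintro rfl
    have := (H'.sw 1 one_ne_zero).1
    rw [← h5, one_pow, one_smul] at this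
    exact hab this
  have hw : w ≠ 1 := fun e => by simpa [e] using H.ord
  have hcw : c ≠ w := by
    rintro rfl
    rcases (k2.grp h.sr hab inf_le_left inf_le_left H').2.2.1 c hc1
      (fun l hl => (mem_centralizer_singleton_iff.1 (hABw hl)).symm) with e | e
    · exact hw e
    · exact hw (e.trans hζ)
  obtain ⟨g, hg, hgw⟩ := H.one c (hAB hc1) (orderOf_eq_prime (by rw [sq, hc2]) hc0)
  exact no_outer hEL hE8 hE hEo h2 hw hc0 hcw (hAB hc1) (hAB hd1) hg hgw hvw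
    (mem_centralizer_singleton_iff.1 (hABw hd1)) hc2 (h6.trans hζ) h8 h9

theorem jobBnd (k1 : Kit1.{u}) (k2 : Kit2.{u}) : JobBnd.{u} := by
  intro G Ω _ _ _ U a b v h hL hab hT hv h2 hr
  rcases hT with hT | hT | hT | hT
  · exact bnd_A k2 h hab hT hv h2 ((one_lt_card_iff_ne_bot _).2 hr)
  · exact bnd_L k2 h hab hT hv h2 hr
  · exact bnd_U k1 k2 h hab hT hv h2
  · exact bnd_R k1 k2 h hL hab hT hv h2

end H66.HKS
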