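import Cfsg.Agent.H7.HKSSpec2
import Cfsg.Agent.H98.Coprime
import Cfsg.Agent.H1.CoprimeGen
import Cfsg.Agent.H2.MinNormal
import Cfsg.Agent.H9.OddRank
import Cfsg.Agent.H9.ClassTwo

/-! Split rank one groups, odd two-point stabiliser, root groups not of prime power order
(job `Ib` of blueprint `HKS2.md`). -/

set_option autoImplicit false

namespace H66.HKS

open MulAction Cfsg Subgroup H89.K H65 H7.HKS
open H98 (cj mem_cj conj_mem_of_mem_normalizer conj_mem_of_mem_normalizer')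
open scoped commutatorElement

universe u

section grp

variable {G : Type*} [Group G] [Finite G]

theorem le_zpowers_of_cyclic {A : Subgroup G} [IsCyclic A] {r : ℕ} (hr : r.Prime)
    (h : ∀ x ∈ A, x ^ r = 1) {z : G} (hz : z ∈ A) (h1 : z ≠ 1) : A ≤ zpowers z := by
  have : Fact r.Prime := ⟨hr⟩
  have h2 : Monoid.exponent A ∣ r :=
    Monoid.exponent_dvd_of_forall_pow_eq_one fun g => Subtype.ext (h g g.2)
  rw [IsCyclic.exponent_eq_card] at h2
  refine (eq_of_le_of_card_ge (zpowers_le.2 hz) ?_).ge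
  rw [Nat.card_zpowers, orderOf_eq_prime (h z hz) h1]
  exact Nat.le_of_dvd hr.pos h2

theorem exists_core {W : Subgroup G} (hW : Group.IsNilpotent W) {r : ℕ} (hr : ¬ IsPGroup r W) :
    ∃ p : ℕ, p.Prime ∧ p ≠ r ∧ pCoreOf p W ≠ ⊥ := by
  by_contra! h
  refine hr ((H2.pCore_isPGroup r W).of_equiv ((MulEquiv.subgroupCongr ?_).trans topEquiv))
  rw [eq_top_iff, ← H2.isNilpotent_iff_iSup_pCore_eq_top.1 hW]
  refine iSup_le fun p => ?_
  by_cases e : (p : ℕ) = r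
  · rw [e]
  · rw [H98.pCoreOf_eq_bot_iff.1 (h p p.2 e)]
    exact bot_le

omit [Finite G] in
theorem exists_sqrt {H : Subgroup G} (ho : Odd (Nat.card H)) {k : G} (hk : k ∈ H) :
    ∃ m : ℕ, k ^ m * k ^ m = k := by
  obtain ⟨j, hj⟩ := ho
  refine ⟨j + 1, ?_⟩
  have h2 : k ^ (2 * j + 1) = 1 := hj ▸ congrArg Subtype.val (pow_card_eq_one' (x := (⟨k, hk⟩ : H)))
  rw [← pow_add, show j + 1 + (j + 1) = 2 * j + 1 + 1 by ring, pow_succ, h2, one_mul]

omit [Finite G] in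
theorem eq_one_of_sq {H : Subgroup G} (ho : Odd (Nat.card H)) {k : G} (hk : k ∈ H)
    (h : k * k = 1) : k = 1 := by
  obtain ⟨m, hm⟩ := exists_sqrt ho hk
  rw [← hm, ← (Commute.refl k).mul_pow, h, one_pow]

theorem coprime_of_ne {A B : Subgroup G} {p r : ℕ} (hp : p.Prime) (hr : r.Prime) (h : p ≠ r)
    (hA : IsPGroup r A) (hB : IsPGroup p B) : (Nat.card A).Coprime (Nat.card B) :=
  have : Fact p.Prime := ⟨hp⟩
  have : Fact r.Prime := ⟨hr⟩
  IsPGroup.coprime_card_of_ne r p h.symm A B hA hB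

end grp

variable {G Ω : Type u} [Group G] [Finite G] [MulAction G Ω] {U : Ω → Subgroup G} {a b : Ω} {s : G}
  (h : CI U a b s)
include h

namespace Ib

omit [Finite G] in
theorem sinv : s⁻¹ = s := inv_eq_of_mul_eq_one_right h.sq

theorem nor_H : s ∈ normalizer (St G a b : Set G) :=
  H98.mem_normalizer_of_cj_le (by
    rintro _ ⟨x, hx, rfl⟩
    exact swap_conj_mem h.sw.1 h.sw.2 hx)

theorem nor_core (p : ℕ) : St G a b ≤ normalizer (pCoreOf p (U a) : Set G) := fun g hg =>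
  H98.normalizer_le_normalizer_pCoreOf _ (H98.mem_normalizer_of_cj_le (by
    rintro _ ⟨x, hx, rfl⟩
    simpa [(mem_St.1 hg).1] using h.conj g a x hx))

omit [Finite G] in
theorem exists_conj {k : G} (hk : k ∈ St G a b) (e : s * k * s = k⁻¹) :
    ∃ g ∈ St G a b, s * k = g⁻¹ * s * g := by
  obtain ⟨m, hm⟩ := exists_sqrt h.oddH hk
  refine ⟨k ^ m, pow_mem hk m, ?_⟩
  have h1 : s * k ^ m * s⁻¹ = (k ^ m)⁻¹ := by rw [← conj_pow, sinv h, e, inv_pow]
  rw [← h1, inv_mul_cancel_right, mul_assoc, hm]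

omit [Finite G] in
theorem inv_comm (x : G) : s * (s * x * s * x⁻¹) * s = (s * x * s * x⁻¹)⁻¹ := by
  simp only [mul_inv_rev, inv_inv, sinv h, ← mul_assoc, h.sq, one_mul]

omit [Finite G] in
/-- A subgroup that contains all commutators `[s, g]` contains `H`. -/
theorem le_of_comm {C : Subgroup G} (hC : ∀ g ∈ St G a b, s * (g⁻¹ * s * g) ∈ C) :
    St G a b ≤ C := by
  rw [← h.kgen, closure_le]
  intro k hk
  obtain ⟨g, hg, e⟩ := exists_conj h hk.1 hk.2
  have := hC g hg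
  rwa [← e, ← mul_assoc, h.sq, one_mul] at this

omit [Finite G] in
theorem le_cent {X : Subgroup G} (hX : St G a b ≤ normalizer (X : Set G))
    (hs : s ∈ centralizer (X : Set G)) : St G a b ≤ centralizer (X : Set G) :=
  le_of_comm h fun _ hg => mul_mem hs
    (conj_mem_of_mem_normalizer' (H98.le_normalizer_centralizer hX hg) hs)

omit [Finite G] in
theorem le_cent_cyc {X : Subgroup G} [IsCyclic X] (hX : St G a b ≤ normalizer (X : Set G))
    (hs : s ∈ normalizer (X : Set G)) : St G a b ≤ centralizer (X : Set G) := by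
  obtain ⟨x, rfl⟩ := X.isCyclic_iff_exists_zpowers_eq_top.1 inferInstance
  refine le_of_comm h fun g hg => ?_
  rintro _ ⟨n, rfl⟩
  refine (Commute.zpow_left ?_ n).eq
  obtain ⟨i, hi⟩ := conj_mem_of_mem_normalizer hs (mem_zpowers x)
  obtain ⟨j, hj⟩ := conj_mem_of_mem_normalizer (hX hg) (mem_zpowers x)
  have e : s * (g * x * g⁻¹) * s⁻¹ = g * (s * x * s⁻¹) * g⁻¹ := by
    have e1 : s * (g * x * g⁻¹) * s⁻¹ = (x ^ i) ^ j := by
      rw [← hj]; exact (conj_zpow.symm.trans (congrArg (· ^ j) hi.symm))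
    have e2 : g * (s * x * s⁻¹) * g⁻¹ = (x ^ j) ^ i := by
      rw [← hi]; exact (conj_zpow.symm.trans (congrArg (· ^ i) hj.symm))
    rw [e1, e2, ← zpow_mul, ← zpow_mul, mul_comm i]
  rw [sinv h] at e
  change x * _ = _ * x
  calc x * (s * (g⁻¹ * s * g)) = s * s * x * (s * (g⁻¹ * s * g)) := by rw [h.sq, one_mul]
    _ = s * g⁻¹ * (g * (s * x * s) * g⁻¹) * s * g := by group
    _ = s * g⁻¹ * (s * (g * x * g⁻¹) * (s * s)) * g := by rw [← e]; group
    _ = _ := by rw [h.sq]; group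

omit [Finite G] in
theorem cu_eq_bot {X : Subgroup G} (hX : X ≤ St G a b) (h1 : X ≠ ⊥)
    (hn : St G a b ≤ normalizer (X : Set G)) (hs : s ∈ normalizer (X : Set G)) :
    CU U X a = ⊥ := by
  by_contra hc
  obtain ⟨h2, τ, -, h3, h4, -⟩ := h.i3 X hX h1 hs hc
  have h5 : St G a b ≤ zpowers τ := le_of_comm h fun g hg => by
    simpa [mul_assoc] using h4 _ (inv_mem hg) (hn (inv_mem hg))
  refine h1 (eq_bot_iff.2 fun x hx => eq_one_of_sq h.oddH (hX hx) ?_)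
  obtain ⟨n, rfl⟩ := h5 (hX hx)
  have h6 : s * τ ^ n * s⁻¹ = (τ ^ n)⁻¹ := by rw [← conj_zpow, sinv h, h3, inv_zpow]
  rw [← h2 _ hx, mul_inv_cancel_right] at h6
  exact eq_inv_iff_mul_eq_one.1 h6

theorem exists_cent (k1 : Kit1.{u}) {X : Set G} (hX : X ⊆ St G a b) (hc : CU U X a ≠ ⊥) :
    ∃ g ∈ St G a b, g⁻¹ * s * g ∈ centralizer X := by
  obtain ⟨-, -, -, h1, -, -, -, h2⟩ := k1.fx h.toRg h.ne hX
  obtain ⟨l, hl, e1, e2⟩ := h2 hc b (fun g hg => (hX hg).2) a (fun g hg => (hX hg).1) h.ne.symm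
  have h3 : l * l ∈ St G a b := mem_St.2 ⟨by rw [mul_smul, e1, e2], by rw [mul_smul, e2, e1]⟩
  obtain ⟨j, hj⟩ := h.oddH
  have h4 : (l * l) ^ (2 * j + 1) = 1 :=
    hj ▸ congrArg Subtype.val (pow_card_eq_one' (x := (⟨_, h3⟩ : St G a b)))
  have h5 : l ^ (2 * j + 1) = (l * l) ^ j * l := by rw [pow_succ, pow_mul, sq]
  have h6 := mem_St.1 (pow_mem h3 j)
  have h7 : l ^ (2 * j + 1) * l ^ (2 * j + 1) = 1 := by rw [← (Commute.refl l).mul_pow, h4]
  have h8 := pow_mem (h1 hl) (2 * j + 1)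
  have h9 : s * l ^ (2 * j + 1) ∈ St G a b :=
    mem_St.2 ⟨by rw [h5, mul_smul, mul_smul, e1, h6.2, h.sw.2],
      by rw [h5, mul_smul, mul_smul, e2, h6.1, h.sw.1]⟩
  obtain ⟨g, hg, e⟩ := exists_conj h h9 (by
    rw [← mul_assoc, h.sq, one_mul, mul_inv_rev, sinv h, inv_eq_of_mul_eq_one_right h7])
  rw [← mul_assoc, h.sq, one_mul] at e
  exact ⟨g, hg, e ▸ h8⟩

theorem cyc_of_elem (k1 : Kit1.{u}) (hU : ∀ p : ℕ, p.Prime → ¬ IsPGroup p (U a)) {A : Subgroup G}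
    {r : ℕ} (hr : r.Prime) (hA : A ≤ St G a b) (hc : A ≤ centralizer (A : Set G))
    (he : ∀ x ∈ A, x ^ r = 1) (hn : St G a b ≤ normalizer (A : Set G))
    (hs : s ∈ normalizer (A : Set G)) : IsCyclic A := by
  by_contra hcy
  have := le_centralizer_iff_isMulCommutative.1 hc
  have hAr : IsPGroup r A := H98.isPGroup_iff_forall.2 fun x hx => ⟨1, by rw [pow_one, he x hx]⟩
  have key : ∀ p : ℕ, p.Prime → p ≠ r → pCoreOf p (U a) ≠ ⊥ → ∃ Y ≤ A ⊓ centralizer {s}, Y ≠ ⊥ ∧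
      Y.relIndex A ∣ r ∧ pCoreOf p (U a) ⊓ centralizer (Y : Set G) ≠ ⊥ := fun p hp hpr hP => by
    obtain ⟨Y, hY, h1, h2⟩ : ∃ Y ≤ A, IsCyclic (A ⧸ Y.subgroupOf A) ∧
        pCoreOf p (U a) ⊓ centralizer (Y : Set G) ≠ ⊥ := by
      by_contra! h1
      exact hP (eq_bot_iff.2 (H1.le_of_cocyclic_centralizer_le (hA.trans (nor_core h p))
        (coprime_of_ne hp hr hpr hAr (H98.isPGroup_pCoreOf _)) ⊥ fun Y hY h2 => (h1 Y hY h2).le))
    obtain ⟨g, hg, h3⟩ := exists_cent h k1 (X := Y) (hY.trans hA)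
      fun e => h2 (eq_bot_iff.2 ((inf_le_inf_right _ (H98.pCoreOf_le _)).trans e.le))
    obtain ⟨y, hy, hy1⟩ := H1.exists_ne_one_of_isCyclic_quotient hcy _ h1
    refine ⟨cj g Y, le_inf (H98.cj_le_of_le hY (hn hg)) ?_, fun e => ?_, ?_, ?_⟩
    · rintro _ ⟨y, hy, rfl⟩
      refine mem_centralizer_singleton_iff.2 ?_
      change g * y * g⁻¹ * s = s * (g * y * g⁻¹)
      calc _ = g * (y * (g⁻¹ * s * g)) * g⁻¹ := by group
        _ = _ := by rw [h3 y hy]; group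
    · rw [H98.cj_eq_bot_iff] at e
      exact hy1 (Subtype.ext (mem_bot.1 (e ▸ hy)))
    · rw [← H98.cj_eq_self (hn hg), relIndex_map_map_of_injective _ _ (MulAut.conj g).injective,
        relIndex, index, ← IsCyclic.exponent_eq_card]
      refine Monoid.exponent_dvd_of_forall_pow_eq_one fun x => ?_
      obtain ⟨x, rfl⟩ := QuotientGroup.mk_surjective x
      rw [← QuotientGroup.mk_pow, show x ^ r = 1 from Subtype.ext (he x x.2)]
      rfl
    · rwa [← H98.cj_centralizer, ← H98.cj_eq_self (nor_core h p hg), ← H98.cj_inf, Ne,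
        H98.cj_eq_bot_iff]
  obtain ⟨p, hp, hpr, hP⟩ := exists_core (h.nil a) (hU r hr)
  by_cases hsA : A ≤ centralizer {s}
  · obtain ⟨Y, hY, h1, -, h2⟩ := key p hp hpr hP
    have h3 : s ∈ centralizer (A : Set G) := fun x hx => mem_centralizer_singleton_iff.1 (hsA hx)
    have h4 := H98.centralizer_anti (hY.trans inf_le_left)
    exact h2 (eq_bot_iff.2 ((inf_le_inf_right _ (H98.pCoreOf_le _)).trans
      (cu_eq_bot h ((hY.trans inf_le_left).trans hA) h1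
        (((le_cent h hn h3).trans h4).trans (centralizer_le_normalizer _))
        (centralizer_le_normalizer _ (h4 h3))).le))
  have key2 : ∀ p : ℕ, p.Prime → p ≠ r → pCoreOf p (U a) ≠ ⊥ → A ⊓ centralizer {s} ≠ ⊥ ∧
      pCoreOf p (U a) ⊓ centralizer ((A ⊓ centralizer {s} : Subgroup G) : Set G) ≠ ⊥ :=
    fun p hp hpr hP => by
      obtain ⟨Y, hY, h1, h2, h3⟩ := key p hp hpr hP
      have h4 := relIndex_mul_relIndex Y _ A hY inf_le_left
      have h5 : Y = A ⊓ centralizer {s} := by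
        rcases (Nat.dvd_prime hr).1 ((Dvd.intro_left _ h4).trans h2) with e | e
        · exact absurd ((relIndex_eq_one.1 e).trans inf_le_right) hsA
        · rw [← h4, e] at h2
          exact le_antisymm hY (relIndex_eq_one.1 (Nat.eq_one_of_dvd_one
            (Nat.dvd_of_mul_dvd_mul_right hr.pos (h2.trans (one_mul r).symm.dvd))))
      exact h5 ▸ ⟨h1, h3⟩
  obtain ⟨h1, h2⟩ := key2 p hp hpr hP
  obtain ⟨-, τ, -, -, h3, h4⟩ := h.i3 _ (inf_le_left.trans hA) h1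
    (centralizer_le_normalizer _ fun x hx => mem_centralizer_singleton_iff.1 hx.2)
    fun e => h2 (eq_bot_iff.2 ((inf_le_inf_right _ (H98.pCoreOf_le _)).trans e.le))
  obtain ⟨x, hx, hxs⟩ := SetLike.not_le_iff_exists.1 hsA
  have h5 : s * x * s * x⁻¹ ≠ 1 := fun e => hxs (mem_centralizer_singleton_iff.2 (by
    rw [mul_inv_eq_one] at e
    rw [← sinv h, eq_inv_mul_iff_mul_eq, sinv h, ← mul_assoc, e]))
  rcases h4 with rfl | ⟨q, hq, h4⟩
  · exact h5 (by
      simpa using h3 x (hA hx) (centralizer_le_normalizer _ (H98.centralizer_anti inf_le_left (hc hx))))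
  obtain ⟨p', hp', hpq, hP'⟩ := exists_core (h.nil a) (hU q hq)
  by_cases e : p' = r
  · subst e
    have : Fact p'.Prime := ⟨hr⟩
    have h6 : s * x * s * x⁻¹ ∈ A :=
      mul_mem (by simpa [sinv h] using conj_mem_of_mem_normalizer hs hx) (inv_mem hx)
    obtain ⟨⟨u, hu, hu'⟩, hu1⟩ := ne_bot_iff_exists_ne_one.1 (H98.inf_centralizer_ne_bot
      (H98.isPGroup_pCoreOf _) hAr (hA.trans (nor_core h _)) hP')
    exact (h.kfix _ (hA h6) (inv_comm h x) u (H98.pCoreOf_le _ hu) (hu' _ h6)).elim h5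
      fun e => hu1 (Subtype.ext e)
  · refine (key2 p' hp' e hP').2 (eq_bot_iff.2 (le_trans ?_ (disjoint_iff.1
      (disjoint_of_coprime_natCard (coprime_of_ne hp' hq hpq h4
        (H98.isPGroup_pCoreOf (U a))))).le))
    exact le_inf (inf_le_inf_right _ (H98.pCoreOf_le _)) inf_le_left

theorem cyc_of_pgroup (k1 : Kit1.{u}) (hU : ∀ p : ℕ, p.Prime → ¬ IsPGroup p (U a)) {Q : Subgroup G}
    {r : ℕ} (hr : r.Prime) (hQ : Q ≤ St G a b) (hp : IsPGroup r Q)
    (hn : St G a b ≤ normalizer (Q : Set G)) (hs : s ∈ normalizer (Q : Set G)) : IsCyclic Q := by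
  by_contra hcy
  have : Fact r.Prime := ⟨hr⟩
  have hr2 : r ≠ 2 := by
    rintro rfl
    refine hcy ?_
    obtain ⟨n, hn⟩ := IsPGroup.iff_card.1 hp
    have h1 := h.oddH.of_dvd_nat (card_dvd_of_le hQ)
    rcases n with _ | n
    · have := (Nat.card_eq_one_iff_unique.1 hn).1
      exact isCyclic_of_subsingleton
    · exact absurd (hn ▸ h1) (Nat.not_odd_iff_even.2 (even_two.pow_of_ne_zero n.succ_ne_zero))
  obtain ⟨Z, hZ⟩ : ∃ Z : Subgroup G, ∀ z, z ∈ Z ↔ z ∈ Q ∧ (∀ g ∈ Q, g * z = z * g) ∧ z ^ r = 1 :=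
    ⟨{ carrier := {z | z ∈ Q ∧ (∀ g ∈ Q, g * z = z * g) ∧ z ^ r = 1}
       one_mem' := ⟨one_mem _, by simp, one_pow r⟩
       mul_mem' := fun {x y} hx hy => ⟨mul_mem hx.1 hy.1, fun g hg => by
          rw [← mul_assoc, hx.2.1 g hg, mul_assoc, hy.2.1 g hg, mul_assoc], by
          rw [Commute.mul_pow (hy.2.1 x hx.1), hx.2.2, hy.2.2, mul_one]⟩
       inv_mem' := fun {x} hx => ⟨inv_mem hx.1, fun g hg => (Commute.inv_right (hx.2.1 g hg)).eq,
          by rw [inv_pow, hx.2.2, inv_one]⟩ }, fun _ => Iff.rfl⟩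
  have hZc : ∀ z ∈ Z, ∀ g ∈ Q, g * z = z * g := fun z hz => ((hZ z).1 hz).2.1
  have hZn : ∀ g ∈ normalizer (Q : Set G), ∀ z ∈ Z, g * z * g⁻¹ ∈ Z := fun g hg z hz => by
    obtain ⟨h1, h2, h3⟩ := (hZ z).1 hz
    refine (hZ _).2 ⟨conj_mem_of_mem_normalizer hg h1, fun x hx => ?_, by rw [conj_pow, h3]; group⟩
    calc _ = g * (g⁻¹ * x * g * z) * g⁻¹ := by group
      _ = _ := by rw [h2 _ (conj_mem_of_mem_normalizer' hg hx)]; group
  obtain ⟨E, hE⟩ : ∃ E : Subgroup G, ∀ x, x ∈ E ↔ x ∈ Q ∧ (∀ g ∈ Q, ⁅g, x⁆ ∈ Z) ∧ x ^ r = 1 :=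
    ⟨{ carrier := {x | x ∈ Q ∧ (∀ g ∈ Q, ⁅g, x⁆ ∈ Z) ∧ x ^ r = 1}
       one_mem' := ⟨one_mem _, by simp, one_pow r⟩
       mul_mem' := fun {x y} hx hy => ⟨mul_mem hx.1 hy.1, fun g hg => by
          have : ⁅g, x * y⁆ = ⁅g, x⁆ * (x * ⁅g, y⁆ * x⁻¹) := by
            simp only [commutatorElement_def]; group
          exact this ▸ mul_mem (hx.2.1 g hg) (hZn x (le_normalizer hx.1) _ (hy.2.1 g hg)), by
          have h1 := hx.2.1 y hy.1
          obtain ⟨c, hc⟩ : r ∣ r.choose 2 := hr.dvd_choose_self two_ne_zero (by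
            have := hr.two_le; omega)
          rw [H9.mul_pow_of_commute_commutator (hZc _ h1 x hx.1) (hZc _ h1 y hy.1), hx.2.2, hy.2.2,
            hc, pow_mul, ((hZ _).1 h1).2.2, one_pow, mul_one, mul_one]⟩
       inv_mem' := fun {x} hx => ⟨inv_mem hx.1, fun g hg => by
          have : ⁅g, x⁻¹⁆ = x⁻¹ * ⁅g, x⁆⁻¹ * x⁻¹⁻¹ := by simp only [commutatorElement_def]; group
          exact this ▸ hZn _ (le_normalizer (inv_mem hx.1)) _ (inv_mem (hx.2.1 g hg)),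
          by rw [inv_pow, hx.2.2, inv_one]⟩ }, fun _ => Iff.rfl⟩
  have hEn : ∀ g ∈ normalizer (Q : Set G), g ∈ normalizer (E : Set G) := fun g hg =>
    H98.mem_normalizer_of_cj_le (by
      rintro _ ⟨x, hx, rfl⟩
      obtain ⟨h1, h2, h3⟩ := (hE x).1 hx
      change g * x * g⁻¹ ∈ E
      refine (hE _).2 ⟨conj_mem_of_mem_normalizer hg h1, fun y hy => ?_,
        by rw [conj_pow, h3]; group⟩
      have : ⁅y, g * x * g⁻¹⁆ = g * ⁅g⁻¹ * y * g, x⁆ * g⁻¹ := by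
        simp only [commutatorElement_def]; group
      exact this ▸ hZn g hg _ (h2 _ (conj_mem_of_mem_normalizer' hg hy)))
  have hZn' : ∀ g ∈ normalizer (Q : Set G), g ∈ normalizer (Z : Set G) := fun g hg =>
    H98.mem_normalizer_of_cj_le (by
      rintro _ ⟨x, hx, rfl⟩
      exact hZn g hg x hx)
  have hZQ : Z ≤ Q := fun z hz => ((hZ z).1 hz).1
  have hEQ : E ≤ Q := fun z hz => ((hE z).1 hz).1
  have hZr : ∀ z ∈ Z, z ^ r = 1 := fun z hz => ((hZ z).1 hz).2.2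
  have hEr : ∀ z ∈ E, z ^ r = 1 := fun z hz => ((hE z).1 hz).2.2
  have hZE : Z ≤ E := fun z hz => (hE z).2 ⟨hZQ hz, fun g hg => by
    rw [commutatorElement_eq_one_iff_mul_comm.2 (hZc z hz g hg)]; exact one_mem _, hZr z hz⟩
  have hZcyc : IsCyclic Z := cyc_of_elem h k1 hU hr (hZQ.trans hQ)
    (fun z hz g hg => hZc z hz g (hZQ hg)) hZr (fun g hg => hZn' g (hn hg)) (hZn' s hs)
  have hgen : ∀ z ∈ Z, z ≠ 1 → Z = zpowers z := fun z hz h1 =>
    le_antisymm (le_zpowers_of_cyclic hr hZr hz h1) (zpowers_le.2 hz)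
  -- `E` is not abelian
  obtain ⟨y₀, hy₀, y₁, hy₁, h01⟩ : ∃ y₀ ∈ E, ∃ y₁ ∈ E, ⁅y₀, y₁⁆ ≠ 1 := by
    by_contra! hc
    have := cyc_of_elem h k1 hU hr (hEQ.trans hQ)
      (fun z hz g hg => commutatorElement_eq_one_iff_mul_comm.1 (hc g hg z hz)) hEr
      (fun g hg => hEn g (hn hg)) (hEn s hs)
    obtain ⟨B₀, hB₀, -, hB₁, hB₂⟩ := H9.exists_normal_elementary_sq hr2 hp ⊤
      fun e => hcy (isCyclic_of_surjective _ topEquiv.surjective)
    have h1 : Q ≤ normalizer (B₀.map Q.subtype : Set G) := H98.le_normalizer_map_subtype B₀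
    have h2 : B₀.map Q.subtype ≤ Q := map_subtype_le _
    have h3 : Nat.card (B₀.map Q.subtype) = r ^ 2 := by
      rw [card_map_of_injective Q.subtype_injective, hB₂]
    have h4 : ∀ x ∈ B₀.map Q.subtype, x ^ r = 1 := by
      rintro _ ⟨x, hx, rfl⟩
      exact congrArg Subtype.val (hB₁.2 x hx)
    generalize B₀.map Q.subtype = B at h1 h2 h3 h4
    have h5 : B ≠ ⊥ := fun e => by
      rw [e, card_bot] at h3
      exact (Nat.one_lt_pow two_ne_zero hr.one_lt).ne h3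
    have h6 := H98.commutator_lt_of_isPGroup (hp.to_le h2) hp h1 h5
    have h7 : ⁅⁅B, Q⁆, Q⁆ = ⊥ := by
      by_cases e : ⁅B, Q⁆ = ⊥
      · rw [e, commutator_bot_left]
      have h8 := H98.commutator_lt_of_isPGroup (hp.to_le (h6.le.trans h2)) hp
        (H98.le_normalizer_commutator h1 le_normalizer) e
      obtain ⟨i, hi, h9⟩ := (Nat.dvd_prime_pow hr).1 (h3 ▸ card_dvd_of_le h6.le)
      obtain ⟨j, hj, h10⟩ := (Nat.dvd_prime_pow hr).1 (h9 ▸ card_dvd_of_le h8.le)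
      have a1 : i ≠ 2 := fun e => h6.ne (eq_of_le_of_card_ge h6.le (by rw [h3, h9, e]))
      have a2 : j ≠ i := fun e => h8.ne (eq_of_le_of_card_ge h8.le (by rw [h10, h9, e]))
      rw [show j = 0 by omega, pow_zero] at h10
      exact card_eq_one.1 h10
    have h8 : B ≤ E := fun x hx => (hE x).2 ⟨h2 hx, fun g hg => by
      have a1 : ⁅g, x⁆ ∈ ⁅B, Q⁆ := commutator_comm B Q ▸ commutator_mem_commutator hg hx
      exact (hZ _).2 ⟨h2 (h6.le a1), commutator_eq_bot_iff_le_centralizer.1 h7 a1, h4 _ (h6.le a1)⟩,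
      h4 x hx⟩
    obtain ⟨⟨x, hx⟩, hx1⟩ := ne_bot_iff_exists_ne_one.1 h5
    have a1 := card_le_of_le (h8.trans (le_zpowers_of_cyclic hr hEr (h8 hx)
      fun e => hx1 (Subtype.ext e)))
    rw [h3, Nat.card_zpowers, orderOf_eq_prime (h4 x hx) fun e => hx1 (Subtype.ext e)] at a1
    have := hr.one_lt
    nlinarith
  have hz₀ : ⁅y₀, y₁⁆ ∈ Z := ((hE _).1 hy₁).2.1 _ (hEQ hy₀)
  have hZ1 : CU U Z a = ⊥ := cu_eq_bot h (hZQ.trans hQ) (fun e => h01 (mem_bot.1 (e ▸ hz₀)))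
    (fun g hg => hZn' g (hn hg)) (hZn' s hs)
  have hconj : ∀ y ∈ E, y ∉ Z → ∀ z ∈ Z, ∃ g ∈ Q, g * y * g⁻¹ = z * y := fun y hy hyZ z hz => by
    obtain ⟨g, hg, h1⟩ : ∃ g ∈ Q, g * y ≠ y * g := by
      by_contra! e
      exact hyZ ((hZ y).2 ⟨hEQ hy, e, hEr y hy⟩)
    have h2 := ((hE y).1 hy).2.1 g hg
    rw [hgen _ h2 fun e => h1 (commutatorElement_eq_one_iff_mul_comm.1 e)] at hz
    obtain ⟨n, rfl⟩ := mem_powers_iff_mem_zpowers.2 hz
    refine ⟨g ^ n, pow_mem hg n, ?_⟩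
    change _ = ⁅g, y⁆ ^ n * y
    clear hz
    induction n with
    | zero => simp
    | succ n ih =>
      calc _ = g * (g ^ n * y * (g ^ n)⁻¹) * g⁻¹ := by group
        _ = g * ⁅g, y⁆ ^ n * y * g⁻¹ := by rw [ih]; group
        _ = _ := by
          rw [hZc _ (pow_mem h2 n) g hg, pow_succ, commutatorElement_def]; group
  have hinv : ∀ y ∈ E, s * y * s = y⁻¹ → y ∈ Z := fun y hy e => by
    by_contra hyZ
    obtain ⟨p, hp', hpr, hP⟩ := exists_core (h.nil a) (hU r hr)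
    have h1 : Z ⊔ zpowers y ≤ E := sup_le hZE (zpowers_le.2 hy)
    have h2 : zpowers y ≤ centralizer (Z : Set G) :=
      zpowers_le.2 fun z hz => (hZc z hz y (hEQ hy)).symm
    have : IsMulCommutative ↥(Z ⊔ zpowers y) := by
      rw [← le_centralizer_iff_isMulCommutative, H98.centralizer_sup]
      exact le_inf (sup_le (fun z hz g hg => hZc z hz g (hZQ hg)) h2)
        (sup_le (le_centralizer_iff.1 h2) (le_centralizer _))
    obtain ⟨x, hx, hx1, h3⟩ : ∃ x ∈ Z ⊔ zpowers y, x ≠ 1 ∧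
        pCoreOf p (U a) ⊓ centralizer {x} ≠ ⊥ := by
      by_contra! h3
      refine hP (eq_bot_iff.2 (H1.le_of_noncyclic_centralizer_le (A := Z ⊔ zpowers y) (fun e => ?_)
        (((h1.trans hEQ).trans hQ).trans (nor_core h p))
        (coprime_of_ne hp' hr hpr (hp.to_le (h1.trans hEQ)) (H98.isPGroup_pCoreOf _)) ⊥
        fun x hx hx1 => (h3 x hx hx1).le))
      exact hyZ (zpowers_le.2 hz₀ (le_zpowers_of_cyclic hr (fun x hx => hEr x (h1 hx))
        (mem_sup_left hz₀) h01 (mem_sup_right (mem_zpowers y))))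
    obtain ⟨⟨u, hu, hux⟩, hu1⟩ := ne_bot_iff_exists_ne_one.1 h3
    replace hu1 : u ≠ 1 := fun e => hu1 (Subtype.ext e)
    replace hux : u * x = x * u := mem_centralizer_singleton_iff.1 hux
    obtain ⟨z, hz, _, ⟨n, rfl⟩, rfl⟩ :=
      (H98.mem_sup_right_norm (h2.trans (centralizer_le_normalizer _))).1 hx
    by_cases h4 : y ^ n ∈ Z
    · refine hu1 (mem_bot.1 (hZ1.le ⟨H98.pCoreOf_le _ hu, ?_⟩))
      rw [hgen _ (mul_mem hz h4) hx1]
      rintro _ ⟨m, rfl⟩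
      exact (Commute.zpow_left hux.symm m).eq
    obtain ⟨g, hg, h5⟩ := hconj _ (zpow_mem hy n) h4 z hz
    have h6 : s * y ^ n * s = (y ^ n)⁻¹ := by
      have := conj_zpow (a := s) (b := y) (i := n)
      rw [sinv h] at this
      rw [← this, e, inv_zpow]
    change u * (z * y ^ n) = z * y ^ n * u at hux
    rcases h.kfix _ (hQ (hEQ (zpow_mem hy n))) h6 _ (H98.pCoreOf_le _
      (conj_mem_of_mem_normalizer' (nor_core h p (hQ hg)) hu)) (by
        calc _ = g⁻¹ * (g * y ^ n * g⁻¹ * u) * g := by group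
          _ = g⁻¹ * (u * (g * y ^ n * g⁻¹)) * g := by rw [h5, hux]
          _ = _ := by group) with e' | e'
    · exact h4 (e' ▸ one_mem Z)
    · exact hu1 (by simpa [mul_assoc, inv_mul_eq_one] using e')
  have hmod : ∀ y ∈ E, s * y * s * y⁻¹ ∈ Z := fun y hy => hinv _
    (mul_mem (by simpa [sinv h] using conj_mem_of_mem_normalizer (hEn s hs) hy) (inv_mem hy))
    (inv_comm h y)
  have hs₀ : s * ⁅y₀, y₁⁆ * s⁻¹ = ⁅y₀, y₁⁆ := by
    have a0 := hmod _ hy₀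
    have a1 := hmod _ hy₁
    rw [conjugate_commutatorElement, sinv h, ← inv_mul_cancel_right (s * y₀ * s) y₀,
      ← inv_mul_cancel_right (s * y₁ * s) y₁]
    generalize s * y₀ * s * y₀⁻¹ = z₀ at a0
    generalize s * y₁ * s * y₁⁻¹ = z₁ at a1
    have b1 := hZc _ a1 _ (mul_mem (hZQ a0) (hEQ hy₀))
    have b2 := hZc _ a0 _ (hZQ hz₀)
    have b3 := hZc _ a0 _ (inv_mem (hEQ hy₁))
    have b4 := hZc _ a1 _ (hZQ hz₀)
    have b5 : ⁅z₀ * y₀, y₁⁆ = ⁅y₀, y₁⁆ := by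
      calc _ = z₀ * ⁅y₀, y₁⁆ * (y₁ * z₀⁻¹ * y₁⁻¹) := by simp only [commutatorElement_def]; group
        _ = z₀ * ⁅y₀, y₁⁆ * (y₁ * z₀⁻¹ * (y₁⁻¹ * z₀) * z₀⁻¹) := by group
        _ = _ := by rw [b3, ← b2]; group
    calc _ = z₀ * y₀ * z₁ * y₁ * (z₀ * y₀)⁻¹ * y₁⁻¹ * z₁⁻¹ := by
          simp only [commutatorElement_def]; group
      _ = z₁ * ⁅z₀ * y₀, y₁⁆ * z₁⁻¹ := by rw [b1]; simp only [commutatorElement_def]; group
      _ = _ := by rw [b5, ← b4, mul_inv_cancel_right]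
  have hsE : s ∈ centralizer (E : Set G) := fun y hy => by
    have a0 := hmod y hy
    have a1 := inv_comm h y
    have a2 : ∀ z ∈ Z, s * z * s = z := fun z hz => by
      rw [hgen _ hz₀ h01] at hz
      obtain ⟨n, rfl⟩ := hz
      have := conj_zpow (a := s) (b := ⁅y₀, y₁⁆) (i := n)
      rw [hs₀, sinv h] at this
      exact this.symm
    rw [a2 _ a0, eq_inv_iff_mul_eq_one] at a1
    have a3 := mul_inv_eq_one.1 (eq_one_of_sq h.oddH (hQ (hZQ a0)) a1)
    rw [← sinv h, eq_inv_mul_iff_mul_eq, sinv h, ← mul_assoc, a3]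
  exact h01 (commutatorElement_eq_one_iff_mul_comm.2
    (le_cent h (fun g hg => hEn g (hn hg)) hsE (hQ (hEQ hy₁)) _ hy₀))

theorem comm_H (k1 : Kit1.{u}) (hU : ∀ p : ℕ, p.Prime → ¬ IsPGroup p (U a)) :
    ∀ x ∈ St G a b, ∀ y ∈ St G a b, x * y = y * x := by
  have := H42.odd_order h.oddH
  have h1 : fittingSubgroup (St G a b) ≤ center _ := by
    rw [H2.fitting_eq_iSup_pCore]
    refine iSup_le fun p x hx => mem_center_iff.2 fun g => Subtype.ext ?_
    have h2 := H98.normalizer_le_normalizer_pCoreOf (p := p) _ (nor_H h)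
    have := cyc_of_pgroup h k1 hU p.2 (H98.pCoreOf_le _) (H98.isPGroup_pCoreOf _)
      (H98.self_le_normalizer_pCoreOf _) h2
    exact (le_cent_cyc h (H98.self_le_normalizer_pCoreOf _) h2 g.2 _ ⟨x, hx, rfl⟩).symm
  intro x hx y hy
  exact congrArg Subtype.val (mem_center_iff.1 (h1 (H2.centralizer_fitting_le _ (x := ⟨y, hy⟩)
    fun g hg => (mem_center_iff.1 (h1 hg) _).symm)) ⟨x, hx⟩)

end Ib

omit h in
theorem jobIb (k1 : Kit1.{u}) : JobIb.{u} := by
  intro G Ω _ _ _ U a b s h hU g a' b' c' h1 h2 h3 e1 e2 e3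
  have hc := Ib.comm_H h k1 hU
  have hK : ∀ k ∈ St G a b, s * k * s = k⁻¹ := fun k hk => by
    rw [← h.kgen] at hk
    have hle : closure {k | k ∈ St G a b ∧ s * k * s = k⁻¹} ≤ St G a b := h.kgen.le
    induction hk using closure_induction with
    | mem x hx => exact hx.2
    | one => rw [mul_one, h.sq, inv_one]
    | mul x y hx hy ihx ihy =>
      rw [hc x (hle hx) y (hle hy), mul_inv_rev, ← ihx, ← ihy, ← hc x (hle hx) y (hle hy)]
      calc _ = s * x * 1 * y * s := by group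
        _ = _ := by rw [← h.sq]; group
    | inv x _ ih =>
      have e : s * x⁻¹ * s = (s * x * s)⁻¹ := by
        rw [mul_inv_rev, mul_inv_rev, Ib.sinv h, mul_assoc]
      rw [e, ih]
  obtain ⟨x, rfl, rfl⟩ := h.t2.two h1 h.ne
  have hg : x * g * x⁻¹ ∈ St G (x • a') (x • b') := conj_mem_St x ⟨e1, e2⟩
  rcases ((k1.fx h.toRg h.ne (Set.singleton_subset_iff.2 hg)).1 (x • c')).1
    (by rintro _ rfl; exact conj_smul_eq.2 e3) with e | ⟨u, hu, e⟩
  · exact absurd (smul_left_cancel x e) h3.symm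
  rcases h.kfix _ hg (hK _ hg) u hu.1 (hu.2 _ rfl) with e' | rfl
  · simpa using e'
  · exact absurd (smul_left_cancel x ((one_smul _ _).symm.trans e)) h2

end H66.HKS
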