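import Cfsg.Agent.H7.HKSSpec
import Cfsg.Agent.H89.KZass

/-! Split rank one groups: the Zassenhaus case (job `ZL` of blueprint `HKS2.md`). -/

set_option autoImplicit false

namespace H66.HKS

open MulAction Cfsg Subgroup H89.K H65 H7.HKS Matrix

universe u

theorem sl2Rel_hom {F G : Type*} [Field F] [Group G] (φ : SpecialLinearGroup (Fin 2) F →* G) :
    SL2Rel (fun t => φ (sl2U t)) (fun t => φ (sl2L t)) where
  x_add a b := by
    rw [← map_mul]; congr 1
    ext i j; fin_cases i <;> fin_cases j <;> simp [Matrix.mul_apply, Fin.sum_univ_two, add_comm]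
  y_add a b := by
    rw [← map_mul]; congr 1
    ext i j; fin_cases i <;> fin_cases j <;> simp [Matrix.mul_apply, Fin.sum_univ_two]
  n_x t u ht := by
    simp only [← map_mul]; congr 1
    ext i j; fin_cases i <;> fin_cases j <;> simp [Matrix.mul_apply, Fin.sum_univ_two, ht]
    field_simp
  h_mul a b ha hb := by
    simp only [← map_mul]; congr 1
    ext i j; fin_cases i <;> fin_cases j <;> simp [Matrix.mul_apply, Fin.sum_univ_two, ha, hb] <;>
      field_simp <;> ring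

theorem center_off {F : Type*} [Field F] {g : SpecialLinearGroup (Fin 2) F}
    (h : g ∈ center (SpecialLinearGroup (Fin 2) F)) : g 0 1 = 0 ∧ g 1 0 = 0 := by
  obtain ⟨r, -, hr⟩ := Matrix.SpecialLinearGroup.mem_center_iff.1 h
  exact ⟨(congrFun (congrFun hr 0) 1).symm.trans (by simp),
    (congrFun (congrFun hr 1) 0).symm.trans (by simp)⟩

variable {G Ω : Type u} [Group G] [Finite G] [MulAction G Ω] {U : Ω → Subgroup G}

theorem zass_even' [IsSimpleGroup G] (h : IsZassenhausGroup G Ω) (he : Even (Nat.card Ω))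
    {a b : Ω} (hab : a ≠ b) : ∃ (F : Type) (_ : Field F) (_ : Fintype F),
      Nat.card Ω = Fintype.card F + 1 ∧ Nonempty (G ≃* PSL2 F) := by
  have h2 := t2_of_zass h
  have := h2.finite
  have := Fintype.ofFinite Ω
  have h3 := h2.two_lt
  rcases Nat.even_or_odd (Nat.card (St G a b)) with hH | hH
  · obtain ⟨k, hk⟩ := zass_dvd h hab
    have h5 : 2 * Nat.card (St G a b) ≤ Nat.card Ω - 2 := by
      rcases k with _ | _ | k
      · omega
      · exact absurd ‹IsSimpleGroup G› (not_simple_of_sharp3 h he hab (by omega))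
      · rw [hk]
        nlinarith
    obtain ⟨p, f, F, _, _, -, -, hF, hn, e⟩ := Agent.S0742.result h hab hH
      (by rwa [← Nat.card_eq_fintype_card])
    rw [← Nat.card_eq_fintype_card, ← hF] at hn
    exact ⟨F, _, _, hn, e⟩
  · obtain ⟨-, -, -, -, F, _, _, hF, e⟩ := jobZF1 G Ω a b h he hab hH
    exact ⟨F, _, _, hF.symm, e⟩

theorem U_eq_ker (k1 : Kit1.{u}) (h : Rg U) (hP : H30.PreZ G Ω) (c : Ω) : U c = hP.ker c := by
  refine eq_of_le_of_card_ge (fun g hg => ⟨h.fix c g hg, ?_⟩) ?_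
  · rw [or_iff_not_imp_left]
    exact fun h1 d hd => by_contra fun e => h1 (h.reg e g hg hd)
  · have h1 := k1.card h c
    have h2 := hP.card_ker c
    omega

theorem simple_of_zass (k1 : Kit1.{u}) (h : Core U) (hZ : IsZassenhausGroup G Ω) :
    IsSimpleGroup G := by
  obtain ⟨M, _, _, hM⟩ := zass_exists_simple hZ
  have hP := H30.preZ_of_zass hZ
  have hQ := H30.preZ_of_zass hM
  have : M = ⊤ := by
    rw [eq_top_iff, ← h.gen, iSup_le_iff]
    intro c
    have e : (hQ.ker c).map M.subtype = hP.ker c := by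
      refine eq_of_le_of_card_ge ?_ ?_
      · rintro _ ⟨g, hg, rfl⟩
        exact ⟨hg.1, hg.2.imp (fun e => by rw [e]; rfl) id⟩
      · rw [card_map_of_injective M.subtype_injective]
        have h1 := hQ.card_ker c
        have h2 := hP.card_ker c
        omega
    rw [U_eq_ker k1 h.toRg hP, ← e]
    exact map_subtype_le _
  subst this
  exact topEquiv.symm.isSimpleGroup

/-- An additive family with `q = n - 1` elements is a root group. -/
theorem exists_root (k1 : Kit1.{u}) (h : Rg U) (hZ : IsZassenhausGroup G Ω) {F : Type} [Field F]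
    [Fintype F] (hn : Nat.card Ω = Fintype.card F + 1) {x : F → G} (hx : Function.Injective x)
    (hadd : ∀ a b, x a * x b = x (a + b)) : ∃ c, ∀ g, g ∈ U c ↔ ∃ t, x t = g := by
  have hP := H30.preZ_of_zass hZ
  have := h.t2.finite
  obtain ⟨p, _, n, hp, hq⟩ := FiniteField.card' F
  have : Fact p.Prime := ⟨hp⟩
  let ξ : Multiplicative F →* G := MonoidHom.mk' (fun t => x t.toAdd) fun a b => (hadd _ _).symm
  have hx0 : x 0 = 1 := ξ.map_one
  have h1 : x 1 ≠ 1 := fun e => one_ne_zero (hx (e.trans hx0.symm))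
  have hxp : x 1 ^ p = 1 := by
    change ξ (.ofAdd 1) ^ p = 1
    rw [← map_pow, ← ofAdd_nsmul, nsmul_one, CharP.cast_eq_zero]
    exact hx0
  have ho : orderOf (x 1) = p := orderOf_eq_prime hxp h1
  have hpq : p ∣ Fintype.card F := hq ▸ dvd_pow_self p n.ne_zero
  obtain ⟨c, hc⟩ := (IsPGroup.of_card (G := zpowers (x 1)) (p := p) (n := 1)
    (by rw [Nat.card_zpowers, ho, pow_one])).nonempty_fixed_point_of_prime_not_dvd_card Ω
    (fun e => hp.one_lt.ne' (Nat.dvd_one.1 ((Nat.dvd_add_right hpq).1 (hn ▸ e))))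
  have hc1 : x 1 • c = c := hc ⟨x 1, mem_zpowers _⟩
  have hk : x 1 ∈ hP.ker c := by
    refine ⟨hc1, Or.inr fun d hd => by_contra fun e => ?_⟩
    have h2 : p ∣ Nat.card Ω - 2 :=
      ho ▸ (Subgroup.orderOf_dvd_natCard (St G d c) ⟨hd, hc1⟩).trans (zass_dvd hZ e)
    have h3 : 1 < Fintype.card F := Fintype.one_lt_card
    have h4 : Fintype.card F = (Nat.card Ω - 2) + 1 := by omega
    exact hp.one_lt.ne' (Nat.dvd_one.1 ((Nat.dvd_add_right h2).1 (h4 ▸ hpq)))
  have e : ξ.range = U c := by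
    refine eq_of_le_of_card_ge ?_ ?_
    · rintro _ ⟨t, rfl⟩
      rw [U_eq_ker k1 h hP]
      refine hP.mem_ker_of_comm hk h1 ?_
      change x _ * x 1 = x 1 * x _
      rw [hadd, hadd, add_comm]
    · have h2 := k1.card h c
      have h3 : Nat.card ξ.range = Nat.card F :=
        (Nat.card_congr (MonoidHom.ofInjective (f := ξ) fun a b e => hx e).toEquiv).symm
      rw [Nat.card_eq_fintype_card (α := F)] at h3
      omega
  exact ⟨c, fun g => by rw [← e]; exact Iff.rfl⟩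

theorem jobZL (k1 : Kit1.{u}) : JobZL.{u} := by
  intro G Ω _ _ _ U a b h h3 hab
  have hZ := (h.t2.aff_or_zass h3).resolve_left h.naff
  have := simple_of_zass k1 h hZ
  have he : Even (Nat.card Ω) := k1.card h.toRg a ▸ (h.odd a).add_one
  obtain ⟨F, _, _, hn, ⟨e⟩⟩ := zass_even' hZ he hab
  refine ⟨?_, Or.inl ⟨F, _, _, ⟨e⟩⟩⟩
  let φ : SpecialLinearGroup (Fin 2) F →* G := e.symm.toMonoidHom.comp (QuotientGroup.mk' _)
  have hφ : ∀ g k l, φ g = φ k → l * g = 1 → l * k ∈ center (SpecialLinearGroup (Fin 2) F) :=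
    fun g k l hg hl => eq_inv_of_mul_eq_one_left hl ▸ QuotientGroup.eq.1 (e.symm.injective hg)
  have hUi : ∀ s : F, sl2U (-s) * sl2U s = 1 := fun s => by
    ext i j; fin_cases i <;> fin_cases j <;> simp [Matrix.mul_apply, Fin.sum_univ_two]
  have hLi : ∀ s : F, sl2L (-s) * sl2L s = 1 := fun s => by
    ext i j; fin_cases i <;> fin_cases j <;> simp [Matrix.mul_apply, Fin.sum_univ_two]
  have H := sl2Rel_hom φ
  have hx : Function.Injective fun t => φ (sl2U t) := fun s t hst => by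
    have := (center_off (hφ _ _ _ hst (hUi s))).1
    change ((sl2U (-s) : Matrix (Fin 2) (Fin 2) F) * (sl2U t : Matrix (Fin 2) (Fin 2) F)) 0 1 = 0
      at this
    simp [Matrix.mul_apply, Fin.sum_univ_two] at this
    linear_combination -this
  have hy : Function.Injective fun t => φ (sl2L t) := fun s t hst => by
    have := (center_off (hφ _ _ _ hst (hLi s))).2
    change ((sl2L (-s) : Matrix (Fin 2) (Fin 2) F) * (sl2L t : Matrix (Fin 2) (Fin 2) F)) 1 0 = 0
      at this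
    simp [Matrix.mul_apply, Fin.sum_univ_two] at this
    linear_combination -this
  obtain ⟨c, hc⟩ := exists_root k1 h.toRg hZ hn hx H.x_add
  obtain ⟨d, hd⟩ := exists_root k1 h.toRg hZ hn hy H.y_add
  have hcd : c ≠ d := by
    rintro rfl
    obtain ⟨t, ht⟩ := (hc _).1 ((hd _).2 ⟨1, rfl⟩)
    have := (center_off (hφ _ _ _ ht (hUi t))).2
    change ((sl2U (-t) : Matrix (Fin 2) (Fin 2) F) * (sl2L (1 : F) : Matrix (Fin 2) (Fin 2) F)) 1 0 = 0
      at this
    simp [Matrix.mul_apply, Fin.sum_univ_two] at this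
  obtain ⟨g, rfl, rfl⟩ := h.t2.two hcd hab
  let ψ := (MulAut.conj g).toMonoidHom.comp φ
  have H' := sl2Rel_hom ψ
  have hU : ∀ c (z : G), z ∈ CU U ∅ (g • c) ↔ ∃ w ∈ U c, g * w * g⁻¹ = z := fun c z => by
    refine ⟨fun hz => ⟨g⁻¹ * z * g⁻¹⁻¹, ?_, by group⟩, ?_⟩
    · simpa using h.conj g⁻¹ _ z hz.1
    · rintro ⟨w, hw, rfl⟩
      exact ⟨h.conj g c w hw, fun _ h => h.elim⟩
  have hx' : Function.Injective fun t => ψ (sl2U t) := fun s t hst =>
    hx ((MulAut.conj g).injective hst)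
  have hy' : Function.Injective fun t => ψ (sl2L t) := fun s t hst =>
    hy ((MulAut.conj g).injective hst)
  have rx : ∀ z, z ∈ CU U ∅ (g • c) ↔ ∃ t, ψ (sl2U t) = z := fun z => by
    rw [hU]
    exact ⟨fun ⟨w, hw, e⟩ => let ⟨t, ht⟩ := (hc w).1 hw; ⟨t, by rw [← e, ← ht]; rfl⟩,
      fun ⟨t, ht⟩ => ⟨_, (hc _).2 ⟨t, rfl⟩, ht⟩⟩
  have ry : ∀ z, z ∈ CU U ∅ (g • d) ↔ ∃ t, ψ (sl2L t) = z := fun z => by
    rw [hU]
    exact ⟨fun ⟨w, hw, e⟩ => let ⟨t, ht⟩ := (hd w).1 hw; ⟨t, by rw [← e, ← ht]; rfl⟩,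
      fun ⟨t, ht⟩ => ⟨_, (hd _).2 ⟨t, rfl⟩, ht⟩⟩
  refine ⟨F, _, inferInstance, _, _, H', hx', rx, ry, fun t ht => ⟨?_, ?_⟩⟩
  · by_contra e
    have h1 := H'.n_mul_x ht 1
    have h2 := congrArg (· • g • c) h1
    simp only [mul_smul, h.fix _ _ ((rx _).2 ⟨1, rfl⟩).1] at h2
    have h4 := h.reg e _ ((ry _).2 ⟨_, rfl⟩).1 h2.symm
    simpa [ht] using hy' (h4.trans H'.y_zero.symm)
  · by_contra e
    have h1 := H'.n_mul_y ht 1
    have h2 := congrArg (· • g • d) h1
    simp only [mul_smul, h.fix _ _ ((ry _).2 ⟨1, rfl⟩).1] at h2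
    have h4 := h.reg e _ ((rx _).2 ⟨_, rfl⟩).1 h2.symm
    simpa [ht] using hx' (h4.trans H'.x_zero.symm)

end H66.HKS
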