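/- NF-MOD (blueprints/NF.md): `H¹ = 0` and the order formula for Frobenius groups of operators. -/
import Cfsg.Agent.H14.NFSpec
import Cfsg.Agent.S4396
import Cfsg.Agent.H47.Quo
import Cfsg.Agent.H22.FrobWt

set_option autoImplicit false
set_option linter.unusedSectionVars false

namespace H66.NF

open Subgroup Cfsg H98 H26.FP H14.NF SemidirectProduct

universe u v

/-- Higman's trick -/
theorem higman {V Y : Type*} [CommGroup V] [Group Y] [Finite Y] (φ : Y →* MulAut V)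
    {B H : Subgroup Y} (hHB : H ≤ N[B]) (semi : ∀ h ∈ H, h ≠ 1 → ∀ b ∈ B, h * b = b * h → b = 1)
    (fix : ∀ v, (∀ b ∈ B, φ b v = v) → v = 1) (e : Y → V)
    (he : ∀ g ∈ H, ∀ h ∈ H, e (g * h) = e g * φ g (e h)) :
    ∃ w, ∀ h ∈ H, e h ^ Nat.card B * φ h w = w := by
  have := Fintype.ofFinite B
  let r : Y → Y := fun b => Classical.epsilon fun y => ∃ h ∈ H, b = h * y * h⁻¹
  have r1 : ∀ b, ∃ h ∈ H, b = h * r b * h⁻¹ := fun b =>
    Classical.epsilon_spec (p := fun y => ∃ h ∈ H, b = h * y * h⁻¹) ⟨b, 1, one_mem _, by simp⟩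
  have r2 : ∀ h ∈ H, ∀ b, r (h * b * h⁻¹) = r b := fun h hh b =>
    congrArg Classical.epsilon (funext fun y => propext
      ⟨fun ⟨k, hk, e⟩ => ⟨h⁻¹ * k, mul_mem (inv_mem hh) hk, by
        rw [show b = h⁻¹ * (h * b * h⁻¹) * h by group, e]; group⟩,
      fun ⟨k, hk, e⟩ => ⟨h * k, mul_mem hh hk, by rw [e]; group⟩⟩)
  choose t t1 t2 using r1
  have t3 : ∀ h ∈ H, ∀ b ∈ B, b ≠ 1 → t (h * b * h⁻¹) = h * t b := fun h hh b hb b1 => by
    by_contra n
    have e1 := t2 (h * b * h⁻¹)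
    rw [r2 h hh] at e1
    have e2 : r b = (t b)⁻¹ * b * t b := by nth_rewrite 3 [t2 b]; group
    refine b1 ?_
    rw [t2 b, semi ((h * t b)⁻¹ * t (h * b * h⁻¹)) (mul_mem (inv_mem (mul_mem hh (t1 b))) (t1 _))
      (fun k => n (inv_mul_eq_one.1 k).symm) (r b)
      (e2 ▸ conj_mem_of_mem_normalizer' (hHB (t1 b)) hb) ?_]
    · simp
    · generalize t (h * b * h⁻¹) = s at e1
      rw [mul_assoc, mul_inv_eq_iff_eq_mul.1 e1.symm, e2]; group
  let c : Y → V := fun b => e (t b) * (φ b (e (t b)))⁻¹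
  have c1 : ∀ h ∈ H, ∀ b ∈ B, c (h * b * h⁻¹) = e h * (φ (h * b * h⁻¹) (e h))⁻¹ * φ h (c b) :=
    fun h hh b hb => by
      by_cases b1 : b = 1
      · simp [c, b1]
      have : φ (h * b * h⁻¹) (φ h (e (t b))) = φ h (φ b (e (t b))) := by
        rw [← MulAut.mul_apply, ← map_mul, inv_mul_cancel_right, map_mul, MulAut.mul_apply]
      simp only [c]
      rw [t3 h hh b hb b1, he h hh _ (t1 b), map_mul (φ _), this, map_mul (φ h), map_inv (φ h), mul_inv,
        mul_mul_mul_comm]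
  refine ⟨∏ b : B, c b, fun h hh => ?_⟩
  let σ : B ≃ B := (B.normalizerMonoidHom ⟨h, hHB hh⟩).toEquiv
  have n : ∏ b : B, φ b (e h) = 1 := fix _ fun b hb => by
    rw [map_prod, ← Equiv.prod_comp (Equiv.mulLeft (⟨b, hb⟩ : B)) fun b : B => φ b (e h)]
    simp
  conv_rhs => rw [← Equiv.prod_comp σ fun b : B => c b]
  clear_value c
  rw [Finset.prod_congr (f := fun b : B => c (σ b)) rfl fun b _ => c1 h hh b b.2, Finset.prod_mul_distrib,
    Finset.prod_mul_distrib, Finset.prod_inv_distrib, Finset.prod_const, Finset.card_univ, map_prod,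
    ← Nat.card_eq_fintype_card, show ∏ b : B, φ (h * b * h⁻¹) (e h) = 1 from
      (Equiv.prod_comp σ fun b : B => φ b (e h)).trans n, inv_one, mul_one]

section
variable {Γ : Type u} [Group Γ] [Finite Γ] {G V F H D K : Subgroup Γ} {p : ℕ}

theorem val_image {X B : Subgroup Γ} (h : B ≤ X) :
    Subtype.val '' (B.subgroupOf X : Set X) = (B : Set Γ) :=
  congrArg SetLike.coe (map_subgroupOf_eq_of_le h)

theorem val_image' {X : Subgroup Γ} (B : Subgroup X) :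
    Subtype.val '' (B : Set X) = (B.map X.subtype : Set Γ) := rfl

theorem nF (h : Fr G F H) : (F.subgroupOf (F ⊔ H)).Normal :=
  (normal_subgroupOf_iff_le_normalizer le_sup_left).2 (sup_le le_normalizer h.hF)

theorem exB [Fact p.Prime] (h : Fr V F H) (hV : IsElementaryAbelian p V) :
    ∃ B ≤ F, F ⊔ H ≤ N[B] ∧ ¬ p ∣ Nat.card B ∧ V ⊓ C[B] = ⊥ := by
  obtain ⟨W, _, _, _, ρ, -, -, hf, -⟩ := H22.exists_rep_elemAb V hV (F ⊔ H) (sup_le h.fp.nor h.nH)
  have := nF h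
  have := h.fp.nil
  have k := hf (F.subgroupOf (F ⊔ H))
  rw [val_image le_sup_left, h.fp.fpf, card_bot, eq_comm, Nat.pow_eq_one,
    or_iff_right (Fact.out : p.Prime).ne_one, Submodule.finrank_eq_zero] at k
  obtain ⟨B, h1, _, h2, h3⟩ := Cfsg.Agent.S4396.exB ρ (F.subgroupOf (F ⊔ H))
    (H4.isNilpotent_subgroupOf _ _) fun v hv => (Submodule.mem_bot _).1 (k.le hv)
  refine ⟨B.map (F ⊔ H).subtype, map_le_iff_le_comap.2 h1, le_normalizer_map_subtype B, ?_, ?_⟩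
  · rwa [card_subtype, ← CharP.cast_eq_zero_iff (AlgebraicClosure (ZMod p)) p]
  · rw [← card_eq_one, ← val_image', hf, h3, finrank_bot, pow_zero]

theorem conj_ab [Fact p.Prime] (h : Fr V F H) (hV : IsElementaryAbelian p V)
    (h1 : ∀ a ∈ H, ∃ x ∈ V, x * a ∈ D) (h2 : D ⊓ V = ⊥) : ∃ x ∈ V, cj x H ≤ D := by
  obtain ⟨B, b1, b2, b3, b4⟩ := exB h hV
  have bn := b1.trans h.fp.nor
  let : CommGroup V := { (inferInstance : Group V) with mul_comm := hV.1.is_comm.comm }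
  choose! x x1 x2 using h1
  classical
  obtain ⟨w, hw⟩ := higman (V := V) V.normalizerMonoidHom (B := B.subgroupOf N[V])
    (H := H.subgroupOf N[V]) (comap_le_normalizer_comap _ (le_sup_right.trans b2))
    (fun a ha a1 b hb e => Subtype.ext (h.semi a ha (fun k => a1 (Subtype.ext k)) b (b1 hb)
      (congrArg Subtype.val e)))
    (fun v hv => Subtype.ext (mem_bot.1 (b4.le ⟨v.2, fun b hb => mul_inv_eq_iff_eq_mul.1
      (congrArg Subtype.val (hv ⟨b, bn hb⟩ hb))⟩)))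
    (fun a => if k : x a ∈ V then ⟨x a, k⟩ else 1) fun a ha b hb => by
      have m : ((a * b : N[V]) : Γ) ∈ H := H.mul_mem ha hb
      replace ha : a.1 ∈ H := ha
      replace hb : b.1 ∈ H := hb
      rw [dif_pos (x1 _ m), dif_pos (x1 _ ha), dif_pos (x1 _ hb)]
      have k := mul_mem (x2 _ m) (inv_mem (mul_mem (x2 _ ha) (x2 _ hb)))
      rw [show ∀ y, y * ((a * b : N[V]) : Γ) * (x a * a * (x b * b))⁻¹ =
        y * (x a * (a * x b * (a : Γ)⁻¹))⁻¹ from fun y => by rw [Subgroup.coe_mul]; group] at k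
      exact Subtype.ext (mul_inv_eq_one.1 (mem_bot.1 (h2.le (mem_inf.2 ⟨k, mul_mem (x1 _ m) (inv_mem
        (mul_mem (x1 _ ha) (conj_mem_of_mem_normalizer a.2 (x1 _ hb))))⟩))))
  have co : (Nat.card V).Coprime (Nat.card (B.subgroupOf N[V])) := by
    obtain ⟨j, hj⟩ := (show IsPGroup p V from fun v => ⟨1, Subtype.ext (by
      simpa using hV.2 v v.2)⟩).exists_card_eq
    rw [hj, Nat.card_congr (subgroupOfEquivOfLe bn).toEquiv]
    exact ((Fact.out : p.Prime).coprime_iff_not_dvd.2 b3).pow_left j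
  obtain ⟨y, rfl⟩ := (powCoprime co).surjective w
  refine ⟨y, y.2, ?_⟩
  rintro _ ⟨a, ha, rfl⟩
  have := hw ⟨a, h.nH ha⟩ ha
  rw [dif_pos (x1 _ ha), powCoprime_apply, map_pow, ← mul_pow] at this
  have e : x a * (a * y * a⁻¹) = y := congrArg Subtype.val ((powCoprime co).injective this)
  convert x2 a ha using 1
  rw [eq_mul_inv_of_mul_eq e]
  simp [mul_assoc]

theorem card_simple [Fact p.Prime] (h : Fr V F H) (hV : IsElementaryAbelian p V) (h0 : V ≠ ⊥)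
    (mn : ∀ L ≤ V, V ≤ N[L] → F ⊔ H ≤ N[L] → L = ⊥ ∨ L = V) :
    Nat.card V = Nat.card (V ⊓ C[H] : Subgroup Γ) ^ Nat.card H := by
  obtain ⟨B, b1, b2, b3, b4⟩ := exB h hV
  have nV : F ⊔ H ≤ N[V] := sup_le h.fp.nor h.nH
  obtain ⟨W, _, _, _, ρ, -, hk, hf, -⟩ := H22.exists_rep_elemAb V hV (F ⊔ H) nV
  have bX := b1.trans (le_sup_left (b := H))
  have := (normal_subgroupOf_iff_le_normalizer bX).2 b2
  have := h.fp.nil
  have : Group.IsSolvable (B.subgroupOf (F ⊔ H)) := Group.isSolvable_of_isSolvable_injective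
    (f := (inclusion b1).comp (subgroupOfEquivOfLe bX).toMonoidHom)
    ((inclusion_injective b1).comp (subgroupOfEquivOfLe bX).injective)
  obtain ⟨M, _, m1, ⟨k, m2, m3⟩, m4⟩ := H22.exists_normal_comm_action ρ (B.subgroupOf (F ⊔ H)) (by
    by_contra! n
    exact h0 (b4 ▸ (inf_eq_left.2 (le_centralizer_iff.1 fun b hb => (hk ⟨b, bX hb⟩).1 (n _ hb))).symm))
  have e := (mn (V ⊓ C[M.map (F ⊔ H).subtype]) inf_le_left (le_normalizer_of_le_centralizer
    ((le_centralizer_iff_isMulCommutative.2 hV.1).trans (centralizer_anti inf_le_left)))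
    (le_normalizer_inf nV (le_normalizer_centralizer (le_normalizer_map_subtype M)))).resolve_right
    fun e => m3 ((hk k).2 (le_centralizer_iff.1 (inf_eq_left.1 e) ⟨k, m2, rfl⟩))
  have k1 := hf M
  rw [val_image', e, card_bot, eq_comm, Nat.pow_eq_one,
    or_iff_right (Fact.out : p.Prime).ne_one, Submodule.finrank_eq_zero] at k1
  have k2 := H30.FF.num_ab ρ M (H.subgroupOf (F ⊔ H)) (by
      rw [Ne, CharP.cast_eq_zero_iff (AlgebraicClosure (ZMod p)) p]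
      exact fun d => b3 (Nat.card_congr (subgroupOfEquivOfLe bX).toEquiv ▸ d.trans (card_dvd_of_le m1)))
    (fun a ha a1 b hb e => Subtype.ext (h.semi a ha (fun k => a1 (Subtype.ext k)) b (b1 (m1 hb))
      (congrArg Subtype.val e))) m4 k1
  have k3 := hf ∅
  have k4 : H22.fixSp ρ ∅ = ⊤ := eq_top_iff.2 fun _ _ _ k => k.elim
  rw [Set.image_empty, k4, finrank_top, show centralizer (∅ : Set Γ) = ⊤ from
    eq_top_iff.2 fun _ _ _ k => k.elim, inf_top_eq] at k3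
  rw [k3, k2, ← val_image (le_sup_right : H ≤ F ⊔ H), hf, ← pow_mul, mul_comm,
    Nat.card_congr (subgroupOfEquivOfLe (le_sup_right : H ≤ F ⊔ H)).toEquiv]

/-- the quotient by an invariant subgroup -/
theorem quot (h : Fr G F H) (hV : V ≤ G) (nV : G ⊔ (F ⊔ H) ≤ N[V]) {L : Subgroup Γ}
    (hL : L = G ⊔ (F ⊔ H)) : ∃ (Δ : Type u) (_ : Group Δ) (_ : Finite Δ) (f : L →* Δ),
      (∀ x, f x = 1 ↔ x.1 ∈ V) ∧
      Fr ((G.subgroupOf L).map f) ((F.subgroupOf L).map f) ((H.subgroupOf L).map f) ∧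
      ∀ K ≤ L, Nat.card ((K.subgroupOf L).map f) * Nat.card (K ⊓ V : Subgroup Γ) = Nat.card K := by
  subst hL
  have := (normal_subgroupOf_iff_le_normalizer (hV.trans le_sup_left)).2 nV
  refine ⟨_, _, inferInstance, QuotientGroup.mk' (V.subgroupOf _), fun x => QuotientGroup.eq_one_iff x,
    (h.subgroupOf le_sup_left (le_sup_of_le_right le_sup_left) (le_sup_of_le_right le_sup_right)).map _
      (inf_le_left.trans (by rw [QuotientGroup.ker_mk']; exact comap_mono hV)), fun K hK => ?_⟩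
  rw [← relIndex_ker, QuotientGroup.ker_mk', relIndex_subgroupOf hK, ← inf_relIndex_right, inf_comm,
    ← Nat.card_congr (subgroupOfEquivOfLe (inf_le_left : K ⊓ V ≤ K)).toEquiv]
  exact index_mul_card _

end

theorem conj (n : ℕ) : ∀ (Γ : Type u) [Group Γ] [Finite Γ] (G F H D : Subgroup Γ), Nat.card G = n →
    Fr G F H → (∀ a ∈ H, ∃ x ∈ G, x * a ∈ D) → D ⊓ G = ⊥ → ∃ x ∈ G, cj x H ≤ D := by
  induction n using Nat.strong_induction_on with | _ n ih
  intro Γ _ _ G F H D hn h h1 h2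
  by_cases e : G = ⊥
  · refine ⟨1, one_mem _, (cj_one H).le.trans fun a ha => ?_⟩
    obtain ⟨x, hx, k⟩ := h1 a ha
    rwa [mem_bot.1 (e.le hx), one_mul] at k
  obtain ⟨p, V, hp, v1, v2, v3, -, v4, v5, -⟩ := H47.exists_elemAb_invariant h.sol e
    (X := F ⊔ H) (sup_le h.fp.nor h.nH)
  have := Fact.mk hp
  obtain ⟨Δ, _, _, f, f1, f2, f3⟩ := quot h v1 (sup_le v4 v5) rfl
  have hH : H ≤ G ⊔ (F ⊔ H) := le_sup_of_le_right le_sup_right
  obtain ⟨_, ⟨x, hx, rfl⟩, k⟩ := ih _ (by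
      rw [← hn, ← f3 G le_sup_left, inf_eq_right.2 v1]
      exact lt_mul_of_one_lt_right Nat.card_pos ((one_lt_card_iff_ne_bot _).2 v2))
    Δ _ _ _ ((D.subgroupOf _).map f) rfl f2 (by
      rintro _ ⟨a, ha, rfl⟩
      obtain ⟨x, hx, k⟩ := h1 a ha
      exact ⟨_, ⟨⟨x, mem_sup_left hx⟩, hx, rfl⟩, _, (k : ⟨x, mem_sup_left hx⟩ * a ∈ D.subgroupOf _),
        map_mul _ _ _⟩) (eq_bot_iff.2 (by
      rintro _ ⟨⟨d, hd, rfl⟩, y, hy, e⟩
      have := v1 ((f1 (y⁻¹ * d)).1 (by rw [map_mul, map_inv, e, inv_mul_cancel]))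
      have k : d.1 = 1 := mem_bot.1 (h2.le ⟨hd, (mul_mem_cancel_left (inv_mem hy)).1 this⟩)
      exact (f1 d).2 (k ▸ one_mem _)))
  obtain ⟨y, hy, k'⟩ := conj_ab (D := cj x.1⁻¹ D) (h.mono v1 (le_sup_left.trans v5)
    (le_sup_right.trans v5)) v3 (fun a ha => by
      obtain ⟨d, hd, e⟩ := k (conj_mem_cj (g := f x) ⟨⟨a, hH ha⟩, ha, rfl⟩)
      refine ⟨_, conj_mem_of_mem_normalizer' (v4 hx) ((f1 (d * (x * ⟨a, hH ha⟩ * x⁻¹)⁻¹)).1 (by
        rw [map_mul, e]; simp)), mem_cj.2 ?_⟩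
      simpa [mul_assoc] using mem_subgroupOf.1 hd) (by
      rw [← cj_eq_self (g := x.1⁻¹) (inv_mem (v4 hx)), ← cj_inf, cj_eq_bot_iff]
      exact eq_bot_iff.2 ((inf_le_inf_left _ v1).trans h2.le))
  exact ⟨x * y, mul_mem hx (v1 hy), by rwa [← cj_cj, cj_le_iff]⟩

theorem jobH1 : JobH1.{u} := fun Γ _ _ N F H x h hx => by
  have d : ∀ a ∈ N, a ∈ H → a = 1 := fun a k k' => mem_bot.1 (h.dis.le ⟨k, mem_sup_right k'⟩)
  obtain ⟨n, hn, k⟩ := conj _ Γ N F H (cj x H) rfl h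
    (fun a ha => ⟨_, hx a ha, by simpa using conj_mem_cj (g := x) ha⟩) (eq_bot_iff.2 (by
      rintro _ ⟨⟨a, ha, rfl⟩, k⟩
      have := (N.mul_mem_cancel_left (x := x * a * x⁻¹) k).1 (hx a ha)
      simp [d a (inv_mem_iff.1 this) ha]))
  refine ⟨n⁻¹, inv_mem hn, fun a ha => ?_⟩
  rw [le_cj_iff, cj_cj] at k
  have k1 : cj (n⁻¹ * x) H = H := by
    rw [← cj_inj (g := x⁻¹ * n), cj_cj, eq_of_le_of_card_ge k (card_cj _ _).ge]
    simp
  have := d (n⁻¹ * x * a * (n⁻¹ * x)⁻¹ * a⁻¹) (by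
    convert mul_mem (mul_mem (inv_mem hn) (hx a ha)) (conj_mem_of_mem_normalizer (h.nH ha) hn) using 1
    group) (mul_mem (k1.le (conj_mem_cj ha)) (inv_mem ha))
  rw [mul_inv_eq_one, mul_inv_eq_iff_eq_mul] at this
  exact this.symm

theorem card (n : ℕ) : ∀ (Γ : Type u) [Group Γ] [Finite Γ] (G F H : Subgroup Γ), Nat.card G = n →
    Fr G F H → Nat.card G = Nat.card (G ⊓ C[H] : Subgroup Γ) ^ Nat.card H := by
  induction n using Nat.strong_induction_on with | _ n ih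
  intro Γ _ _ G F H hn h
  by_cases e : G = ⊥
  · simp [e]
  obtain ⟨p, V, hp, v1, v2, v3, -, v4, v5, v6⟩ := H47.exists_elemAb_invariant h.sol e
    (X := F ⊔ H) (sup_le h.fp.nor h.nH)
  have := Fact.mk hp
  rcases v1.eq_or_lt with rfl | lt
  · exact card_simple h v3 e v6
  have hV := h.mono v1 (le_sup_left.trans v5) (le_sup_right.trans v5)
  obtain ⟨Δ, _, _, f, f1, f2, f3⟩ := quot h v1 (sup_le v4 v5) rfl
  have hH : H ≤ G ⊔ (F ⊔ H) := le_sup_of_le_right le_sup_right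
  have e1 := f3 G le_sup_left
  have e2 := f3 H hH
  have e3 := f3 (G ⊓ C[H]) (inf_le_left.trans le_sup_left)
  rw [inf_eq_right.2 v1] at e1
  rw [inf_comm, eq_bot_iff.2 ((inf_le_inf_left V le_sup_right).trans hV.dis.le), card_bot, mul_one] at e2
  rw [inf_right_comm, inf_eq_right.2 v1] at e3
  have e4 : ((G.subgroupOf _).map f) ⊓ C[(H.subgroupOf _).map f] = ((G ⊓ C[H]).subgroupOf _).map f := by
    refine le_antisymm ?_ (le_inf (map_mono (comap_mono inf_le_left)) (map_le_centralizer_map f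
      ((comap_mono inf_le_right).trans (centralizer_subgroupOf hH).ge)))
    rintro _ ⟨⟨x, hx, rfl⟩, k⟩
    obtain ⟨y, hy, k'⟩ := jobH1 Γ V F H x hV fun a ha => (f1 (x * ⟨a, hH ha⟩ * x⁻¹ * ⟨a, hH ha⟩⁻¹)).1 (by
      rw [map_mul, map_mul, map_mul, ← k _ ⟨⟨a, hH ha⟩, ha, rfl⟩]; simp)
    exact ⟨⟨y, mem_sup_left (v1 hy)⟩ * x, ⟨mul_mem (v1 hy) hx, k'⟩, by
      rw [map_mul, (f1 _).2 hy, one_mul]⟩
  rw [← e1, ih _ (by
      rw [← hn, ← e1]
      exact lt_mul_of_one_lt_right Nat.card_pos ((one_lt_card_iff_ne_bot _).2 v2)) Δ _ _ _ rfl f2,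
    ih _ (hn ▸ card_lt_of_lt lt) Γ V F H rfl hV, e4, e2, ← mul_pow, e3]

theorem jobCard : JobCard.{u} := fun Γ _ _ G F H => card _ Γ G F H rfl

/-- an `F`-invariant subgroup which contains `C_G(H)` is `G` -/
theorem gen {Γ : Type u} [Group Γ] [Finite Γ] {G F H K : Subgroup Γ} (h : Fr G F H) (hK : K ≤ G)
    (nK : F ≤ N[K]) (hC : G ⊓ C[H] ≤ K) : K = G := by
  have l : ⨅ a : H, cj a.1 K ≤ K := (iInf_le _ 1).trans (cj_one K).le
  have e := jobCard Γ (⨅ a : H, cj a.1 K) F H (h.mono (l.trans hK)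
    (fun f hf => mem_normalizer_of_cj_le (le_iInf fun a => (cj_mono _ (iInf_le _ a)).trans (by
      rw [cj_cj, show f * a = a * (a.1⁻¹ * f * a) by group, ← cj_cj,
        cj_eq_self (nK (conj_mem_of_mem_normalizer' (h.hF a.2) hf))])))
    fun b hb => mem_normalizer_of_cj_le (le_iInf fun a =>
      (cj_mono _ (iInf_le _ (⟨b, hb⟩⁻¹ * a))).trans (by rw [cj_cj]; simp)))
  rw [le_antisymm (inf_le_inf_right _ (l.trans hK)) (le_inf (le_iInf fun a x hx => mem_cj.2 (by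
    rw [mul_assoc, ← hx.2 a a.2, inv_mul_cancel_left]; exact hC hx)) inf_le_right),
    ← jobCard Γ G F H h] at e
  exact le_antisymm hK ((eq_of_le_of_card_ge (l.trans hK) e.ge).ge.trans l)

section
variable {G : Type u} {A : Type v} [Group G] [Finite G] [Group A] [Finite A] [MulDistribMulAction A G]
  (thm : H14.NF.Thm.{max u v}) (Fk Hc : Subgroup A) [Fk.Normal] (hHc : IsFrobeniusComplement Hc)
  (hker : frobeniusKernel Hc = (Fk : Set A))
include thm hHc hker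

theorem row4121 (N : Subgroup G) (hNA : ∀ (a : A) (n : G), n ∈ N → a • n ∈ N)
    (hCNF : ∀ n ∈ N, (∀ f ∈ Fk, f • n = n) → n = 1) (g : G) (hg : ∀ h ∈ Hc, g⁻¹ * h • g ∈ N) :
    ∃ c : G, (∀ h ∈ Hc, h • c = c) ∧ c⁻¹ * g ∈ N := by
  obtain ⟨_, ⟨n, hn, rfl⟩, k⟩ := jobH1 _ _ _ _ (inl g⁻¹) (sd_fr (thm _) hHc hker hNA hCNF) (by
    rintro _ ⟨a, ha, rfl⟩
    exact ⟨_, hg a ha, by rw [map_mul, ← sd_conj]; simp [mul_assoc]⟩)
  rw [← map_mul] at k
  exact ⟨(n * g⁻¹)⁻¹, fun a ha => by rw [smul_inv', sd_cent.1 k a ha], by simpa using hn⟩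

theorem row4119 (hCF : ∀ g : G, (∀ f ∈ Fk, f • g = g) → g = 1) :
    Nat.card G = Nat.card {g : G | ∀ h ∈ Hc, h • g = g} ^ Nat.card Hc := by
  have e := jobCard _ _ _ _ (sd_fr (K := ⊤) (thm _) hHc hker (fun _ _ _ => mem_top _) fun g _ => hCF g)
  rw [sd_fix (C := FixedPoints.subgroup Hc G) fun g => ⟨fun k a ha => k ⟨a, ha⟩, fun k a => k a a.2⟩,
    card_map_of_injective inl_injective, card_map_of_injective inl_injective,
    card_map_of_injective inr_injective, card_top, top_inf_eq] at e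
  exact e.trans (congrArg (· ^ _) (Nat.card_congr (Equiv.subtypeEquivRight fun g =>
    ⟨fun k a ha => k ⟨a, ha⟩, fun k a => k a a.2⟩)))

theorem row4122 (hCF : ∀ g : G, (∀ f ∈ Fk, f • g = g) → g = 1) :
    closure {x : G | ∃ f ∈ Fk, ∃ c : G, (∀ h ∈ Hc, h • c = c) ∧ x = f • c} = ⊤ := by
  refine map_injective (inl_injective (φ := MulDistribMulAction.toMulAut A G))
    (gen (sd_fr (K := ⊤) (thm _) hHc hker (fun _ _ _ => mem_top _) fun g _ => hCF g) (map_mono le_top)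
      (sd_nor.2 fun a ha x hx => ?_) ?_)
  · refine mem_comap.1 ((closure_le (comap (MulDistribMulAction.toMonoidHom G a) (closure _))).2 ?_ hx)
    rintro _ ⟨f, hf, c, hc, rfl⟩
    exact subset_closure ⟨a * f, mul_mem ha hf, c, hc, (mul_smul a f c).symm⟩
  · rintro _ ⟨⟨g, -, rfl⟩, k⟩
    exact ⟨g, subset_closure ⟨1, one_mem _, g, sd_cent.1 k, (one_smul A g).symm⟩, rfl⟩

end

end H66.NF
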