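import Cfsg.Agent.H70.ReeSpec

/-! ORD3.md, section N: the arithmetic of one field. -/

set_option autoImplicit false

namespace H66.O3

open H70.Sq

/-- The colours as polynomials in `t = (3 ^ n - 1) / 2`. -/
structure Par (n t : ℕ) : Prop where
  big : 10 ^ 6 ≤ t
  q : 3 ^ (2 * n + 1) = 12 * t ^ 2 + 12 * t + 3
  r : 3 ^ (n + 1) = 6 * t + 3
  c0 : rc n 0 = 6 * t ^ 2 + 6 * t + 1
  c1 : rc n 1 = 3 * t ^ 2 + 3 * t + 1
  c23 : (rc n 2 = 12 * t ^ 2 + 6 * t + 1 ∧ 7 * rc n 3 = 12 * t ^ 2 + 18 * t + 7) ∨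
    (rc n 2 = 12 * t ^ 2 + 18 * t + 7 ∧ 7 * rc n 3 = 12 * t ^ 2 + 6 * t + 1)
  m91 : 3 ^ (2 * n + 1) % 91 = 3 ∨ 3 ^ (2 * n + 1) % 91 = 61

theorem mod91 {n : ℕ} (hp : (2 * n + 1).Prime) (hn : 50 ≤ n) :
    3 ^ (2 * n + 1) % 91 = 3 ∨ 3 ^ (2 * n + 1) % 91 = 61 := by
  have h3 : ¬ 3 ∣ 2 * n + 1 := fun h => by
    have := (Nat.prime_dvd_prime_iff_eq Nat.prime_three hp).1 h
    omega
  have e : ∀ k r, 3 ^ (6 * k + r) % 91 = 3 ^ r % 91 := fun k r => by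
    have h : (3 ^ 6) ^ k * 3 ^ r ≡ 1 ^ k * 3 ^ r [MOD 91] :=
      (Nat.ModEq.pow k (by decide)).mul_right _
    rw [pow_add, pow_mul]
    rw [one_pow, one_mul] at h
    exact h
  obtain ⟨k, hk | hk⟩ : ∃ k, 2 * n + 1 = 6 * k + 1 ∨ 2 * n + 1 = 6 * k + 5 := ⟨n / 3, by omega⟩
  · rw [hk, e]; exact .inl rfl
  · rw [hk, e]; exact .inr rfl

theorem par {n : ℕ} (hp : (2 * n + 1).Prime) (hn : 50 ≤ n) : ∃ t, Par n t := by
  obtain ⟨t, ht⟩ : Odd (3 ^ n) := Odd.pow (by decide)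
  have h50 : 3 ^ 50 ≤ 3 ^ n := Nat.pow_le_pow_right (by decide) hn
  have q : 3 ^ (2 * n + 1) = 12 * t ^ 2 + 12 * t + 3 := by rw [pow_succ, pow_mul', ht]; ring
  have r : 3 ^ (n + 1) = 6 * t + 3 := by rw [pow_succ, ht]; ring
  have hP : cP n = 12 * t ^ 2 + 18 * t + 7 := by rw [cP, q, r]; ring
  have hM : cM n = 12 * t ^ 2 + 6 * t + 1 := by rw [cM, q, r]; omega
  have m91 := mod91 hp hn
  refine ⟨t, by omega, q, r, ?_, ?_, ?_, m91⟩
  · change (3 ^ (2 * n + 1) - 1) / 2 = _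
    omega
  · change (3 ^ (2 * n + 1) + 1) / 4 = _
    omega
  · change ((if 7 ∣ cP n then cM n else cP n) = _ ∧ 7 * ((if 7 ∣ cP n then cP n else cM n) / 7) = _) ∨
      ((if 7 ∣ cP n then cM n else cP n) = _ ∧ 7 * ((if 7 ∣ cP n then cP n else cM n) / 7) = _)
    by_cases h : 7 ∣ cP n
    · rw [if_pos h, if_pos h, Nat.mul_div_cancel' h]
      exact .inl ⟨hM, hP⟩
    · have h7 : 7 ∣ cP n * cM n := by
        have e : cP n * cM n + 3 ^ (2 * n + 1) = (3 ^ (2 * n + 1)) ^ 2 + 1 := by rw [hP, hM, q]; ring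
        obtain ⟨k, hk | hk⟩ : ∃ k, 3 ^ (2 * n + 1) = 7 * k + 3 ∨ 3 ^ (2 * n + 1) = 7 * k + 5 :=
          ⟨3 ^ (2 * n + 1) / 7, by omega⟩
        · rw [hk, show (7 * k + 3) ^ 2 = 49 * k ^ 2 + 42 * k + 9 by ring] at e
          omega
        · rw [hk, show (7 * k + 5) ^ 2 = 49 * k ^ 2 + 70 * k + 25 by ring] at e
          omega
      rw [if_neg h, if_neg h,
        Nat.mul_div_cancel' (((by norm_num : Nat.Prime 7).dvd_mul.1 h7).resolve_left h)]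
      exact .inr ⟨hP, hM⟩

namespace Par

variable {n t : ℕ} (h : Par n t)
include h

theorem prod : rc n 2 * (7 * rc n 3) + 3 ^ (2 * n + 1) = (3 ^ (2 * n + 1)) ^ 2 + 1 := by
  rcases h.c23 with ⟨a, b⟩ | ⟨a, b⟩ <;> rw [a, b, h.q] <;> ring

theorem one_lt (x : Fin 4) : 1 < rc n x := by
  have := h.big
  have := h.c0
  have := h.c1
  have := h.c23
  fin_cases x
  · change 1 < rc n 0; omega
  · change 1 < rc n 1; omega
  · change 1 < rc n 2; omega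
  · change 1 < rc n 3; omega

theorem le (x : Fin 4) : rc n x ≤ 3 ^ (2 * n + 1 + 1) := by
  have := h.big
  have := h.c0
  have := h.c1
  have := h.c23
  rw [pow_succ, h.q]
  fin_cases x
  · change rc n 0 ≤ _; omega
  · change rc n 1 ≤ _; omega
  · change rc n 2 ≤ _; omega
  · change rc n 3 ≤ _; omega

theorem odd (x : Fin 4) : ¬ 2 ∣ rc n x := by
  have h0 := h.c0
  have h1 := h.c1
  have h2 := h.c23
  obtain ⟨k, hk⟩ := Nat.even_mul_succ_self t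
  have : t ^ 2 + t = k + k := by rw [← hk]; ring
  fin_cases x
  · change ¬ 2 ∣ rc n 0; omega
  · change ¬ 2 ∣ rc n 1; omega
  · change ¬ 2 ∣ rc n 2; omega
  · change ¬ 2 ∣ rc n 3; omega

/-- a divisor of `q² - q + 1` -/
theorem cube {s : ℕ} (hs : s ∣ rc n 2 * (7 * rc n 3)) : (3 : ZMod s) ^ (3 * (2 * n + 1)) = -1 := by
  have e := congrArg (Nat.cast : ℕ → ZMod s) h.prod
  rw [Nat.cast_add, (ZMod.natCast_eq_zero_iff _ _).2 hs] at e
  push_cast at e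
  rw [pow_mul']
  linear_combination (-(3 : ZMod s) ^ (2 * n + 1) - 1) * e

theorem n49 (hp : (2 * n + 1).Prime) (hn : 50 ≤ n) : ¬ 49 ∣ rc n 2 * (7 * rc n 3) := fun hs => by
  have e : (3 : ZMod 49) ^ (6 * (2 * n + 1)) = 1 := by
    rw [show 6 * (2 * n + 1) = 3 * (2 * n + 1) * 2 by ring, pow_mul, h.cube hs]; norm_num
  have e' : (3 : ZMod 49) ^ (6 * 7) = 1 := by decide +kernel
  have c : Nat.Coprime (2 * n + 1) 7 := (Nat.coprime_primes hp (by norm_num)).2 (by omega)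
  have := Nat.dvd_gcd (orderOf_dvd_of_pow_eq_one e) (orderOf_dvd_of_pow_eq_one e')
  rw [Nat.gcd_mul_left, c.gcd_eq_one] at this
  exact absurd (orderOf_dvd_iff_pow_eq_one.1 this) (by decide +kernel)

theorem n7 (hp : (2 * n + 1).Prime) (hn : 50 ≤ n) (x : Fin 4) : ¬ 7 ∣ rc n x := by
  have h0 := h.c0
  have h1 := h.c1
  have hq := h.q
  have hm := h.m91
  have h49 := h.n49 hp hn
  fin_cases x
  · change ¬ 7 ∣ rc n 0; omega
  · change ¬ 7 ∣ rc n 1; omega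
  · exact fun hd => h49 (mul_dvd_mul hd (dvd_mul_right 7 _))
  · exact fun hd => h49 ((mul_dvd_mul_left 7 hd).mul_left _)

theorem n13 (x : Fin 4) : ¬ 13 ∣ rc n x := by
  have h0 := h.c0
  have h1 := h.c1
  have hq := h.q
  have hm := h.m91
  have h13 : ¬ 13 ∣ rc n 2 * (7 * rc n 3) := by
    have e := h.prod
    obtain ⟨k, hk | hk⟩ : ∃ k, 3 ^ (2 * n + 1) = 13 * k + 3 ∨ 3 ^ (2 * n + 1) = 13 * k + 9 :=
      ⟨3 ^ (2 * n + 1) / 13, by omega⟩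
    · rw [hk, show (13 * k + 3) ^ 2 = 169 * k ^ 2 + 78 * k + 9 by ring] at e
      omega
    · rw [hk, show (13 * k + 9) ^ 2 = 169 * k ^ 2 + 234 * k + 81 by ring] at e
      omega
  fin_cases x
  · change ¬ 13 ∣ rc n 0; omega
  · change ¬ 13 ∣ rc n 1; omega
  · exact fun hd => h13 (hd.mul_right _)
  · exact fun hd => h13 ((hd.mul_left _).mul_left _)

theorem pow_cases {s : ℕ} {x : Fin 4} (hx : s ∣ rc n x) :
    (3 : ZMod s) ^ (2 * n + 1) = 1 ∨ (3 : ZMod s) ^ (3 * (2 * n + 1)) = -1 := by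
  have hq := congrArg (Nat.cast : ℕ → ZMod s) h.q
  push_cast at hq
  fin_cases x
  · have e := (ZMod.natCast_eq_zero_iff _ _).2 (h.c0 ▸ hx : s ∣ 6 * t ^ 2 + 6 * t + 1)
    push_cast at e
    exact .inl (by linear_combination hq + 2 * e)
  · have e := (ZMod.natCast_eq_zero_iff _ _).2 (h.c1 ▸ hx : s ∣ 3 * t ^ 2 + 3 * t + 1)
    push_cast at e
    right
    rw [pow_mul', show (3 : ZMod s) ^ (2 * n + 1) = -1 by linear_combination hq + 4 * e]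
    norm_num
  · exact .inr (h.cube (Dvd.dvd.mul_right hx _))
  · exact .inr (h.cube ((Dvd.dvd.mul_left hx _).mul_left _))

theorem pow_six {s : ℕ} {x : Fin 4} (hx : s ∣ rc n x) : (3 : ZMod s) ^ (6 * (2 * n + 1)) = 1 := by
  rcases h.pow_cases hx with e | e
  · rw [pow_mul', e, one_pow]
  · rw [show 6 * (2 * n + 1) = 3 * (2 * n + 1) * 2 by ring, pow_mul, e]; norm_num

/-- the order of `3` modulo a private prime is a multiple of `2 n + 1` -/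
theorem dvd_of_pow (hp : (2 * n + 1).Prime) (hn : 50 ≤ n) {s : ℕ} (hs : s.Prime) {x : Fin 4}
    (hx : s ∣ rc n x) {k : ℕ} (hk : (3 : ZMod s) ^ k = 1) : 2 * n + 1 ∣ k := by
  by_contra hd
  have c : Nat.Coprime (orderOf (3 : ZMod s)) (2 * n + 1) :=
    ((Nat.Prime.coprime_iff_not_dvd hp).2 fun h' => hd (h'.trans (orderOf_dvd_of_pow_eq_one hk))).symm
  have h6 := orderOf_dvd_iff_pow_eq_one.1
    (c.dvd_of_dvd_mul_right (orderOf_dvd_of_pow_eq_one (h.pow_six hx)))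
  have h728 : s ∣ 2 ^ 3 * (7 * 13) := by
    rw [← ZMod.natCast_eq_zero_iff]
    push_cast
    linear_combination h6
  rcases hs.dvd_mul.1 h728 with e | e
  · exact h.odd x ((Nat.prime_dvd_prime_iff_eq hs Nat.prime_two).1 (hs.dvd_of_dvd_pow e) ▸ hx)
  · rcases hs.dvd_mul.1 e with e | e
    · exact h.n7 hp hn x ((Nat.prime_dvd_prime_iff_eq hs (by norm_num)).1 e ▸ hx)
    · exact h.n13 x ((Nat.prime_dvd_prime_iff_eq hs (by norm_num)).1 e ▸ hx)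

theorem lt (hp : (2 * n + 1).Prime) (hn : 50 ≤ n) {s : ℕ} (hs : s.Prime) {x : Fin 4}
    (hx : s ∣ rc n x) : 2 * n + 1 < s := by
  have := Fact.mk hs
  have h0 : (3 : ZMod s) ≠ 0 := fun e => by
    have := h.pow_six hx
    rw [e, zero_pow (by omega)] at this
    exact zero_ne_one this
  have h1 := Nat.le_of_dvd (by have := hs.two_le; omega)
    (h.dvd_of_pow hp hn hs hx (ZMod.pow_card_sub_one_eq_one h0))
  have := hs.two_le
  omega

theorem cop (hp : (2 * n + 1).Prime) (hn : 50 ≤ n) {s : ℕ} (hs : s.Prime) {x y : Fin 4}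
    (hx : s ∣ rc n x) (hy : s ∣ rc n y) : x = y := by
  have hlt := h.lt hp hn hs hx
  have n3 : ¬ s ∣ 3 := fun e => by have := Nat.le_of_dvd (by norm_num) e; omega
  have W : rc n 2 * (7 * rc n 3) = (12 * t ^ 2 + 6 * t + 1) * (12 * t ^ 2 + 18 * t + 7) := by
    rcases h.c23 with ⟨a, b⟩ | ⟨a, b⟩ <;> rw [a, b, mul_comm]
  have a01 : s ∣ rc n 0 → s ∣ rc n 1 → False := fun a b => n3 (by
    have e : rc n 1 * 6 = rc n 0 * 3 + 3 := by rw [h.c0, h.c1]; ring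
    exact (Nat.dvd_add_right (a.mul_right 3)).1 (e ▸ b.mul_right 6))
  have a0 : s ∣ rc n 0 → s ∣ rc n 2 * (7 * rc n 3) → False := fun a b => n3 (by
    have e : rc n 2 * (7 * rc n 3) * 3 = rc n 0 * (72 * t ^ 2 + 72 * t + 18) + 3 := by
      rw [W, h.c0]; ring
    exact (Nat.dvd_add_right (a.mul_right _)).1 (e ▸ b.mul_right 3))
  have a1 : s ∣ rc n 1 → s ∣ rc n 2 * (7 * rc n 3) → False := fun a b => n3 (by
    have e : rc n 2 * (7 * rc n 3) = rc n 1 * (48 * t ^ 2 + 48 * t + 4) + 3 := by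
      rw [W, h.c1]; ring
    exact (Nat.dvd_add_right (a.mul_right _)).1 (e ▸ b))
  have a23 : s ∣ rc n 2 → s ∣ rc n 3 → False := fun a b => by
    have e : s ∣ 2 * 3 ^ (n + 1) := by
      rw [h.r]
      rcases h.c23 with ⟨c, d⟩ | ⟨c, d⟩
      · exact (Nat.dvd_add_right a).1 ((show 7 * rc n 3 = rc n 2 + 2 * (6 * t + 3) by omega) ▸ b.mul_left 7)
      · exact (Nat.dvd_add_right (b.mul_left 7)).1 ((show rc n 2 = 7 * rc n 3 + 2 * (6 * t + 3) by omega) ▸ a)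
    rcases hs.dvd_mul.1 e with e | e
    · have := Nat.le_of_dvd (by norm_num) e; omega
    · exact n3 (hs.dvd_of_dvd_pow e)
  have d2 : s ∣ rc n 2 → s ∣ rc n 2 * (7 * rc n 3) := fun a => a.mul_right _
  have d3 : s ∣ rc n 3 → s ∣ rc n 2 * (7 * rc n 3) := fun a => (a.mul_left _).mul_left _
  fin_cases x <;> fin_cases y
  exacts [rfl, (a01 hx hy).elim, (a0 hx (d2 hy)).elim, (a0 hx (d3 hy)).elim,
    (a01 hy hx).elim, rfl, (a1 hx (d2 hy)).elim, (a1 hx (d3 hy)).elim,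
    (a0 hy (d2 hx)).elim, (a1 hy (d2 hx)).elim, rfl, (a23 hx hy).elim,
    (a0 hy (d3 hx)).elim, (a1 hy (d3 hx)).elim, (a23 hy hx).elim, rfl]

omit h in
theorem quad {t a b c a' b' c' : ℕ} (hb : b < t) (hc : c < t) (hb' : b' < t) (hc' : c' < t)
    (e : t * (t * a + b) + c = t * (t * a' + b') + c') : a = a' ∧ b = b' ∧ c = c' := by
  have h1 := congrArg (· % t) e
  simp only [Nat.mul_add_mod, Nat.mod_eq_of_lt hc, Nat.mod_eq_of_lt hc'] at h1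
  rw [h1, add_left_inj, mul_right_inj' (by omega)] at e
  have h2 := congrArg (· % t) e
  simp only [Nat.mul_add_mod, Nat.mod_eq_of_lt hb, Nat.mod_eq_of_lt hb'] at h2
  rw [h2, add_left_inj, mul_right_inj' (by omega)] at e
  exact ⟨e, h2, h1⟩

theorem form (x : Fin 4) : ∃ a b c, 7 * rc n x = t * (t * a + b) + c ∧
    (x = 0 ∧ a = 42 ∧ b = 42 ∧ c = 7 ∨ x = 1 ∧ a = 21 ∧ b = 21 ∧ c = 7 ∨
      x = 2 ∧ a = 84 ∧ (b = 42 ∧ 7 * rc n 3 ≠ 12 * t ^ 2 + 6 * t + 1 ∨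
        b = 126 ∧ 7 * rc n 3 = 12 * t ^ 2 + 6 * t + 1) ∧ c ≤ 49 ∨
      x = 3 ∧ a = 12 ∧ (b = 18 ∧ 7 * rc n 3 ≠ 12 * t ^ 2 + 6 * t + 1 ∨
        b = 6 ∧ 7 * rc n 3 = 12 * t ^ 2 + 6 * t + 1) ∧ c ≤ 49) := by
  fin_cases x
  · exact ⟨42, 42, 7, by change 7 * rc n 0 = _; rw [h.c0]; ring, .inl ⟨rfl, rfl, rfl, rfl⟩⟩
  · exact ⟨21, 21, 7, by change 7 * rc n 1 = _; rw [h.c1]; ring, .inr (.inl ⟨rfl, rfl, rfl, rfl⟩)⟩
  · rcases h.c23 with ⟨a, b⟩ | ⟨a, b⟩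
    · exact ⟨84, 42, 7, by change 7 * rc n 2 = _; rw [a]; ring,
        .inr (.inr (.inl ⟨rfl, rfl, .inl ⟨rfl, by omega⟩, by norm_num⟩))⟩
    · exact ⟨84, 126, 49, by change 7 * rc n 2 = _; rw [a]; ring,
        .inr (.inr (.inl ⟨rfl, rfl, .inr ⟨rfl, b⟩, by norm_num⟩))⟩
  · rcases h.c23 with ⟨a, b⟩ | ⟨a, b⟩
    · exact ⟨12, 18, 7, by change 7 * rc n 3 = _; rw [b]; ring,
        .inr (.inr (.inr ⟨rfl, rfl, .inl ⟨rfl, by omega⟩, by norm_num⟩))⟩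
    · exact ⟨12, 6, 1, by change 7 * rc n 3 = _; rw [b]; ring,
        .inr (.inr (.inr ⟨rfl, rfl, .inr ⟨rfl, b⟩, by norm_num⟩))⟩

theorem l2 {y z : Fin 4} {a b : ℕ} (hyz : y ≠ z) (ha : a ∣ 126) (hb : b ∣ 126)
    (e : a * rc n y + 1 = b * rc n z) : 2 * (a * rc n y) + 1 = 3 ^ (2 * n + 1) := by
  have ha0 := Nat.pos_of_dvd_of_pos ha (by norm_num)
  have ha1 := Nat.le_of_dvd (by norm_num) ha
  have hb1 := Nat.le_of_dvd (by norm_num) hb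
  have ht := h.big
  obtain ⟨α, β, γ, e1, h1⟩ := h.form y
  obtain ⟨α', β', γ', e2, h2⟩ := h.form z
  have e3 : t * (t * (a * α) + a * β) + (a * γ + 7) = t * (t * (b * α') + b * β') + b * γ' := by
    linear_combination 7 * e - a * e1 + b * e2
  have b1 : β ≤ 126 ∧ γ ≤ 49 := by omega
  have b2 : β' ≤ 126 ∧ γ' ≤ 49 := by omega
  obtain ⟨k1, k2, k3⟩ := quad (by nlinarith) (by nlinarith) (by nlinarith) (by nlinarith) e3
  rcases h1 with ⟨rfl, rfl, rfl, rfl⟩ | ⟨rfl, rfl, rfl, rfl⟩ | ⟨rfl, rfl, h1, -⟩ | ⟨rfl, rfl, h1, -⟩ <;>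
    rcases h2 with ⟨rfl, rfl, rfl, rfl⟩ | ⟨rfl, rfl, rfl, rfl⟩ | ⟨rfl, rfl, h2, -⟩ | ⟨rfl, rfl, h2, -⟩
  · exact absurd rfl hyz
  · rw [show a = 1 by omega, h.c0, h.q]; ring
  all_goals first
    | exact absurd rfl hyz
    | omega
    | (rcases h1 with ⟨rfl, h1⟩ | ⟨rfl, h1⟩ <;> omega)
    | (rcases h2 with ⟨rfl, h2⟩ | ⟨rfl, h2⟩ <;> omega)
    | (rcases h1 with ⟨rfl, h1⟩ | ⟨rfl, h1⟩ <;> rcases h2 with ⟨rfl, h2⟩ | ⟨rfl, h2⟩ <;> omega)

end Par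

end H66.O3
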