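import Cfsg.Agent.H66.O3N1
import Cfsg.Agent.H27.Zsigmondy

/-! ORD3.md, section N: `JobRN0` and `JobRN`. -/

set_option autoImplicit false
set_option linter.unusedSectionVars false

namespace H66.O3

open H70.Sq

theorem exists_of_pow_dvd_lcm {ι : Type*} {S : Finset ι} {f : ι → ℕ} (hf : ∀ i, f i ≠ 0) {s k : ℕ}
    (hs : s.Prime) (h : s ^ (k + 1) ∣ S.lcm f) : ∃ i, s ^ (k + 1) ∣ f i := by
  have h0 : S.lcm f ≠ 0 := fun e => by
    obtain ⟨i, -, hi⟩ := Finset.lcm_eq_zero_iff.1 e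
    exact hf i hi
  rw [hs.pow_dvd_iff_le_factorization h0, Finset.factorization_lcm fun i _ => hf i,
    Finset.le_sup_iff (Nat.succ_pos k)] at h
  obtain ⟨i, -, hi⟩ := h
  exact ⟨i, (hs.pow_dvd_iff_le_factorization (hf i)).2 hi⟩

theorem rmu_cases (n : ℕ) (y : Fin 6) :
    (∃ (x : Fin 4) (a : ℕ), (y : ℕ) = x ∧ a ∣ 14 ∧ rmu n y = a * rc n x ∧ (x = 2 → a = 1) ∧
      (x = 0 → a = 2)) ∨ (4 ≤ (y : ℕ) ∧ rmu n y ∣ 18) := by
  fin_cases y
  · exact .inl ⟨0, 2, rfl, by norm_num, rfl, by decide, fun _ => rfl⟩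
  · exact .inl ⟨1, 2, rfl, by norm_num, rfl, by decide, by decide⟩
  · exact .inl ⟨2, 1, rfl, by norm_num, (one_mul _).symm, fun _ => rfl, by decide⟩
  · exact .inl ⟨3, 7, rfl, by norm_num, rfl, by decide, by decide⟩
  · exact .inr ⟨le_rfl, (by norm_num : 6 ∣ 18)⟩
  · exact .inr ⟨by decide, (by norm_num : 9 ∣ 18)⟩

section

variable {ι : Type} [Fintype ι] [DecidableEq ι] {m : ι → ℕ} (hm : Good m)
include hm

theorem g_one_lt (i : ι) (x : Fin 4) : 1 < rc (m i) x :=
  (par (hm.prime i) (hm.big i)).elim fun _ h => h.one_lt x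

theorem g_lt {i : ι} {x : Fin 4} {s : ℕ} (hs : s.Prime) (h : s ∣ rc (m i) x) : 100 < s := by
  obtain ⟨t, ht⟩ := par (hm.prime i) (hm.big i)
  have := ht.lt (hm.prime i) (hm.big i) hs h
  have := hm.big i
  omega

theorem g_idx {i j : ι} (h : 2 * m i + 1 ∣ 6 * (2 * m j + 1)) : i = j := by
  have := hm.big i
  rcases (hm.prime i).dvd_mul.1 h with e | e
  · have := Nat.le_of_dvd (by norm_num) e
    omega
  · have := (Nat.prime_dvd_prime_iff_eq (hm.prime i) (hm.prime j)).1 e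
    exact hm.inj (by omega)

theorem g_eq {i j : ι} {x y : Fin 4} {s : ℕ} (hs : s.Prime) (h : s ∣ rc (m i) x)
    (h' : s ∣ rc (m j) y) : i = j ∧ x = y := by
  obtain ⟨t, ht⟩ := par (hm.prime i) (hm.big i)
  obtain ⟨t', ht'⟩ := par (hm.prime j) (hm.big j)
  obtain rfl := g_idx hm (ht.dvd_of_pow (hm.prime i) (hm.big i) hs h (ht'.pow_six h'))
  exact ⟨rfl, ht.cop (hm.prime i) (hm.big i) hs h h'⟩

theorem g_cop {i : ι} {x : Fin 4} {s : ℕ} (hs : s.Prime) (h : s ≤ 100) : s.Coprime (rc (m i) x) :=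
  (Nat.Prime.coprime_iff_not_dvd hs).2 fun e => by have := g_lt hm hs e; omega

theorem g_ex {f : ι → Fin 6} {s k : ℕ} (hs : s.Prime)
    (h : s ^ (k + 1) ∣ Finset.univ.lcm fun i => rmu (m i) (f i)) : ∃ i, s ^ (k + 1) ∣ rmu (m i) (f i) :=
  exists_of_pow_dvd_lcm (fun i => by
    rcases rmu_cases (m i) (f i) with ⟨x, a, -, ha, e, -⟩ | ⟨-, e⟩
    · have := g_one_lt hm i x
      rw [e]
      exact Nat.mul_ne_zero (Nat.pos_of_dvd_of_pos ha (by norm_num)).ne' (by omega)
    · exact (Nat.pos_of_dvd_of_pos e (by norm_num)).ne') hs h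

theorem g_ex1 {f : ι → Fin 6} {s : ℕ} (hs : s.Prime)
    (h : s ∣ Finset.univ.lcm fun i => rmu (m i) (f i)) : ∃ i, s ∣ rmu (m i) (f i) := by
  simpa using g_ex hm (f := f) (k := 0) hs (by simpa using h)

/-- a private prime power -/
theorem g_priv {f : ι → Fin 6} {s k : ℕ} (hs : s.Prime) {i : ι} {x : Fin 4} (hx : s ∣ rc (m i) x)
    (h : s ^ (k + 1) ∣ Finset.univ.lcm fun i => rmu (m i) (f i)) :
    (f i : ℕ) = x ∧ s ^ (k + 1) ∣ rc (m i) x := by
  have hl := g_lt hm hs hx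
  obtain ⟨j, hj⟩ := g_ex hm hs h
  rcases rmu_cases (m j) (f j) with ⟨y, a, e1, ha, e, -⟩ | ⟨-, e⟩
  · have c : s.Coprime a := (Nat.Prime.coprime_iff_not_dvd hs).2 fun d => by
      have := Nat.le_of_dvd (by norm_num) (d.trans ha); omega
    rw [e] at hj
    have d := (c.pow_left (k + 1)).dvd_of_dvd_mul_left hj
    obtain ⟨rfl, rfl⟩ := g_eq hm hs hx ((dvd_pow_self s k.succ_ne_zero).trans d)
    exact ⟨e1, d⟩
  · have := Nat.le_of_dvd (by norm_num) (((dvd_pow_self s k.succ_ne_zero).trans hj).trans e)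
    omega

theorem g_priv1 {f : ι → Fin 6} {e : ℕ} {i : ι} {x : Fin 4} (he : 1 < e) (hx : e ∣ rc (m i) x)
    (h : e ∣ Finset.univ.lcm fun i => rmu (m i) (f i)) : (f i : ℕ) = x :=
  (g_priv hm (k := 0) (Nat.minFac_prime he.ne') ((Nat.minFac_dvd e).trans hx)
    (by simpa using (Nat.minFac_dvd e).trans h)).1

/-- a small prime power -/
theorem g_small {s k : ℕ} (hs : s.Prime) (hl : s ≤ 100) (h : OmR m (s ^ k)) : s ^ k ∣ 126 := by
  obtain ⟨f, h⟩ := h
  cases k with
  | zero => simp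
  | succ k =>
    obtain ⟨j, hj⟩ := g_ex hm hs h
    rcases rmu_cases (m j) (f j) with ⟨y, a, -, ha, e, -⟩ | ⟨-, e⟩
    · rw [e] at hj
      exact (((g_cop hm hs hl).pow_left _).dvd_of_dvd_mul_right hj).trans (ha.trans (by norm_num))
    · exact hj.trans (e.trans (by norm_num))

theorem g_two {f : ι → Fin 6} {i : ι} (h : (f i : ℕ) = (2 : Fin 4)) {s : ℕ} (hs : s.Prime)
    (hl : s ≤ 100) : ¬ s ∣ rmu (m i) (f i) := by
  rcases rmu_cases (m i) (f i) with ⟨y, a, e1, -, e, e2, -⟩ | ⟨e, -⟩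
  · obtain rfl : y = 2 := Fin.ext (e1.symm.trans h)
    rw [e, e2 rfl, one_mul]
    exact (Nat.Prime.coprime_iff_not_dvd hs).1 (g_cop hm hs hl)
  · rw [h] at e
    exact absurd e (by decide)

theorem g_prime {s : ℕ} (hs : s.Prime) (h : OmR m s) :
    s = 2 ∨ s = 3 ∨ s = 7 ∨ ∃ i x, s ∣ rc (m i) x := by
  obtain ⟨f, h⟩ := h
  obtain ⟨j, hj⟩ := g_ex1 hm hs h
  have two := fun e => (Nat.prime_dvd_prime_iff_eq hs Nat.prime_two).1 e
  rcases rmu_cases (m j) (f j) with ⟨y, a, -, ha, e, -⟩ | ⟨-, e⟩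
  · rw [e] at hj
    rcases hs.dvd_mul.1 hj with d | d
    · rcases hs.dvd_mul.1 (d.trans ha : s ∣ 2 * 7) with d | d
      · exact .inl (two d)
      · exact .inr (.inr (.inl ((Nat.prime_dvd_prime_iff_eq hs (by norm_num)).1 d)))
    · exact .inr (.inr (.inr ⟨j, y, d⟩))
  · rcases hs.dvd_mul.1 (hj.trans e : s ∣ 2 * 3 ^ 2) with d | d
    · exact .inl (two d)
    · exact .inr (.inl ((Nat.prime_dvd_prime_iff_eq hs Nat.prime_three).1 (hs.dvd_of_dvd_pow d)))

theorem g_ree {n : ℕ} (hn : 1 ≤ n) (h : ∀ s : ℕ, s.Prime → s ∣ reeOrd n → OmR m s) {i : ι} {x : Fin 4}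
    {s : ℕ} (hs : s.Prime) (hx : s ∣ rc (m i) x) (hd : s ∣ reeOrd n) : n = m i := by
  have hl := g_lt hm hs hx
  have hb := hm.big i
  obtain ⟨t, ht⟩ := par (hm.prime i) (hm.big i)
  have c1 : ∀ r k : ℕ, r ∣ 3 ^ k - 1 ↔ (3 : ZMod r) ^ k = 1 := fun r k => by
    rw [← ZMod.natCast_eq_zero_iff, Nat.cast_sub (Nat.one_le_pow _ _ (by norm_num)), sub_eq_zero]
    push_cast
    rfl
  have h6 : (3 : ZMod s) ^ (6 * (2 * n + 1)) = 1 := by
    rcases hs.dvd_mul.1 hd with d | d
    · rcases hs.dvd_mul.1 d with d | d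
      · have := Nat.le_of_dvd (by norm_num) (hs.dvd_of_dvd_pow (hs.dvd_of_dvd_pow d))
        omega
      · rw [pow_mul', (c1 _ _).1 d, one_pow]
    · have e := (ZMod.natCast_eq_zero_iff _ _).2 d
      push_cast at e
      rw [pow_mul']
      linear_combination (((3 : ZMod s) ^ (2 * n + 1)) ^ 3 - 1) * e
  have hp : 2 * m i + 1 ∣ 2 * n + 1 :=
    ((hm.prime i).dvd_mul.1 (ht.dvd_of_pow (hm.prime i) hb hs hx h6)).resolve_left fun e => by
      have := Nat.le_of_dvd (by norm_num) e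
      omega
  have hle := Nat.le_of_dvd (by omega) hp
  obtain ⟨r, hr, d, prim⟩ := H27.zsigmondy 3 (2 * n + 1) (by norm_num) (by omega) (by omega) (by omega)
  rcases g_prime hm hr (h r hr ((d.mul_left _).mul_right _)) with rfl | rfl | rfl | ⟨j, y, hy⟩
  · exact absurd (by norm_num) (prim 1 one_pos (by omega))
  · have := (Nat.dvd_sub_iff_right (Nat.one_le_pow _ _ (by norm_num))
      (dvd_pow_self 3 (by omega))).1 d
    omega
  · exact absurd (by norm_num) (prim 6 (by norm_num) (by omega))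
  · obtain ⟨t', ht'⟩ := par (hm.prime j) (hm.big j)
    have hl' := g_lt hm hr hy
    have d1 := (c1 _ _).1 d
    have o : orderOf (3 : ZMod r) = 2 * n + 1 :=
      (orderOf_eq_iff (by omega)).2 ⟨d1, fun k h1 h2 e => prim k h2 h1 ((c1 _ _).2 e)⟩
    rcases ht'.pow_cases hy with e | e
    · have e1 := o ▸ orderOf_dvd_of_pow_eq_one e
      have := (Nat.prime_dvd_prime_iff_eq (hm.prime i) (hm.prime j)).1 (hp.trans e1)
      have := Nat.le_of_dvd (by omega) e1
      omega
    · have e1 := congrArg (· ^ (2 * n + 1)) e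
      simp only [← pow_mul] at e1
      rw [pow_mul', d1, one_pow, Odd.neg_one_pow ⟨n, rfl⟩] at e1
      have : r ∣ 2 := (ZMod.natCast_eq_zero_iff _ _).1 (by push_cast; linear_combination e1)
      have := Nat.le_of_dvd (by norm_num) this
      omega

end

theorem jobRN : JobRN := by
  intro ι _ _ m hm
  have p7 : Nat.Prime 7 := by norm_num
  refine
    { one_lt := g_one_lt hm
      cop := fun i x j y hne => Nat.coprime_of_dvd fun s hs h h' => hne ?_
      cop210 := fun i x => ?_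
      prime := fun s => g_prime hm
      no4 := fun h => absurd (g_small hm (k := 2) Nat.prime_two (by norm_num) h) (by norm_num)
      no27 := fun h => absurd (g_small hm (k := 3) Nat.prime_three (by norm_num) h) (by norm_num)
      no49 := fun h => absurd (g_small hm (k := 2) p7 (by norm_num) h) (by norm_num)
      adj := ?_
      part := ?_
      pow := ?_
      sel2 := ?_
      sel0 := ?_
      sel21 := ?_
      ree := fun n hn h i x s => g_ree hm hn h
      l2 := fun i y z a b => (par (hm.prime i) (hm.big i)).elim fun _ h => h.l2 }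
  · obtain ⟨rfl, rfl⟩ := g_eq hm hs h h'
    rfl
  · refine Nat.Coprime.symm ?_
    rw [show 210 = 2 * 3 * 5 * 7 by norm_num]
    exact (((g_cop hm Nat.prime_two (by norm_num)).mul_left (g_cop hm Nat.prime_three (by norm_num))).mul_left
      (g_cop hm Nat.prime_five (by norm_num))).mul_left (g_cop hm p7 (by norm_num))
  · rintro i x y s t hxy hs ht hx hy ⟨f, h⟩
    exact hxy (Fin.ext ((g_priv1 hm hs.one_lt hx ((dvd_mul_right s t).trans h)).symm.trans
      (g_priv1 hm ht.one_lt hy ((dvd_mul_left t s).trans h))))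
  · rintro i x n ⟨f, h⟩ hn
    rw [Nat.dvd_iff_prime_pow_dvd_dvd]
    intro s k hs hk
    cases k with
    | zero => simp
    | succ k =>
      have sm := fun hl => (g_small hm hs hl ⟨f, hk.trans h⟩).mul_right (rc (m i) x)
      rcases hn s hs ((dvd_pow_self s k.succ_ne_zero).trans hk) with rfl | rfl | rfl | hx
      exacts [sm (by norm_num), sm (by norm_num), sm (by norm_num),
        (g_priv hm hs hx (hk.trans h)).2.mul_left _]
  · intro i x s hs hx
    have h0 : rc (m i) x ≠ 0 := by have := g_one_lt hm i x; omega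
    have h1 := (hs.dvd_iff_one_le_factorization h0).1 hx
    obtain ⟨k, hk⟩ : ∃ k, (rc (m i) x).factorization s = k + 1 := ⟨_, (Nat.sub_add_cancel h1).symm⟩
    refine ⟨k, hk ▸ Nat.ordProj_dvd _ _, ?_⟩
    rintro ⟨f, h⟩
    exact Nat.pow_succ_factorization_not_dvd h0 hs (hk ▸ (g_priv hm hs hx h).2)
  · rintro e b he hb ⟨f, h⟩
    have hb' : b.Prime ∧ b ≤ 100 := by rcases hb with rfl | rfl | rfl <;> norm_num
    obtain ⟨j, hj⟩ := g_ex1 hm hb'.1 ((dvd_mul_right _ _).trans h)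
    exact g_two hm (g_priv1 hm (he j).1 (he j).2
      (((Finset.dvd_prod_of_mem e (Finset.mem_univ j)).mul_left b).trans h)) hb'.1 hb'.2 hj
  · rintro e he ⟨f, h⟩
    obtain ⟨j, hj⟩ := g_ex1 hm p7 ((dvd_mul_right _ _).trans h)
    have h0 := g_priv1 hm (he j).1 (he j).2
      (((Finset.dvd_prod_of_mem e (Finset.mem_univ j)).mul_left 7).trans h)
    rcases rmu_cases (m j) (f j) with ⟨y, a, e1, -, e2, -, e3⟩ | ⟨e1, -⟩
    · obtain rfl : y = 0 := Fin.ext (e1.symm.trans h0)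
      rw [e2, e3 rfl] at hj
      exact absurd ((g_cop hm p7 (by norm_num)).dvd_of_dvd_mul_right hj) (by norm_num)
    · rw [h0] at e1
      exact absurd e1 (by decide)
  · rintro e i hi he ⟨f, h⟩
    have key : ∀ s : ℕ, s.Prime → s ≤ 100 → s ∣ 3 * ∏ l, e l → s ∣ rmu (m i) (f i) := by
      intro s hs hl d
      obtain ⟨j, hj⟩ := g_ex1 hm hs (d.trans h)
      by_cases hji : j = i
      · exact hji ▸ hj
      · exact absurd hj (g_two hm (g_priv1 hm (he j hji).1 (he j hji).2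
          (((Finset.dvd_prod_of_mem e (Finset.mem_univ j)).mul_left 3).trans h)) hs hl)
    have d3 := key 3 Nat.prime_three (by norm_num) (dvd_mul_right _ _)
    have d7 := key 7 p7 (by norm_num) ((hi ▸ Finset.dvd_prod_of_mem e (Finset.mem_univ i)).mul_left 3)
    rcases rmu_cases (m i) (f i) with ⟨y, a, -, ha, e2, -⟩ | ⟨-, e1⟩
    · rw [e2] at d3
      exact absurd (((g_cop hm Nat.prime_three (by norm_num)).dvd_of_dvd_mul_right d3).trans ha)
        (by norm_num)
    · exact absurd (d7.trans e1) (by norm_num)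

theorem jobRN0 : JobRN0 := by
  choose nx h1 h2 using fun a => Nat.exists_infinite_primes (3 ^ (a + 1) + 1)
  let p : ℕ → ℕ := fun k => Nat.rec 101 (fun _ a => nx a) k
  have ps : ∀ k, 3 ^ (p k + 1) + 1 ≤ p (k + 1) := fun k => h1 (p k)
  have mono : StrictMono p := strictMono_nat_of_lt_succ fun k => by
    have := ps k
    have := Nat.lt_pow_self (n := p k + 1) (by norm_num : 1 < 3)
    omega
  have pr : ∀ k, (p k).Prime := fun k => by
    cases k with
    | zero => exact (by norm_num : Nat.Prime 101)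
    | succ k => exact h2 _
  have big : ∀ k, 101 ≤ p k := fun k => mono.monotone (Nat.zero_le k)
  have od : ∀ k, Odd (p k) := fun k => (pr k).odd_of_ne_two (by have := big k; omega)
  have e : ∀ k, 2 * ((p k - 1) / 2) + 1 = p k := fun k => by
    obtain ⟨c, hc⟩ := od k
    omega
  refine ⟨p, mono, fun i => ⟨pr i, od i⟩, fun k => ⟨fun i => (e i).symm ▸ pr i,
    fun i => by have := big i; omega, fun i j h => Fin.ext (mono.injective ?_), fun i j x d => ?_⟩⟩
  · rw [← e i, ← e j]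
    exact congrArg (2 * · + 1) h
  · have hp : (2 * ((p i - 1) / 2) + 1).Prime := (e i).symm ▸ pr i
    have hb : 50 ≤ (p i - 1) / 2 := by have := big i; omega
    obtain ⟨t, ht⟩ := par hp hb
    rw [e] at d
    have h3 := ht.lt hp hb (pr j) d
    have h4 := (Nat.le_of_dvd (zero_lt_one.trans (ht.one_lt x)) d).trans (ht.le x)
    rw [e] at h3 h4
    have h5 : p (i + 1) ≤ p j := mono.monotone (mono.lt_iff_lt.1 h3)
    have := ps i
    omega

end H66.O3
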