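import Cfsg.Agent.H66.OT2
import Cfsg.Agent.H3.DihQuat

/-! Odd transpositions: passage to subgroups, the quotient `⟨E_d, x⟩ / O₂`. -/

set_option autoImplicit false

open Cfsg H70

namespace H66.RI

universe u

section

variable {G : Type*} [Group G] {D S : Set G} {a b c d e g p s x y : G} {V : Subgroup G}

theorem iopp_coe {a b : V} : IOpp (a : G) (b : G) ↔ IOpp a b :=
  and_congr Subtype.coe_ne_coe (by rw [← Subgroup.coe_mul, Subgroup.orderOf_coe])

theorem commute_coe {a b : V} : Commute (a : G) (b : G) ↔ Commute a b :=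
  ⟨fun h => Subtype.ext h, fun h => congrArg Subtype.val h⟩

theorem ot_sub (hD : IsOddTranspositionSet D) {T : Set V} (h1 : ∀ t ∈ T, (t : G) ∈ D)
    (h2 : ∀ t ∈ T, ∀ g : V, g * t * g⁻¹ ∈ T) (h3 : Subgroup.closure T = ⊤) : IsOddTranspositionSet T := by
  refine ⟨⟨fun t ht => (Subgroup.orderOf_coe t).symm.trans (hD.1.orderOf_eq _ (h1 t ht)), h3, h2,
    fun a ha b hb => ?_⟩, fun a ha b hb => ?_⟩
  · exact (ot_tri hD (h1 a ha) (h1 b hb)).imp commute_coe.1 fun o => Or.inl (iopp_coe.1 o).2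
  · rw [← Subgroup.orderOf_coe]; exact hD.2 _ (h1 a ha) _ (h1 b hb)

/-- the conjugacy class of `x` -/
def cls {V : Type*} [Group V] (x : V) : Set V := {y | ∃ g : V, y = g * x * g⁻¹}

theorem self_mem_cls {V : Type*} [Group V] (x : V) : x ∈ cls x := ⟨1, by simp⟩

theorem cls_cl {V : Type*} [Group V] (x : V) : ∀ a ∈ cls x, ∀ b ∈ cls x, ∃ g : V, b = g * a * g⁻¹ := by
  rintro _ ⟨g, rfl⟩ _ ⟨h, rfl⟩
  exact ⟨h * g⁻¹, by group⟩

theorem mem_of_mem_cls (hD : IsOddTranspositionSet D) (hx : x ∈ D) {hxV : x ∈ V} {t : V}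
    (ht : t ∈ cls (⟨x, hxV⟩ : V)) : (t : G) ∈ D := by
  obtain ⟨g, rfl⟩ := ht
  exact ri_conj hD.1 hx g

theorem mem_cls_of_opp (hD : IsOddTranspositionSet D) (hx : x ∈ D) {hxV : x ∈ V} (hs : s ∈ D) (hsV : s ∈ V)
    (o : IOpp s x) : (⟨s, hsV⟩ : V) ∈ cls (⟨x, hxV⟩ : V) :=
  ⟨⟨mid s x, mid_mem hsV hxV⟩, Subtype.ext (by
    have := mid_swap_right (ri_sq hD.1 hs) (ri_sq hD.1 hx) o.2
    simpa [ri_inv hD.1 (ri_mid_mem hD.1 hs hx o)] using this.symm)⟩

theorem mem_cl_right : x ∈ Subgroup.closure (S ∪ {x}) := Subgroup.subset_closure (Or.inr rfl)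

theorem mem_cl_left (hs : s ∈ S) : s ∈ Subgroup.closure (S ∪ {x}) := Subgroup.subset_closure (Or.inl hs)

theorem cl_eq_top {H : Subgroup (Subgroup.closure (S ∪ {x}))} (h1 : ∀ s (hs : s ∈ S), ⟨s, mem_cl_left hs⟩ ∈ H)
    (h2 : ⟨x, mem_cl_right⟩ ∈ H) : H = ⊤ := by
  rw [eq_top_iff, ← Subgroup.closure_closure_coe_preimage, Subgroup.closure_le]
  rintro ⟨s, hs⟩ (h | h)
  · exact h1 s h
  · obtain rfl : s = x := h
    exact h2

theorem ot_cls (hD : IsOddTranspositionSet D) (hx : x ∈ D) (hS : ∀ s ∈ S, s ∈ D ∧ IOpp s x) :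
    IsOddTranspositionSet (cls (⟨x, mem_cl_right⟩ : Subgroup.closure (S ∪ {x}))) :=
  ot_sub hD (fun _ => mem_of_mem_cls hD hx) (by rintro _ ⟨h, rfl⟩ g; exact ⟨g * h, by group⟩)
    (cl_eq_top (fun s hs => Subgroup.subset_closure (mem_cls_of_opp hD hx (hS s hs).1 _ (hS s hs).2))
      (Subgroup.subset_closure (self_mem_cls _)))

theorem disc_cls [Finite G] (hD : IsOddTranspositionSet D) (hx : x ∈ D) (hS : ∀ s ∈ S, s ∈ D ∧ IOpp s x)
    (hd : d ∈ S) (he : e ∈ S) (c : Commute d e) (hde : d * e ∈ S)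
    (h : ∀ c ∈ D, c ∈ Subgroup.closure (S ∪ {x}) → Commute c d → Commute c x → ∀ s ∈ S, Commute c s) :
    (cls (⟨x, mem_cl_right⟩ : Subgroup.closure (S ∪ {x})) ∩
      commutingProducts (cls (⟨x, mem_cl_right⟩ : Subgroup.closure (S ∪ {x})))).Nonempty ∧
    ¬ IsConnectedSet (CommAdj (cls (⟨x, mem_cl_right⟩ : Subgroup.closure (S ∪ {x}))))
      (cls (⟨x, mem_cl_right⟩ : Subgroup.closure (S ∪ {x}))) := by
  have hT := ot_cls hD hx hS
  have m := fun s hs => mem_cls_of_opp hD hx (hxV := mem_cl_right) (hS s hs).1 (mem_cl_left hs) (hS s hs).2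
  have h1 := nonempty_of_line hT.1 (m d hd) (m e he) (commute_coe.1 c) (m _ hde)
  refine ⟨h1, fun hc => ?_⟩
  obtain ⟨z, hz, c1, c2⟩ := exists_common hT (lined_of hT.1 (cls_cl _) h1) hc (m d hd) (self_mem_cls _)
  have k : ∀ v ∈ Subgroup.closure (S ∪ {x}), Commute (z : G) v := fun v => commute_of_mem_closure fun s hs =>
    hs.elim (h z (mem_of_mem_cls hD hx hz) z.2 (commute_coe.2 c1) (commute_coe.2 c2) s)
      fun e => e ▸ commute_coe.2 c2
  obtain ⟨g, eg⟩ := cls_cl _ z hz _ (self_mem_cls _)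
  rw [conj_eq_of_commute (commute_coe.1 (k g g.2)).symm] at eg
  exact ot_nc hD (hS d hd).1 hx (hS d hd).2 (commute_coe.2 (eg ▸ c1)).symm

theorem commute_of_disc [Finite G] (hD : IsOddTranspositionSet D) (hDD : (D ∩ commutingProducts D).Nonempty)
    (hn : ¬ IsConnectedSet (CommAdj D) D) (ha : a ∈ D) (hb : b ∈ D) (hc : c ∈ D) (c1 : Commute a b)
    (c2 : Commute b c) : Commute a c := by
  obtain ⟨_, h1, -, h3⟩ := quot_data hD.1 hDD hn
  have h := ric_of_disc hD.1 hn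
  have hf : ∀ d ∈ D, QuotientGroup.mk' (twoZCore G) d ≠ 1 := fun d hd e =>
    not_mem_twoZCore h hd ((QuotientGroup.eq_one_iff d).1 e)
  have h4 := ot_map hD (QuotientGroup.mk'_surjective _) hf
  have k : Commute (QuotientGroup.mk' (twoZCore G) a) (QuotientGroup.mk' (twoZCore G) c) := by
    by_cases e : QuotientGroup.mk' (twoZCore G) a = QuotientGroup.mk' (twoZCore G) b
    · exact e ▸ c2.map _
    · exact (se_of_line h4 ⟨a, ha, rfl⟩ ⟨b, hb, rfl⟩ (c1.map _) (mul_mem_of_simple h1 h3 ⟨a, ha, rfl⟩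
        ⟨b, hb, rfl⟩ (c1.map _) e) _ ⟨c, hc, rfl⟩).2 (c2.map _)
  exact ot_comm hD ha hc fun o => ot_nc hD ha hc o (commute_of_map_eq' hD.1 (lined_of hD.1 h.cl hDD) hf hc ha
    (map_eq_of_opp (ri_sq hD.1 ha) (ri_sq hD.1 hc) o.2 k))

theorem mem_pCore_of_sq [Finite G] (h : a ∈ twoZCore G) (sa : a * a = 1) : a ∈ pCore 2 G :=
  H83.mem_pCore_of_baer_suzuki fun g => by
    have m := (inferInstance : (pCore 2 G).Normal).conj_mem _ (mem_twoZCore.1 h g) a
    obtain ⟨k, hk⟩ := isPGroup_pCore_two G ⟨_, m⟩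
    refine H83.isPGroup_closure_pair sa (by rw [conj_mul, sa, mul_one, mul_inv_cancel]) (k := k) ?_
    have hk' : (a * (g * a * g⁻¹ * a⁻¹) * a⁻¹) ^ 2 ^ k = 1 := congrArg Subtype.val hk
    simpa only [inv_of_sq sa, mul_assoc, sa, mul_one] using hk'

theorem pCore_quot (G : Type*) [Group G] : pCore 2 (G ⧸ pCore 2 G) = ⊥ := by
  have h := (isPGroup_pCore_two (G ⧸ pCore 2 G)).comap_of_ker_isPGroup (QuotientGroup.mk' (pCore 2 G))
    (by rw [QuotientGroup.ker_mk']; exact isPGroup_pCore_two G)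
  refine eq_bot_iff.2 fun x hx => ?_
  obtain ⟨x, rfl⟩ := QuotientGroup.mk'_surjective _ x
  exact (QuotientGroup.eq_one_iff x).2 (H83.le_pCore_of_normal (Subgroup.Normal.comap inferInstance _) h hx)

end

variable {G : Type u} [Group G] [Finite G] {D : Set G} {d x : G}

theorem cases_of_gen (hZD : ZD.{u}) (hH : H51.HubSimple.{u}) (hD : IsOddTranspositionSet D)
    (cl : ∀ a ∈ D, ∀ b ∈ D, ∃ g : G, b = g * a * g⁻¹) (hO : pCore 2 G = ⊥) (hd : d ∈ D) (hx : x ∈ D)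
    (o : IOpp d x) (hX : XX D d x = ⊤) :
    (∃ (F : Type) (_ : Field F) (_ : Fintype F), CharP F 2 ∧ 4 ≤ Fintype.card F ∧
      Nonempty (G ≃* Matrix.ProjectiveSpecialLinearGroup (Fin 2) F)) ∨ Lie.IsoSuzuki G ∨
      ∃ n : ℕ, Nonempty (G ≃* DihedralGroup n) := by
  have sd := ri_sq hD.1 hd; have sx := ri_sq hD.1 hx
  by_cases h : ∃ e ∈ D, SE D d e ∧ d ≠ e
  · obtain ⟨e, he, h, hne⟩ := h
    have hde := mul_mem_of_se hD cl hO hd he h hne
    have c := h.commute he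
    have : HL D d x := ⟨hD, lined_of hD.1 cl (nonempty_of_line hD.1 hd he c hde), hd, hx, o, fun a ha b hb k hab => by
      obtain ⟨g, rfl⟩ := cl d hd a ha
      refine mul_mem_of_se hD cl hO ha hb ?_ hab
      simpa [mul_assoc] using (se_of_mem_XX hD cl hd he hde c hx o (by simpa using ri_conj hD.1 hb g⁻¹)
        (hX ▸ Subgroup.mem_top _) (commute_conj_iff.1 k)).conj hD.1 g,
      fun z h1 h2 => Subgroup.mem_center_iff.2 fun g =>
        (commute_XX (fun e he k => h1 e he (k.commute he)) h2 (hX ▸ Subgroup.mem_top g)).symm⟩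
    rcases (this.main hZD hH).2.2 with ⟨F, _, _, h1, h2, -, h3⟩ | h1
    · exact Or.inl ⟨F, _, _, h1, h2, h3⟩
    · exact Or.inr (Or.inl h1.1)
  · refine Or.inr (Or.inr ⟨_, H3.nonempty_mulEquiv_dihedral_of_closure (a := d * x) (b := d) rfl
      ((pow_two d).trans sd) (by simp only [mul_inv_rev, inv_of_sq sd, inv_of_sq sx, sqc sd]) (fun hm => ?_) ?_⟩)
    · have := Odd.of_dvd_nat o.2 (orderOf_dvd_of_mem_zpowers hm)
      rw [hD.1.orderOf_eq d hd] at this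
      exact absurd this (by decide)
    · have h1 : d ∈ Subgroup.closure {d * x, d} := Subgroup.subset_closure (Or.inr rfl)
      refine eq_top_iff.2 (hX ▸ XX_le (fun e he k => ?_) ?_)
      · exact (by_contra fun hne => h ⟨e, he, k, hne⟩ : d = e) ▸ h1
      · simpa only [sqc sd] using mul_mem h1 (Subgroup.subset_closure (Or.inl rfl) : d * x ∈ _)

/-- S5051, conditionally. -/
theorem s5051_of (hZD : ZD.{u}) (hH : H51.HubSimple.{u}) (hD : IsOddTranspositionSet D) (hd : d ∈ D)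
    (hx : x ∈ oddPartners D d) :
    (∃ (F : Type) (_ : Field F) (_ : Fintype F), CharP F 2 ∧ 4 ≤ Fintype.card F ∧
      Nonempty ((XX D d x ⧸ pCore 2 (XX D d x)) ≃* Matrix.ProjectiveSpecialLinearGroup (Fin 2) F)) ∨
    Lie.IsoSuzuki (XX D d x ⧸ pCore 2 (XX D d x)) ∨
    (∃ n : ℕ, Nonempty ((XX D d x ⧸ pCore 2 (XX D d x)) ≃* DihedralGroup n)) := by
  obtain ⟨hx, o⟩ := mem_oddPartners.1 hx
  have hS : ∀ s ∈ sameCommutingClass D d, s ∈ D ∧ IOpp s x := fun s hs =>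
    ⟨(mem_scc.1 hs).1, (mem_scc.1 hs).2.opp hD hd (mem_scc.1 hs).1 hx o⟩
  have hT := ot_cls hD hx hS
  have m := fun s hs => mem_cls_of_opp hD hx (hxV := mem_cl_right) (hS s hs).1 (mem_cl_left hs) (hS s hs).2
  have hd' := mem_scc.2 ⟨hd, SE.refl d⟩
  have hO := isPGroup_pCore_two (XX D d x)
  have k : ∀ a ∈ cls (⟨x, mem_cl_right⟩ : XX D d x), ∀ b ∈ cls (⟨x, mem_cl_right⟩ : XX D d x),
      Commute (QuotientGroup.mk' (pCore 2 (XX D d x)) a) (QuotientGroup.mk' (pCore 2 (XX D d x)) b) →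
      Commute a b := fun a ha b hb c => commute_of_sq_mem hT hO ha hb ((QuotientGroup.eq_one_iff _).1 (by
        have := sq_mul_of_commute (by rw [← map_mul, ri_sq hT.1 ha, map_one])
          (by rw [← map_mul, ri_sq hT.1 hb, map_one]) c
        rwa [← map_mul, ← map_mul] at this))
  have nc : ¬ Commute (QuotientGroup.mk' (pCore 2 (XX D d x)) ⟨d, mem_cl_left hd'⟩)
      (QuotientGroup.mk' (pCore 2 (XX D d x)) ⟨x, mem_cl_right⟩) := fun c =>
    ot_nc hD hd hx o (commute_coe.2 (k _ (m d hd') _ (self_mem_cls _) c))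
  have hf : ∀ a ∈ cls (⟨x, mem_cl_right⟩ : XX D d x), QuotientGroup.mk' (pCore 2 (XX D d x)) a ≠ 1 := by
    rintro _ ⟨g, rfl⟩ e
    rw [map_mul, map_mul, map_inv, conj_eq_one_iff] at e
    exact nc (e ▸ Commute.one_right _)
  have h1 := ot_map hT (QuotientGroup.mk'_surjective _) hf
  refine cases_of_gen hZD hH h1 (cl_map (cls_cl _)) (pCore_quot _) ⟨_, m d hd', rfl⟩ ⟨_, self_mem_cls _, rfl⟩
    (ot_opp h1 ⟨_, m d hd', rfl⟩ ⟨_, self_mem_cls _, rfl⟩ nc)
    (Subgroup.comap_injective (QuotientGroup.mk'_surjective _) ?_)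
  rw [Subgroup.comap_top]
  refine cl_eq_top (fun s hs => mem_XX_left ⟨_, m s hs, rfl⟩ ?_) mem_XX_right
  rintro _ ⟨y, hy, rfl⟩
  have := (mem_scc.1 hs).2 y (mem_of_mem_cls hD hx hy)
  exact ⟨fun c => (commute_coe.1 (this.1 (commute_coe.2 (k _ (m d hd') y hy c)))).map _,
    fun c => (commute_coe.1 (this.2 (commute_coe.2 (k _ (m s hs) y hy c)))).map _⟩

end H66.RI
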