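import Cfsg.Agent.H66.OT3

/-! Odd transpositions: the groups `⟨E_d, x⟩` and `⟨E_d, E_b, x⟩` when all `E_d ∪ {1}` are groups. -/

set_option autoImplicit false

open Cfsg H70 H69

namespace H66.RI

universe u

theorem ro_commute {G Ω : Type*} [Group G] [Finite G] [MulAction G Ω] {a : Ω} {t d r s : G} {Q : Subgroup G}
    (hS : IsRankOneSetup G Ω a t Q) (h2 : TwoRank G) (d1 : d ≠ 1) (sd : d * d = 1) (s1 : s ≠ 1) (ss : s * s = 1)
    (c : Commute d s) {k : ℕ} (hr : r ^ 2 ^ k = 1) (cr : Commute d r) : Commute s r := by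
  obtain ⟨u, hu, -⟩ := RO.exists_two_roI hS h2
  obtain ⟨h, e⟩ := RO.invol_conj hS d1 sd hu.2.1 hu.2.2
  rw [← e] at hu
  have := RO.roI_comm_Q hS h2 (ro_mem_roI hS hu (fun e => s1 (conj_eq_one_iff.1 e))
    (by rw [conj_mul, ss, mul_one, mul_inv_cancel]) (c.conj h))
    (RO.mem_Q_of_two_element hS (RO.fix_of_comm hS hu.2.1 hu.2.2 hu.1 (cr.conj h)) (k := k)
      (by rw [conj_pow, hr, mul_one, mul_inv_cancel]))
  simpa [mul_assoc] using Commute.conj this h⁻¹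

/-- a class of odd transpositions with lines in which the sets `E_d ∪ {1}` are groups -/
structure OC {G : Type*} [Group G] (D : Set G) : Prop where
  ot : IsOddTranspositionSet D
  cl : ∀ a ∈ D, ∀ b ∈ D, ∃ g : G, b = g * a * g⁻¹
  lined : Lined D
  mul : ∀ a ∈ D, ∀ b ∈ D, SE D a b → a ≠ b → a * b ∈ D

namespace OC

variable {G : Type u} [Group G] [Finite G] {D : Set G} {a b c d e g p s w x y z : G} (h : OC D)
  (hd : d ∈ D) (hx : x ∈ D) (o : IOpp d x)
include h hd hx o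

theorem se_X (hp : p ∈ D) (hX : p ∈ XX D d x) (c : Commute d p) : SE D d p := by
  obtain ⟨e, he, c', hde⟩ := h.lined d hd
  exact se_of_mem_XX h.ot h.cl hd he hde c' hx o hp hX c

theorem exists_conj_X (ha : a ∈ D) (hX : a ∈ XX D d x) : ∃ g ∈ XX D d x, SE D d (g * a * g⁻¹) := by
  rcases ot_tri h.ot hd ha with c | o'
  · exact ⟨1, one_mem _, by simpa using h.se_X hd hx o ha hX c⟩
  · refine ⟨mid d a, mid_mem (mem_XX_left hd (.refl d)) hX, ?_⟩
    rw [ri_inv h.ot.1 (ri_mid_mem h.ot.1 hd ha o'), mid_swap_right (ri_sq h.ot.1 hd) (ri_sq h.ot.1 ha) o'.2]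
    exact .refl d

theorem mem_X_of_se (ha : a ∈ D) (hX : a ∈ XX D d x) (he : e ∈ D) (k : SE D a e) : e ∈ XX D d x := by
  obtain ⟨g, hg, k'⟩ := h.exists_conj_X hd hx o ha hX
  simpa [mul_assoc] using mul_mem (mul_mem (inv_mem hg)
    (mem_XX_left (ri_conj h.ot.1 he g) (k'.trans (k.conj h.ot.1 g)))) hg

theorem se_X' (ha : a ∈ D) (hX : a ∈ XX D d x) (hb : b ∈ D) (hX' : b ∈ XX D d x) (c : Commute a b) :
    SE D a b := by
  obtain ⟨g, hg, k⟩ := h.exists_conj_X hd hx o ha hX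
  have m := ri_conj h.ot.1 hb g
  simpa [mul_assoc] using (k.symm.trans (h.se_X hd hx o m (mul_mem (mul_mem hg hX') (inv_mem hg))
    ((k _ m).2 (c.conj g)))).conj h.ot.1 g⁻¹

theorem hl : HL (Subtype.val ⁻¹' D : Set (XX D d x)) ⟨d, mem_XX_left hd (.refl d)⟩ ⟨x, mem_XX_right⟩ := by
  refine ⟨ot_sub h.ot (fun _ ht => ht) (fun t ht g => ri_conj h.ot.1 ht (g : G))
    (cl_eq_top (fun s hs => Subgroup.subset_closure (mem_scc.1 hs).1) (Subgroup.subset_closure hx)),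
    fun a ha => ?_, hd, hx, iopp_coe.1 o,
    fun a ha b hb c hne => h.mul _ ha _ hb (h.se_X' hd hx o ha a.2 hb b.2 (commute_coe.2 c))
      (Subtype.coe_ne_coe.2 hne), fun z h1 h2 => Subgroup.mem_center_iff.2 fun g => (commute_coe.1 ?_).symm⟩
  · obtain ⟨e, he, c, hae⟩ := h.lined a ha
    exact ⟨⟨e, h.mem_X_of_se hd hx o ha a.2 he (se_of_line h.ot ha he c hae)⟩, he, commute_coe.1 c, hae⟩
  · exact commute_XX (fun e he k => commute_coe.2 (h1 ⟨e, mem_XX_left he k⟩ he (commute_coe.1 (k.commute he))))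
      (commute_coe.2 h2) g.2

variable (hZD : ZD.{u}) (hH : H51.HubSimple.{u})
include hZD hH

theorem commute_X (hy : y ∈ D) (hyX : y ∈ XX D d x) (hw : w ∈ D) (hwX : w ∈ XX D d x) (o' : IOpp y w)
    (h1 : ∀ e ∈ D, SE D y e → Commute z e) (h2 : Commute z w) (hp : p ∈ XX D d x) : Commute z p := by
  obtain ⟨⟨g, hg⟩, c, e⟩ := ((h.hl hd hx o).main hZD hH).1 ⟨y, hyX⟩ hy ⟨w, hwX⟩ hw (iopp_coe.1 o')
  obtain rfl : w = g * x * g⁻¹ := congrArg Subtype.val e
  have c' : Commute y (g * d * g⁻¹) := commute_coe.2 c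
  have k := h.se_X' hd hx o hy hyX (ri_conj h.ot.1 hd g)
    (mul_mem (mul_mem hg (mem_XX_left hd (.refl d))) (inv_mem hg)) c'
  have := commute_XX (z := g⁻¹ * z * g)
    (fun e he k' => (commute_conj_iff.1 (h1 _ (ri_conj h.ot.1 he g) (k.trans (k'.conj h.ot.1 g))).symm).symm)
    (commute_conj_iff.1 h2.symm).symm (mul_mem (mul_mem (inv_mem hg) hp) hg)
  simpa [mul_assoc] using this.conj g

theorem dist_X (hy : y ∈ D) (hyX : y ∈ XX D d x) (o' : IOpp d y) : ∃ s ∈ D, SE D d s ∧ ∃ r ∈ XX D d x,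
    (∃ k, r ^ 2 ^ k = 1) ∧ Commute d r ∧ y * s * y = r⁻¹ * y * r := by
  obtain ⟨s, hs, r, c, ⟨k, hk⟩, c', e⟩ := ((h.hl hd hx o).main hZD hH).2.1 ⟨y, hyX⟩ hy (iopp_coe.1 o')
  exact ⟨s, hs, h.se_X hd hx o hs s.2 (commute_coe.2 c), r, r.2, ⟨k, congrArg Subtype.val hk⟩,
    commute_coe.2 c', congrArg Subtype.val e⟩

theorem exists_cong (hb : b ∈ D) (c : Commute d b) (ob : IOpp b x) : ∃ R : Subgroup G, IsPGroup 2 R ∧
    XX D d x ≤ Subgroup.normalizer (R : Set G) ∧ XX D b x ≤ Subgroup.normalizer (R : Set G) ∧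
    ∃ e ∈ D, SE D b e ∧ d * e ∈ R := by
  have hD := h.ot
  have sd := ri_sq hD.1 hd; have sb := ri_sq hD.1 hb; have sx := ri_sq hD.1 hx
  let S := sameCommutingClass D d ∪ sameCommutingClass D b
  have hS : ∀ s ∈ S, s ∈ D ∧ IOpp s x := by
    rintro s (hs | hs)
    · exact ⟨(mem_scc.1 hs).1, (mem_scc.1 hs).2.opp hD hd (mem_scc.1 hs).1 hx o⟩
    · exact ⟨(mem_scc.1 hs).1, (mem_scc.1 hs).2.opp hD hb (mem_scc.1 hs).1 hx ob⟩
  let Y := Subgroup.closure (S ∪ {x})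
  have hX1 : XX D d x ≤ Y := XX_le (fun e he k => mem_cl_left (Or.inl (mem_scc.2 ⟨he, k⟩))) mem_cl_right
  have hX2 : XX D b x ≤ Y := XX_le (fun e he k => mem_cl_left (Or.inr (mem_scc.2 ⟨he, k⟩))) mem_cl_right
  obtain ⟨e, he, ce, hde⟩ := h.lined d hd
  obtain ⟨h1, h2⟩ := disc_cls hD hx hS (Or.inl (mem_scc.2 ⟨hd, .refl d⟩))
    (Or.inl (mem_scc.2 ⟨he, se_of_line hD hd he ce hde⟩)) ce (Or.inl (mem_scc.2 ⟨hde,
      se_of_line hD hd hde ((Commute.refl d).mul_right ce) (by rwa [sqc sd])⟩)) fun p hp hpY cp _ => by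
    obtain ⟨u, hu, k, -, o'⟩ := exists_opp_of_four hD hd he hde ce hx o hb c
    have su := ri_sq hD.1 hu
    have cu := (k b hb).1 c
    have s1 := sq_mul_of_commute su sb cu
    have hs := ri_mid_mem hD.1 hx (ri_conj' hD.1 hx s1) o'
    have c1 := commute_mid_conj s1 sx o'
    have c2 := commute_mul_mid s1 sx o'
    generalize mid x (u * b * x * (u * b)) = s at hs c1 c2
    have hne : u ≠ b := fun e => o'.1 (by rw [e, sb, one_mul, mul_one])
    have c3 := commute_left_of_mul hD hu hb hne hs c1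
    have c4 := commute_right_of_mul hD hu hb hne hs c1
    have c5 : Commute (u * b * s) p := commute_of_mem_closure (by
      rintro y ((hy | hy) | rfl)
      · obtain ⟨hy, k'⟩ := mem_scc.1 hy
        exact (((k.symm.trans k').commute hy).mul_left ((k' b hb).1 c).symm).mul_left
          ((k' s hs).1 ((k s hs).2 c3)).symm
      · obtain ⟨hy, k'⟩ := mem_scc.1 hy
        exact ((((k' u hu).1 cu.symm).symm).mul_left (k'.commute hy)).mul_left ((k' s hs).1 c4).symm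
      · exact c2) hpY
    have c6 := ((k p hp).1 cp.symm).mul_left c5
    rw [mul_assoc, sqc su] at c6
    have c7 := commute_left_of_mul hD hb hs (fun e => ot_nc hD hu hx (k.opp hD hd hu hx o)
      (by rwa [← e, mul_assoc, sb, mul_one] at c2)) hp c6
    rintro y (hy | hy)
    · exact (((mem_scc.1 hy).2 p hp).1 cp.symm).symm
    · exact (((mem_scc.1 hy).2 p hp).1 c7).symm
  have hT := ot_cls hD hx hS
  obtain ⟨_, h3, h4, h5⟩ := quot_data hT.1 h1 h2
  obtain ⟨H, t, Q, hQ, -, h6, -⟩ := exists_setup hZD hH h3 h5 h4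
  obtain ⟨s, hs, k, r, hr, ⟨n, hn⟩, cr, er⟩ := h.dist_X hd hx o hZD hH hx mem_XX_right o
  have ss := ri_sq hD.1 hs
  have os := k.opp hD hd hs hx o
  obtain ⟨g, hg, e1, e2⟩ : ∃ g ∈ XX D d x, g * s * g⁻¹ = d ∧ SE D x (g * x * g⁻¹) := by
    have m1 := mid_sq (a := d) sd sx
    have m2 := mid_sq (a := s) ss sx
    have k1 : ∀ y, mid d x * mid s x * y * (mid d x * mid s x)⁻¹ =
        mid d x * (mid s x * y * mid s x) * mid d x := fun y => by
      simp only [mul_inv_rev, inv_of_sq m1, inv_of_sq m2, mul_assoc]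
    refine ⟨mid d x * mid s x, mul_mem (mid_mem (mem_XX_left hd (.refl d)) mem_XX_right)
      (mid_mem (mem_XX_left hs k) mem_XX_right), ?_, ?_⟩
    · rw [k1, mid_swap_left ss sx os.2, mid_swap_right sd sx o.2]
    · simpa only [k1, mid_swap_left sd sx o.2, mid_swap_right ss sx os.2] using k.conj' hD.1 m1
  have hy := ri_conj hD.1 hx g
  have oy := (e2.opp hD hx hy hd o.symm).symm
  have hy2 := h.mem_X_of_se hb hx ob hx mem_XX_right hy e2
  obtain ⟨s', hs', k', r', hr', ⟨n', hn'⟩, cr', er'⟩ :=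
    h.dist_X hb hx ob hZD hH hy hy2 (e2.opp hD hx hy hb ob.symm).symm
  have hdY : d ∈ Y := hX1 (mem_XX_left hd (.refl d))
  have hbY : b ∈ Y := hX2 (mem_XX_left hb (.refl b))
  have hsY : s' ∈ Y := hX2 (mem_XX_left hs' k')
  have hric := ric_of_disc hT.1 h2
  let π := QuotientGroup.mk' (twoZCore Y)
  have hf : ∀ a ∈ cls (⟨x, mem_cl_right⟩ : Y), π a ≠ 1 := fun a ha e =>
    not_mem_twoZCore hric ha ((QuotientGroup.eq_one_iff a).1 e)
  have sq : ∀ a ∈ cls (⟨x, mem_cl_right⟩ : Y), π a * π a = 1 := fun a ha => by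
    rw [← map_mul, ri_sq hT.1 ha, map_one]
  have md := mem_cls_of_opp hD hx (hxV := mem_cl_right) hd hdY o
  have mb := mem_cls_of_opp hD hx (hxV := mem_cl_right) hb hbY ob
  have ms := mem_cls_of_opp hD hx (hxV := mem_cl_right) hs' hsY (k'.opp hD hb hs' hx ob)
  have my : (⟨g * x * g⁻¹, hX2 hy2⟩ : Y) ∈ cls (⟨x, mem_cl_right⟩ : Y) := ⟨⟨g, hX1 hg⟩, rfl⟩
  have md' := ri_conj hT.1 md ⟨g, hX1 hg⟩
  have cd : Commute (g * d * g⁻¹) d := by simpa only [e1] using (k.commute hs).conj g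
  have hrY : g * r * g⁻¹ ∈ Y := hX1 (mul_mem (mul_mem hg hr) (inv_mem hg))
  have p1 : π ⟨_, hrY⟩ ^ 2 ^ n = 1 := by
    rw [← map_pow, show (⟨_, hrY⟩ : Y) ^ 2 ^ n = 1 from
      Subtype.ext (by simp only [Subgroup.coe_pow, conj_pow, hn]; simp), map_one]
  have p2 : π ⟨r', hX2 hr'⟩ ^ 2 ^ n' = 1 := by
    rw [← map_pow, show (⟨r', hX2 hr'⟩ : Y) ^ 2 ^ n' = 1 from Subtype.ext hn', map_one]
  have key : π ⟨d, hdY⟩ = π ⟨s', hsY⟩ := ro_dist_unique hQ h6 (hf _ md) (sq _ md) (hf _ my) (sq _ my)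
    (fun c => ot_nc hT md my (iopp_coe.1 oy) (commute_of_map_eq' hT.1 (lined_of hT.1 (cls_cl _) h1) hf my md
      (map_eq_of_opp (ri_sq hT.1 md) (ri_sq hT.1 my) (iopp_coe.1 oy).2 c)))
    (hf _ md) (sq _ md) (Commute.refl _) p1
    (ro_commute hQ h6 (hf _ md') (sq _ md') (hf _ md) (sq _ md) ((commute_coe.1 cd).map π) p1
      ((commute_coe.1 (cr.conj g)).map π))
    (by
      rw [← map_inv, ← map_mul, ← map_mul, ← map_mul, ← map_mul]
      refine congrArg π (Subtype.ext ?_)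
      show g * x * g⁻¹ * d * (g * x * g⁻¹) = (g * r * g⁻¹)⁻¹ * (g * x * g⁻¹) * (g * r * g⁻¹)
      rw [← e1, conj_mul, conj_mul, er]; group)
    (hf _ ms) (sq _ ms) ((commute_coe.1 ((k' d hd).1 c.symm).symm).map π) p2
    (ro_commute hQ h6 (hf _ mb) (sq _ mb) (hf _ ms) (sq _ ms) ((commute_coe.1 (k'.commute hs')).map π) p2
      ((commute_coe.1 cr').map π))
    (by
      rw [← map_inv, ← map_mul, ← map_mul, ← map_mul, ← map_mul]
      exact congrArg π (Subtype.ext er'))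
  have hN : Y ≤ Subgroup.normalizer (((pCore 2 Y).map Y.subtype : Subgroup G) : Set G) := by
    have := Subgroup.le_normalizer_map (H := pCore 2 Y) Y.subtype
    rwa [Subgroup.normalizer_eq_top, ← MonoidHom.range_eq_map, Subgroup.range_subtype] at this
  refine ⟨_, (isPGroup_pCore_two Y).map Y.subtype, hX1.trans hN, hX2.trans hN, s', hs', k',
    ⟨d, hdY⟩ * ⟨s', hsY⟩, mem_pCore_of_sq ((QuotientGroup.eq_one_iff _).1 ?_)
      (Subtype.ext (sq_mul_of_commute sd (ri_sq hD.1 hs') ((k' d hd).1 c.symm).symm)), rfl⟩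
  show π _ = 1
  rw [map_mul, key, sq _ ms]

end OC

end H66.RI
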