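import Cfsg.Agent.H66.QGB1
import Cfsg.Agent.H57.SLCard

/-! The block (slot B of `blueprints/QTGEN.md`), part 2: the data of the parity lemma. -/

set_option autoImplicit false

namespace H66.QG

open Subgroup Cfsg H98 H96 H96.CG H11.QG
open scoped commutatorElement

universe u

variable {G : Type u} [Group G] [Finite G] {L : Subgroup G}

theorem idx_of_hom {M N : Type*} [AddCommGroup M] [AddCommGroup N] {U U₀ C : Subgroup G} (s : Sec M U U₀)
    (hC : C ≤ U) (φ : M →+ N) (hφ : Function.Surjective φ) (h : ∀ w ∈ C, φ (s.ψ w) = 0) :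
    Nat.card N ≤ C.relIndex U := by
  have h1 : C ≤ s.pre φ.ker := fun w hw => s.mem_pre.2 ⟨hC hw, h w hw⟩
  have h2 := relIndex_le_of_le_left h1 (relIndex_pos C U).ne'
  rw [← s.index_eq, AddSubgroup.index_ker, AddMonoidHom.range_eq_top.2 hφ, AddSubgroup.card_top] at h2
  exact h2

theorem q_dvd {Γ : Type*} [Group Γ] (ρ : L →* Γ) (hk : ∀ e : L, ρ e = 1 ↔ (e : G) ∈ o2 L) {E : Subgroup G}
    (hE : IsSyl 2 E L) : ∃ k, (o2 L).relIndex E = 2 ^ k ∧ 2 ^ k ∣ Nat.card ρ.range := by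
  obtain ⟨k, hk2⟩ := hE.isPGroup.index ((o2 L).subgroupOf E)
  refine ⟨k, hk2, ?_⟩
  have h1 : ρ.ker = (o2 L).subgroupOf L := Subgroup.ext hk
  rw [← index_ker, h1, ← hk2]
  exact Dvd.intro _ (relIndex_mul_relIndex (o2 L) E L hE.pCoreOf_le hE.le)

theorem sl_row {F : Type} [Field F] {g : Matrix.SpecialLinearGroup (Fin 2) F} (hg : g ≠ 1) :
    ∃ φ : (Fin 2 → F) →+ F, Function.Surjective φ ∧ ∀ v, sl F g • v = v → φ v = 0 := by
  have : ∃ i j, g i j ≠ (1 : Matrix (Fin 2) (Fin 2) F) i j := by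
    by_contra h
    push Not at h
    exact hg (Matrix.SpecialLinearGroup.ext _ _ h)
  obtain ⟨i, j, h⟩ := this
  refine ⟨AddMonoidHom.mk' (fun v => (sl F g • v) i - v i) fun v w => by
    simp only [sl_smul_apply, Pi.add_apply]; ring, fun c => ?_, fun v hv => by
      simp only [AddMonoidHom.mk'_apply, hv, sub_self]⟩
  refine ⟨Pi.single j (c / (g i j - (1 : Matrix (Fin 2) (Fin 2) F) i j)), ?_⟩
  have h' := sub_ne_zero.2 h
  simp only [AddMonoidHom.mk'_apply, sl_smul_apply]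
  fin_cases i <;> fin_cases j <;> simp at h' ⊢ <;> field_simp

theorem pm_row {ι : Type} [Fintype ι] [DecidableEq ι] (ho : Odd (Fintype.card ι)) {σ : Equiv.Perm ι}
    (h1 : σ ≠ 1) (h2 : σ * σ = 1) (h3 : Equiv.Perm.sign σ = 1) :
    ∃ φ : Ev ι →+ ZMod 2 × ZMod 2, Function.Surjective φ ∧ ∀ v, pm ι σ • v = v → φ v = 0 := by
  have hσ : ∀ x, σ (σ x) = x := fun x => by rw [← Equiv.Perm.mul_apply, h2]; rfl
  have hinv : σ⁻¹ = σ := inv_eq_of_mul_eq_one_left h2
  obtain ⟨k, hk⟩ := Equiv.Perm.exists_fixed_point_of_prime (p := 2) (n := 1) (σ := σ)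
    (fun h => Nat.not_even_iff_odd.2 ho (even_iff_two_dvd.2 h)) (by rw [pow_one, sq, h2])
  obtain ⟨a, ha⟩ : ∃ a, σ a ≠ a := by
    by_contra h
    push Not at h
    exact h1 (Equiv.ext h)
  obtain ⟨c, hc⟩ : ∃ c, σ c ≠ Equiv.swap a (σ a) c := by
    by_contra h
    push Not at h
    rw [Equiv.ext h, Equiv.Perm.sign_swap ha.symm] at h3
    exact absurd h3 (by decide)
  have ca : c ≠ a := by rintro rfl; exact hc (Equiv.swap_apply_left _ _).symm
  have ca' : c ≠ σ a := by rintro rfl; exact hc (by rw [Equiv.swap_apply_right, hσ])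
  rw [Equiv.swap_apply_of_ne_of_ne ca ca'] at hc
  have ca2 : σ c ≠ a := fun h => ca' (by rw [← h, hσ])
  have ca3 : σ c ≠ σ a := fun h => ca (σ.injective h)
  have ka : a ≠ k := by rintro rfl; exact ha hk
  have kc : c ≠ k := by rintro rfl; exact hc hk
  have ka' : σ a ≠ k := fun h => ka (σ.injective (h.trans hk.symm))
  have kc' : σ c ≠ k := fun h => kc (σ.injective (h.trans hk.symm))
  refine ⟨AddMonoidHom.mk' (fun v => (v.1 (σ a) - v.1 a, v.1 (σ c) - v.1 c)) fun v w => by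
    simp only [AddSubgroup.coe_add, Pi.add_apply, Prod.mk_add_mk, Prod.mk.injEq]
    exact ⟨by ring, by ring⟩, fun x => ?_, fun v hv => ?_⟩
  · refine ⟨⟨Pi.single (σ a) x.1 + Pi.single (σ c) x.2 - Pi.single k (x.1 + x.2), mem_Ev.2 ?_⟩, ?_⟩
    · simp [Finset.sum_add_distrib, Finset.sum_sub_distrib]
    · simp [ha.symm, hc.symm, ca', ca2.symm, ca3, ca3.symm, ka, kc, ka', kc']
  · have e : ∀ i, v.1 (σ i) = v.1 i := fun i => by
      have := pm_smul σ v i
      rw [hv, hinv] at this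
      exact this.symm
    simp [e]

omit [Finite G] in
theorem alt_small (lf : LF L) {n : ℕ} (ρ : L →* Equiv.Perm (Fin n)) (hr : ρ.range = alternatingGroup _)
    (hk : ∀ e : L, ρ e = 1 ↔ (e : G) ∈ o2 L) : n ≤ 5 := by
  by_contra hn
  have h6 : 6 ≤ n := by omega
  let τ : Equiv.Perm (Fin 6) := Equiv.swap 0 1 * Equiv.swap 1 2 * Equiv.swap 2 3 * Equiv.swap 4 5
  let f := Equiv.Perm.extendDomainHom (Fin.castLEEmb h6).toEquivRange
  have hf : Function.Injective f := Equiv.Perm.extendDomainHom_injective _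
  have h1 : f τ ∈ ρ.range := by
    rw [hr, Equiv.Perm.mem_alternatingGroup]
    exact (Equiv.Perm.sign_extendDomain τ _).trans (by decide)
  obtain ⟨l, hl⟩ := h1
  have h4 : (l : G) ^ 2 ^ 2 ∈ o2 L := by
    rw [← coe_pow, ← hk, map_pow, hl, ← map_pow, show τ ^ 2 ^ 2 = 1 by decide, map_one]
  obtain ⟨k, hk2⟩ := isPGroup_iff_forall.1 (isPGroup_pCoreOf L) _ h4
  rw [← pow_mul, ← pow_add] at hk2
  obtain ⟨E, hE, hlE⟩ := exists_isSyl_le (isPGroup_zpowers hk2) ((zpowers_le).2 l.2)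
  have h2 := lf.sq E hE l (hlE (mem_zpowers _))
  rw [← coe_mul, ← hk, map_mul, hl, ← map_mul, ← map_one f] at h2
  exact absurd (hf h2) (by decide)

theorem reg_L (lf : LF L) {T E : Subgroup G} (hb : IsBaumannBlock 2 T L) (hU : bU 2 L = o2 L) (hE : IsSyl 2 E L)
    {e : G} (he : e ∈ E) (heQ : e ∉ o2 L) {C : Subgroup G} (hC : C ≤ o2 L) (h : ∀ w ∈ C, ⁅e, w⁆ ∈ cen L) :
    (o2 L).relIndex E ≤ C.relIndex (o2 L) := by
  have heL : e ∈ L := hE.le he
  have hC' : C ≤ bU 2 L := hC.trans hU.ge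
  have hn : e ∈ nn (bU 2 L) (bY 2 L) := nn_bU le_normalizer heL
  have fix : ∀ {M : Type} [AddCommGroup M] (s : Sec M (bU 2 L) (bY 2 L)), ∀ w ∈ C, s.α e • s.ψ w = s.ψ w :=
    fun s w hw => (s.smul_eq_iff hn (hC' hw)).2 ⟨Sec.cmem hn (hC' hw), h w hw⟩
  rw [← hU]
  rcases block_cases hb with ⟨F, _, _, n, s, ρ, hF, -, -, hα, hk⟩ | ⟨-, m, s, ρ, hm, -, hr, hα, hk, -⟩
  · obtain ⟨φ, hφ, h0⟩ := sl_row (g := ρ ⟨e, heL⟩) fun h1 => heQ ((hk _).1 h1)
    refine le_trans ?_ (idx_of_hom s hC' φ hφ fun w hw => h0 _ (hα ⟨e, heL⟩ ▸ fix s w hw))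
    obtain ⟨k, h1, h2⟩ := q_dvd ρ hk hE
    have h3 := h2.trans (card_subgroup_dvd_card _)
    rw [H57.card_sl_two, hF] at h3
    have hn0 : n ≠ 0 := by
      rintro rfl
      exact absurd hF (Fintype.one_lt_card (α := F)).ne'
    have h4 : Odd ((2 ^ n) ^ 2 - 1) :=
      Nat.Even.sub_odd (Nat.one_le_pow _ _ (by positivity))
        ((Nat.even_pow.2 ⟨Nat.even_pow.2 ⟨even_two, hn0⟩, two_ne_zero⟩)) odd_one
    rw [hU, h1, Nat.card_eq_fintype_card, hF]
    exact Nat.le_of_dvd (by positivity)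
      ((Nat.Coprime.pow_left k (Nat.coprime_two_left.2 h4)).dvd_of_dvd_mul_right h3)
  · have h5 := alt_small lf ρ hr hk
    obtain ⟨φ, hφ, h0⟩ := pm_row (ι := Fin (2 * m + 1)) (σ := ρ ⟨e, heL⟩) (by simp)
      (fun h1 => heQ ((hk _).1 h1)) (by rw [← map_mul, hk]; exact lf.sq E hE e he)
      (Equiv.Perm.mem_alternatingGroup.1 (hr ▸ ⟨_, rfl⟩))
    refine le_trans ?_ (idx_of_hom s hC' φ hφ fun w hw => h0 _ (hα ⟨e, heL⟩ ▸ fix s w hw))
    obtain ⟨k, h1, h2⟩ := q_dvd ρ hk hE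
    have : Nontrivial (Fin (2 * m + 1)) := Fin.nontrivial_iff_two_le.2 (by omega)
    rw [hr, nat_card_alternatingGroup, Nat.card_eq_fintype_card, Fintype.card_fin] at h2
    have h3 : 2 ^ k ∣ 60 := by
      refine h2.trans ?_
      have : m = 1 ∨ m = 2 := by omega
      rcases this with rfl | rfl <;> decide
    rw [hU, h1, Nat.card_prod, Nat.card_zmod]
    by_contra h4
    have h6 : 3 ≤ k := by
      by_contra h6
      have : k ≤ 2 := by omega
      interval_cases k <;> omega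
    exact absurd ((pow_dvd_pow 2 h6).trans h3) (by decide)

theorem jobB : H11.QG.JobB.{u} := by
  intro G _ _ L S _ lf hS SL syl hQ hc
  have hb := block_L lf hS SL syl hQ hc
  obtain ⟨M, _, s, S', d⟩ := block_bc' (charP_sup lf hS SL syl hQ hc) (isSyl_sup hS SL syl) le_sup_right hb
  have hW : o2 L = bW 2 L := by
    rcases hb.2.2.2.2 with ⟨F, _, _, n, -, -, -, h | ⟨h, -⟩⟩ | ⟨-, m, -, -, h⟩
    · exact h
    · omega
    · exact h
  have hU : bU 2 L = o2 L := by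
    have := d.qe
    rw [bU, ← hW]
    exact this
  have hQE : o2 L ≤ S ⊓ L := syl.pCoreOf_le
  have hQR : o2 L ≤ S ⊓ cq L := le_inf (hQE.trans inf_le_left) (o2_le_cq L)
  have hRc : S ⊓ cq L ≤ cen (o2 L) := by
    have := d.O_cent
    rwa [o2_sup_eq lf hS SL syl, hU] at this
  have ea : IsElementaryAbelian 2 (o2 L) := hU ▸ ea_bU L
  have cw : ∀ {r w : G}, r ∈ S ⊓ cq L → w ∈ o2 L → w * r = r * w := fun hr hw =>
    mem_centralizer_iff.1 (hRc hr) _ hw
  have cl : ∀ {r l : G}, r ∈ S ⊓ cq L → l ∈ L → ∃ w ∈ o2 L, l * r * l⁻¹ = w * r := fun {r l} hr hl =>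
    ⟨⁅l, r⁆, (mem_cq.1 hr.2).2 l hl, by simp only [commutatorElement_def]; group⟩
  have nER : S ⊓ L ≤ nor (S ⊓ cq L) := inf_le_left.trans (nor_R SL)
  have RQ : ∀ {x : G}, x ∈ S ⊓ cq L → x ∈ L → x ∈ o2 L := fun h1 h2 => inf_cq_le lf (mem_inf.2 ⟨h2, h1.2⟩)
  have idx : ∀ C ≤ S ⊓ L, (S ⊓ cq L).relIndex (C ⊔ S ⊓ cq L) = (o2 L).relIndex C := fun C hC => by
    rw [H99.relIndex_sup_of_le_normalizer (hC.trans nER), ← inf_relIndex_right, ← inf_relIndex_right (o2 L)]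
    congr 1
    exact le_antisymm (fun x hx => ⟨RQ hx.1 (hC hx.2).2, hx.2⟩) (inf_le_inf_right C hQR)
  refine ⟨hS, hQE.trans inf_le_left, le_normalizer_pCoreOf SL, ea, ?_, inf_le_left, ?_, ?_, le_sup_right,
    sup_le inf_le_left inf_le_left, le_normalizer_sup (le_normalizer_inf le_normalizer SL) (nor_R SL),
    idx _ le_rfl, lf.four _ syl, ?_, ?_, ?_, ?_, ?_⟩
  · refine le_antisymm (le_inf inf_le_left hRc) fun x hx => ⟨hx.1, mem_cq.2 ⟨SL hx.1, fun c hc => ?_⟩⟩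
    exact d.comm_le (X := S ⊓ cen (o2 L)) (inf_le_left.trans SL) (by rw [hU]; exact inf_le_right)
      (commutator_mem_commutator hc hx)
  · intro r hr h
    refine ⟨h, mem_centralizer_iff.2 fun l hl => ?_⟩
    obtain ⟨w, hw, e⟩ := cl hr hl
    have : l * (r * r) * l⁻¹ = r * r := by
      calc l * (r * r) * l⁻¹ = (l * r * l⁻¹) * (l * r * l⁻¹) := by group
        _ = w * (r * w) * r := by rw [e]; group
        _ = r * r := by rw [← cw hr hw, ← mul_assoc, ea_mul_self ea hw, one_mul]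
    exact mul_inv_eq_iff_eq_mul.1 this
  · intro r hr r' hr' h
    refine ⟨h, mem_centralizer_iff.2 fun l hl => ?_⟩
    obtain ⟨w, hw, e⟩ := cl hr hl
    obtain ⟨w', hw', e'⟩ := cl hr' hl
    have : l * ⁅r, r'⁆ * l⁻¹ = ⁅r, r'⁆ := by
      have h1 : l * ⁅r, r'⁆ * l⁻¹ = ⁅l * r * l⁻¹, l * r' * l⁻¹⁆ := by
        simp only [commutatorElement_def]; group
      have h2 : ⁅w * r, w' * r'⁆ = w * ⁅r, w' * r'⁆ * w⁻¹ * ⁅w, w' * r'⁆ := by
        simp only [commutatorElement_def]; group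
      have h3 : ⁅r, w' * r'⁆ = ⁅r, w'⁆ * (w' * ⁅r, r'⁆ * w'⁻¹) := by
        simp only [commutatorElement_def]; group
      rw [h1, e, e', h2, h3, comm_eq_one (cw ((S ⊓ cq L).mul_mem (hQR hw') hr') hw),
        comm_eq_one (cw hr hw').symm, ea_comm ea hw' h, one_mul, mul_one, mul_inv_cancel_right,
        ea_comm ea hw h, mul_inv_cancel_right]
    exact mul_inv_eq_iff_eq_mul.1 this
  · intro x hx
    obtain ⟨e, he, r, hr, rfl⟩ := exists_eR SL hx
    have : e * r * (e * r) = e * e * (e⁻¹ * r * e) * r := by group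
    rw [this]
    exact mul_mem (mul_mem (hQR (lf.sq _ syl e he)) (conj_mem_of_mem_normalizer' (nER he) hr)) hr
  · intro x hx h
    exact (mem_E_iff hx).2 (lf.a1 _ syl x (SL hx) fun e he =>
      RQ (h e (mem_sup_left he)) (comm_mem_left he.2 (SL hx)))
  · intro a ha b hb h1 h2 h3 h4
    rw [mem_E_iff ha] at h1
    rw [mem_E_iff hb] at h2
    rw [mem_E_iff (S.mul_mem ha ha)] at h3
    rw [mem_E_iff (S.mul_mem hb hb)] at h4
    rw [mem_E_iff (S.mul_mem ha (S.inv_mem hb))]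
    exact lf.a2 S hS SL syl a ha b hb h1 h2 h3 h4
  · intro g hg hgE C hC h
    rw [mem_E_iff hg] at hgE
    have nQ : S ⊓ L ≤ nor (o2 L) := le_normalizer_pCoreOf_of_le inf_le_right
    have h1 := lf.a3 _ syl g (SL hg) (le_normalizer_inf le_normalizer SL hg) hgE (fixm (S ⊓ L) (o2 L) g nQ)
      fixm_le fun e he => he.2
    refine le_trans (Nat.pow_le_pow_left ?_ 2) h1
    rw [← idx _ fixm_le]
    refine relIndex_le_of_le_right (fun c hc => ?_) (relIndex_pos _ _).ne'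
    obtain ⟨e, he, r, hr, rfl⟩ := exists_eR SL (hC hc)
    refine mul_mem (mem_sup_left ⟨he, RQ ?_ (comm_mem_left he.2 (SL hg))⟩) (mem_sup_right hr)
    have : ⁅e, g⁆ = (e * ⁅r, g⁆ * e⁻¹)⁻¹ * ⁅e * r, g⁆ := by simp only [commutatorElement_def]; group
    rw [this]
    exact mul_mem (inv_mem (conj_mem_of_mem_normalizer (nER he) (comm_mem_left hr (nor_R SL hg)))) (h _ hc)
  · intro ρ hρ hρR C hC h
    obtain ⟨e, he, r, hr, rfl⟩ := exists_eR SL hρ
    refine reg_L lf hb hU syl he (fun h1 => hρR (mul_mem (hQR h1) hr)) hC fun w hw => ?_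
    have h1 := (h w hw).2
    have : ⁅w, e * r⁆ = ⁅w, e⁆ * (e * ⁅w, r⁆ * e⁻¹) := by simp only [commutatorElement_def]; group
    rw [this, comm_eq_one (cw hr (hC hw)), mul_one, mul_inv_cancel, mul_one] at h1
    rw [← commutatorElement_inv]
    exact (cen L).inv_mem h1

end H66.QG
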