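import Cfsg.Agent.H66.QGP1
import Cfsg.Agent.H96.Struct4
import Cfsg.Agent.H98.SymM
import Cfsg.Agent.S0088

/-! The block (slot B of `blueprints/QTGEN.md`), part 1: `L` is a `B(S)`-block of `LS`. -/

set_option autoImplicit false

namespace H66.QG

open Subgroup Cfsg H98 H96 H96.CG H11.QG
open scoped commutatorElement

universe u

variable {G : Type u} [Group G] {L S : Subgroup G}

theorem mem_cq {x : G} : x ∈ cq L ↔ x ∈ nor L ∧ ∀ c ∈ L, ⁅c, x⁆ ∈ o2 L :=
  ⟨fun h => ⟨h.1, (mem_stab.1 h.2).2⟩,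
    fun h => ⟨h.1, mem_stab.2 ⟨normalizer_le_normalizer_pCoreOf L h.1, h.2⟩⟩⟩

theorem nor_le_nor_cq (L : Subgroup G) : nor L ≤ nor (cq L) :=
  le_normalizer_inf le_normalizer (le_normalizer_stab le_rfl (normalizer_le_normalizer_pCoreOf L))

theorem o2_le_cq (L : Subgroup G) : o2 L ≤ cq L := fun x hx =>
  mem_cq.2 ⟨le_normalizer (pCoreOf_le L hx), fun c hc => by
    rw [commutatorElement_def]
    exact (o2 L).mul_mem (conj_mem_of_mem_normalizer (self_le_normalizer_pCoreOf L hc) hx) ((o2 L).inv_mem hx)⟩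

theorem comm_mem_left {c x : G} (hc : c ∈ L) (hx : x ∈ nor L) : ⁅c, x⁆ ∈ L := by
  have e : ⁅c, x⁆ = c * (x * c⁻¹ * x⁻¹) := by simp only [commutatorElement_def]; group
  rw [e]
  exact L.mul_mem hc (conj_mem_of_mem_normalizer hx (L.inv_mem hc))

theorem comm_mem_right {c x : G} (hc : c ∈ nor L) (hx : x ∈ L) : ⁅c, x⁆ ∈ L := by
  rw [commutatorElement_def]
  exact L.mul_mem (conj_mem_of_mem_normalizer hc hx) (L.inv_mem hx)

theorem not_le_o2 (lf : LF L) : ¬ L ≤ o2 L := fun h => by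
  obtain ⟨E, hE⟩ := exists_isSyl 2 L
  have := lf.four E hE
  rw [relIndex_eq_one.2 (hE.le.trans h)] at this
  omega

theorem inf_cq_le (lf : LF L) : L ⊓ cq L ≤ o2 L := by
  refine (lf.simp _ inf_le_left (le_normalizer_inf le_normalizer
    (le_normalizer.trans (nor_le_nor_cq L)))).resolve_right fun e => not_le_o2 lf ?_
  refine lf.perf.ge.trans (commutator_le.2 fun a ha b hb => ?_)
  exact (mem_cq.1 (e.ge hb).2).2 a ha

/-- membership in the overgroup of `S ⊓ cq L` -/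
theorem mem_E_iff {s : G} (hs : s ∈ S) : s ∈ S ⊓ L ⊔ S ⊓ cq L ↔ s ∈ S ⊓ L ⊔ cq L := by
  have h := sup_inf_of_le_left (A := S ⊓ L) (N := cq L) (C := S)
    (inf_le_right.trans (le_normalizer.trans (nor_le_nor_cq L))) inf_le_left
  rw [inf_comm (cq L) S] at h
  rw [← h, mem_inf]
  exact ⟨fun h => h.1, fun h => ⟨h, hs⟩⟩

theorem nor_R (SL : S ≤ nor L) : S ≤ nor (S ⊓ cq L) :=
  le_normalizer_inf le_normalizer (SL.trans (nor_le_nor_cq L))

theorem exists_eR (SL : S ≤ nor L) {x : G} (hx : x ∈ S ⊓ L ⊔ S ⊓ cq L) :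
    ∃ e ∈ S ⊓ L, ∃ r ∈ S ⊓ cq L, x = e * r :=
  (mem_sup_left_norm (inf_le_left.trans (nor_R SL))).1 hx

variable (lf : LF L) (hS : IsPGroup 2 S) (SL : S ≤ nor L) (syl : IsSyl 2 (S ⊓ L) L)
include lf hS SL syl

theorem inf_cq_eq : (S ⊔ L) ⊓ cq L = S ⊓ cq L := by
  refine le_antisymm (fun h hh => ?_) (inf_le_inf_right _ le_sup_left)
  obtain ⟨s, hs, l, hl, rfl⟩ := (mem_sup_left_norm SL).1 hh.1
  have h1 : s ∈ L ⊔ cq L := by
    have : s = s * l * l⁻¹ := by group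
    rw [this]
    exact mul_mem (mem_sup_right hh.2) (mem_sup_left (L.inv_mem hl))
  obtain ⟨e, he, c, hc, rfl⟩ := exists_eR SL ((mem_E_iff hs).2 (lf.a4 S hS SL syl ⟨hs, h1⟩))
  have h2 : c⁻¹ * e * c * l ∈ L := L.mul_mem (conj_mem_of_mem_normalizer' (SL hc.1) he.2) hl
  have h3 : c⁻¹ * e * c * l ∈ cq L := by
    have : c⁻¹ * e * c * l = c⁻¹ * (e * c * l) := by group
    rw [this]
    exact (cq L).mul_mem ((cq L).inv_mem hc.2) hh.2
  have h4 := inf_cq_le lf (mem_inf.2 ⟨h2, h3⟩)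
  have : e * c * l = c * (c⁻¹ * e * c * l) := by group
  rw [this]
  exact (S ⊓ cq L).mul_mem hc ⟨(syl.pCoreOf_le h4).1, o2_le_cq L h4⟩

theorem o2_sup_eq : pCoreOf 2 (S ⊔ L) = S ⊓ cq L := by
  have hH : S ⊔ L ≤ nor L := sup_le SL le_normalizer
  refine le_antisymm ?_ (le_pCoreOf (hS.to_le inf_le_left) (inf_le_left.trans le_sup_left) ?_)
  · rw [← inf_cq_eq lf hS SL syl]
    refine le_inf (pCoreOf_le _) fun x hx => mem_cq.2 ⟨hH (pCoreOf_le _ hx), fun c hc => ?_⟩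
    exact pCoreOf_inf_le_of_le (le_sup_right : L ≤ S ⊔ L)
      ⟨comm_mem_right (le_normalizer_pCoreOf_of_le le_sup_right hc) hx,
        comm_mem_left hc (hH (pCoreOf_le _ hx))⟩
  · rw [← inf_cq_eq lf hS SL syl]
    exact le_normalizer_inf le_normalizer (hH.trans (nor_le_nor_cq L))

variable [Finite G]

omit lf in
theorem isSyl_sup : IsSyl 2 S (S ⊔ L) := by
  refine isSyl_of_not_dvd_relIndex le_sup_left hS ?_
  rw [H96.relIndex_sup_of_le_normalizer SL, ← inf_relIndex_right]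
  exact syl.not_dvd_relIndex

omit hS SL syl in
/-- transfer: a perfect group with an abelian Sylow subgroup has no central `2`-elements -/
theorem o2_eq_bot {E : Subgroup G} (hE : IsSyl 2 E L) (hc : E ≤ cen E) (hQ : o2 L ≤ cen L) : o2 L = ⊥ := by
  have h1 := Cfsg.Agent.S0088.result (E.subgroupOf L)
    ⟨⟨fun a b => Subtype.ext (Subtype.ext (mem_centralizer_iff.1 (hc b.2) _ a.2))⟩⟩ (by
      rw [Nat.card_congr (subgroupOfEquivOfLe hE.le).toEquiv, hE.card_eq]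
      exact Nat.Coprime.pow_left _ ((Nat.Prime.coprime_iff_not_dvd Nat.prime_two).2 hE.not_dvd_relIndex))
  have h2 : _root_.commutator L = ⊤ := by
    apply map_injective L.subtype_injective
    rw [_root_.commutator, map_commutator, map_subtype_top, lf.perf]
  refine eq_bot_iff.2 fun x hx => ?_
  have h3 : (⟨x, pCoreOf_le L hx⟩ : L) ∈ E.subgroupOf L ⊓ _root_.commutator L ⊓ center L :=
    ⟨⟨hE.pCoreOf_le hx, h2 ▸ mem_top _⟩, mem_center_iff.2 fun g =>
      Subtype.ext (mem_centralizer_iff.1 (hQ hx) g g.2)⟩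
  rw [h1, mem_bot] at h3
  exact congrArg Subtype.val h3

variable (hQ : o2 L ≠ ⊥) (hc : ∀ C ≤ S, C ≠ ⊥ → (C.subgroupOf S).Characteristic → ¬ L ≤ nor C)
include hQ hc

theorem charP_sup : CharP 2 (S ⊔ L) := by
  have hH : S ⊔ L ≤ nor L := sup_le SL le_normalizer
  have hQS : o2 L ≤ S ⊓ cq L := le_inf (syl.pCoreOf_le.trans inf_le_left) (o2_le_cq L)
  have nC : S ⊔ L ≤ nor ((S ⊔ L) ⊓ cen (pCoreOf 2 (S ⊔ L))) :=
    le_normalizer_inf le_normalizer (le_normalizer_centralizer (self_le_normalizer_pCoreOf _))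
  rcases lf.simp ((S ⊔ L) ⊓ cen (pCoreOf 2 (S ⊔ L)) ⊓ L) inf_le_right
    (le_normalizer_inf (le_sup_right.trans nC) le_normalizer) with h | h
  · intro x hx
    rw [o2_sup_eq lf hS SL syl, ← inf_cq_eq lf hS SL syl]
    exact ⟨hx.1, mem_cq.2 ⟨hH hx.1, fun c hc =>
      h ⟨comm_mem_right (nC (mem_sup_right hc)) hx, comm_mem_left hc (hH hx.1)⟩⟩⟩
  exfalso
  have hL : L ≤ cen (S ⊓ cq L) := by
    rw [← o2_sup_eq lf hS SL syl]
    exact h.ge.trans (inf_le_left.trans inf_le_right)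
  have hR : S ⊓ cq L ≤ cen L := le_centralizer_iff.1 hL
  refine hc (oz 2 S) (oz_le S) (oz_ne_bot hS fun e => hQ (eq_bot_iff.2 ((hQS.trans inf_le_left).trans e.le)))
    (char_oz S) (le_normalizer_of_le_centralizer (le_centralizer_iff.1 fun z hz => ?_))
  have hzS : z ∈ S := oz_le S hz
  have hzc : ∀ y ∈ S, y * z = z * y := mem_centralizer_iff.1 (oz_le_centralizer S hz)
  obtain ⟨e, he, c, hc, rfl⟩ := exists_eR SL ((mem_E_iff hzS).2 (lf.a1 _ syl z (SL hzS) fun e he => by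
    rw [comm_eq_one (hzc e he.1)]; exact (o2 L).one_mem))
  refine (cen L).mul_mem ?_ (hR hc)
  by_contra heL
  have heQ : e ∉ o2 L := fun h => heL (hR (hQS h))
  have hec : e ∈ cen (S ⊓ L) := by
    have : e = e * c * c⁻¹ := by group
    rw [this]
    exact (cen (S ⊓ L)).mul_mem (mem_centralizer_iff.2 fun y hy => hzc y hy.1)
      ((cen (S ⊓ L)).inv_mem (centralizer_anti inf_le_right (hR hc)))
  refine hQ (o2_eq_bot lf syl (fun y hy => ?_) (hQS.trans hR))
  have hQc : o2 L ≤ cen (S ⊓ L) := (hQS.trans hR).trans (centralizer_anti inf_le_right)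
  by_cases hy' : y ∈ o2 L
  · exact hQc hy'
  obtain ⟨b, -, hb, hb'⟩ := lf.tr _ syl e he y hy heQ hy'
  have h1 := (cen (S ⊓ L)).mul_mem ((cen (S ⊓ L)).inv_mem (hQc hb'))
    (conj_mem_of_mem_normalizer (normalizer_le_normalizer_centralizer _ hb) hec)
  have : (b * e * b⁻¹ * y⁻¹)⁻¹ * (b * e * b⁻¹) = y := by group
  rwa [this] at h1

theorem block_L : IsBaumannBlock 2 S L := by
  have hH : S ⊔ L ≤ nor L := sup_le SL le_normalizer
  have hch := charP_sup lf hS SL syl hQ hc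
  have hsy := isSyl_sup hS SL syl
  have hS0 : S ≠ ⊥ := fun e => hQ (eq_bot_iff.2 ((syl.pCoreOf_le.trans inf_le_left).trans e.le))
  have um := lf.umax _ syl
  have key : ∀ C ≤ S, C ≠ ⊥ → (C.subgroupOf S).Characteristic → (S ⊔ L) ⊓ nor C ≤ nor (S ⊓ L) := by
    intro C h1 h2 h3
    have hSK : S ≤ (S ⊔ L) ⊓ nor C := le_inf le_sup_left fun s hs =>
      (normal_subgroupOf_iff_le_normalizer h1).1 inferInstance hs
    set K := (S ⊔ L) ⊓ nor C with hK
    have h4 : K ⊓ L ≤ L ⊓ nor (S ⊓ L) := (um.uniq _ (inf_le_inf_right L hSK) inf_le_right).resolve_right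
      fun e => hc C h1 h2 h3 (e.ge.trans (inf_le_left.trans inf_le_right))
    have h5 : S ⊓ L = pCoreOf 2 (K ⊓ L) :=
      (syl.of_le (inf_le_inf_right L hSK) inf_le_right).eq_pCoreOf (h4.trans inf_le_right)
    have h6 : K ≤ nor (pCoreOf 2 (K ⊓ L)) :=
      le_normalizer_pCoreOf (le_normalizer_inf le_normalizer (inf_le_left.trans hH))
    rwa [← h5] at h6
  have c : CX 2 (S ⊔ L) S (nor (S ⊓ L)) := ⟨hch, hsy, (inf_le_inf_left _ (centralizer_le_normalizer _)).trans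
    (key _ (oz_le S) (oz_ne_bot hS hS0) (char_oz S)), fun C h1 h2 h3 =>
      have := char_bm (p := 2) S
      key C (h1.trans (bm_le S)) h2 (char_trans h1 (bm_le S) h3)⟩
  obtain ⟨F, hF, hb, hFX⟩ := exists_block hch hsy c.h1 c.h2 fun h =>
    um.lt.not_ge (le_inf le_rfl (le_sup_right.trans h))
  obtain ⟨E, hE, hFE⟩ := inSB (S ⊔ L) _ _ c F hF (c.block hF hb hFX) hFX
  have hb' := hE.block hch hsy
  have hEL : E ≤ L := hb'.1.ge.trans ((res_mono hE.sub.le).trans (res_sup_le_right hS SL))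
  rcases (hE.sub.of_le hEL le_sup_right).eq_or_exists_normal with e | ⟨N, h1, h2, h3⟩
  · exact e ▸ hb'
  · exact absurd (hFE.trans (h1.trans (((lf.simp N h2.le h3).resolve_right h2.ne).trans
      (syl.pCoreOf_le.trans le_normalizer)))) hFX

end H66.QG
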