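import Cfsg.Agent.H66.QGLF1
import Cfsg.Agent.H99.Iso
import Cfsg.Agent.H86.AltAut
import Cfsg.Agent.S0252

/-! Facts on `L₂(2ⁿ)` (slot LF of `blueprints/QTGEN.md`), part 2. -/

set_option autoImplicit false

namespace H66.QG

open Subgroup Cfsg H98 H96 H96.CG H11.QG MatrixGroups H11
open scoped commutatorElement

universe u

variable {G : Type u} [Group G] {L E : Subgroup G}

theorem comm_swap {N : Subgroup G} {a b : G} (h : ⁅a, b⁆ ∈ N) : ⁅b, a⁆ ∈ N := by
  rw [← commutatorElement_inv]; exact N.inv_mem h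

/-- an action on five points from an isomorphism with `A₅` -/
theorem exists_phi5 (φ : L ≃* alternatingGroup (Fin 5)) : ∃ Φ : ↥(nor L) →* Equiv.Perm (Fin 5),
    (∀ g, Φ g = 1 ↔ (g : G) ∈ cen L) ∧ (L.subgroupOf (nor L)).map Φ = alternatingGroup (Fin 5) := by
  let ε := MulEquiv.ofBijective (MulAut.conjNormal : Equiv.Perm (Fin 5) →* MulAut (alternatingGroup (Fin 5)))
    ⟨H86.conjNormal_injective (by simp), fun α =>
      H86.exists_conjNormal_eq (by simp) α (H86.isThreeCycle_aut (by simp) α)⟩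
  let Φ : ↥(nor L) →* Equiv.Perm (Fin 5) :=
    ((MulAut.congr φ).trans ε.symm).toMonoidHom.comp L.normalizerMonoidHom
  have key : ∀ (g : nor L) (hg : (g : G) ∈ L), Φ g = φ ⟨g, hg⟩ := fun g hg => by
    refine ε.symm_apply_eq.2 (MulEquiv.ext fun x => ?_)
    obtain ⟨y, rfl⟩ := φ.surjective x
    have : L.normalizerMonoidHom g y = ⟨g, hg⟩ * y * ⟨g, hg⟩⁻¹ := Subtype.ext rfl
    change φ (L.normalizerMonoidHom g (φ.symm (φ y))) = _
    rw [φ.symm_apply_apply, this, map_mul, map_mul, map_inv]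
    rfl
  refine ⟨Φ, fun g => ?_, le_antisymm ?_ fun π hπ => ?_⟩
  · rw [← mem_subgroupOf, ← normalizerMonoidHom_ker, MonoidHom.mem_ker]
    simp only [Φ, MonoidHom.comp_apply, MulEquiv.coe_toMonoidHom, EmbeddingLike.map_eq_one_iff]
  · rintro _ ⟨g, hg, rfl⟩
    rw [key g hg]
    exact (φ _).2
  · obtain ⟨l, hl⟩ := φ.surjective ⟨π, hπ⟩
    exact ⟨⟨l, le_normalizer l.2⟩, l.2, by rw [key _ l.2]; exact congrArg Subtype.val hl⟩

variable [Finite G] {F : Type} [Field F] [Fintype F] {r : G → SL(2, F)}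

omit [Finite G] in
theorem Rp.card (R : Rp L E r) : (o2 L).relIndex E = Fintype.card F := by
  rw [← R.sec.card_eq, Nat.card_eq_fintype_card]

omit [Finite G] [Fintype F] in
theorem Rp.triv (R : Rp L E r) {g : G} (hg : g ∈ E ⊔ cq L) : ∀ x ∈ E, ⁅g, x⁆ ∈ o2 L := fun x hx => by
  obtain ⟨e, he, c, hc, rfl⟩ :=
    (mem_sup_left_norm (R.le.trans (le_normalizer.trans (nor_le_nor_cq L)))).1 hg
  rw [show ⁅e * c, x⁆ = e * ⁅c, x⁆ * e⁻¹ * ⁅e, x⁆ by simp only [commutatorElement_def]; group]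
  exact mul_mem (conj_mem_of_mem_normalizer (self_le_normalizer_pCoreOf L (R.le he))
    (comm_swap ((mem_cq.1 hc).2 x (R.le hx)))) (R.sec.comm_mem he hx)

omit [Finite G] [Fintype F] in
theorem Rp.nor_of (R : Rp L E r) [Finite G] {g : G} (h : ∀ x ∈ E, ⁅g, x⁆ ∈ o2 L) : g ∈ nor E :=
  mem_normalizer_of_cj_le (by
    rintro _ ⟨x, hx, rfl⟩
    have := E.mul_mem (R.QE (h x hx)) hx
    rwa [commutatorElement_def, inv_mul_cancel_right] at this)

theorem Rp.a1 (R : Rp L E r) (h2 : (2 : F) = 0) {g : G} (hg : g ∈ nor L) (h : ∀ x ∈ E, ⁅g, x⁆ ∈ o2 L) :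
    g ∈ E ⊔ cq L := by
  obtain ⟨σ, c, h3, h4⟩ := R.sl h2 hg (R.nor_of h)
  obtain ⟨e, e'⟩ := (h3.triv_iff (R.nor_of h)).1 h
  exact h4 e e'

theorem lf_of (h : L2 L) : LF L := by
  obtain ⟨perf, F, _, _, _, h4, ⟨e⟩⟩ := h
  have h2 : (2 : F) = 0 := CharTwo.two_eq_zero
  have rp := fun {E : Subgroup G} (hE : IsSyl 2 E L) => exists_rp e hE
  have four : ∀ E, IsSyl 2 E L → 4 ≤ (o2 L).relIndex E := fun E hE => by
    obtain ⟨r, R⟩ := rp hE
    rwa [R.card]
  refine ⟨perf, fun N hN hn => ?_, fun E hE x hx => ?_, four, fun E hE => ?_, fun E hE x hx y hy hx' hy' => ?_,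
    fun E hE g hg h => ?_, fun S hS SL syl a ha b hb h5 h6 h7 h8 => ?_, fun E hE g hg hg' h5 C hC h6 => ?_,
    fun S hS SL syl s hs => ?_, fun E hE h5 h6 => ?_⟩
  · obtain ⟨E, hE⟩ := exists_isSyl 2 L
    obtain ⟨r, R⟩ := rp hE
    have : (R.img hN).Normal := ⟨by
      rintro _ ⟨x, hx, rfl⟩ b
      obtain ⟨y, hy, rfl⟩ := R.surj b
      exact ⟨_, conj_mem_of_mem_normalizer (hn hy) hx, R.conj hy (hN hx)⟩⟩
    rcases sl_normal h2 h4 (R.img hN) with e' | e'
    · refine Or.inr (le_antisymm hN ((H99.res_eq_of_perfect (p := 2) perf).ge.trans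
        ((res_mono ((R.le_sup hN e').trans (sup_comm _ _).le)).trans
          (res_sup_le_right (isPGroup_pCoreOf L) ((pCoreOf_le L).trans hn)))))
    · exact Or.inl fun x hx => (R.ker x (hN hx)).1 (mem_bot.1 (e' ▸ ⟨x, hx, rfl⟩))
  · obtain ⟨r, R⟩ := rp hE
    rw [← R.sec.ker _ (E.mul_mem hx hx), R.sec.mul _ hx _ hx, ← two_mul, h2, zero_mul]
  · obtain ⟨r, R⟩ := rp hE
    refine ⟨le_inf hE.le le_normalizer, lt_of_le_of_ne inf_le_left fun e' => ?_, fun X => R.um⟩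
    have := four E hE
    rw [relIndex_eq_one.2 (hE.eq_pCoreOf (e'.ge.trans inf_le_right)).le] at this
    omega
  · obtain ⟨r, R⟩ := rp hE
    have x0 : R.sec.ψ x ≠ 0 := fun e' => hx' ((R.sec.ker x hx).1 e')
    have y0 : R.sec.ψ y ≠ 0 := fun e' => hy' ((R.sec.ker y hy).1 e')
    obtain ⟨b, hb, hb', h5⟩ := R.scal h2 (div_ne_zero y0 x0)
    refine ⟨b, hb, hb', (R.sec.eq_iff' (conj_mem_of_mem_normalizer hb' hx) hy).1 ?_⟩
    rw [h5.eq x hx]
    exact div_mul_cancel₀ _ x0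
  · obtain ⟨r, R⟩ := rp hE
    exact R.a1 h2 hg fun x hx => comm_swap (h x hx)
  · obtain ⟨r, R⟩ := rp syl
    have nE : S ≤ nor (S ⊓ L) := le_normalizer_inf le_normalizer SL
    have k1 : ∀ {g c}, g ∈ S → H98.SL R.sec g 1 c → g ∈ S ⊓ L ⊔ cq L := fun hg h =>
      R.a1 h2 (SL hg) (h.triv h2 (nE hg) (T2.of_mem hS hg))
    have k2 : ∀ {g σ c}, g ∈ S → H98.SL R.sec g σ c → g * g ∈ S ⊓ L ⊔ cq L → σ * σ = 1 := fun hg h h' =>
      (((h.mul h (nE hg)).triv_iff (nE (S.mul_mem hg hg))).1 (R.triv h')).1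
    obtain ⟨σ, c, h9, -⟩ := R.sl h2 (SL ha) (nE ha)
    obtain ⟨τ, d, h10, -⟩ := R.sl h2 (SL hb) (nE hb)
    have e' := aut_eq_of_sq (k2 ha h9 h7) (k2 hb h10 h8) (fun e' => h5 (k1 ha (e' ▸ h9)))
      (fun e' => h6 (k1 hb (e' ▸ h10)))
    have h11 := h9.mul (h10.inv (nE hb)) (nE (S.inv_mem hb))
    rw [e', mul_inv_cancel] at h11
    exact k1 (S.mul_mem ha (S.inv_mem hb)) h11
  · obtain ⟨r, R⟩ := rp hE
    obtain ⟨σ, c, h7, h8⟩ := R.sl h2 hg hg'
    by_cases e' : σ = 1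
    · subst e'
      rw [relIndex_eq_one.2 fun x hx => h7.free hg' (fun e' => h5 (h8 rfl e')) (hC hx) (comm_swap (h6 x hx))]
      have := four E hE
      omega
    · rw [R.card]
      exact h7.fix_le hg' e' hC fun x hx => comm_swap (h6 x hx)
  · obtain ⟨r, R⟩ := rp syl
    have nE : S ≤ nor (S ⊓ L) := le_normalizer_inf le_normalizer SL
    obtain ⟨l, hl, c, hc, e'⟩ := (mem_sup_left_norm (le_normalizer.trans (nor_le_nor_cq L))).1 hs.2
    have h5 := R.triv (mem_sup_right hc)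
    have h6 := R.nor_of h5
    have h7 : l ∈ nor (S ⊓ L) := by
      simpa [e'] using mul_mem (nE hs.1) (inv_mem h6)
    have h8 := (R.sl_L hl h7).2.mul (H98.SL.of_triv R.sec h6 h5) h6
    rw [← e', mul_one] at h8
    exact R.a1 h2 (SL hs.1) (h8.triv h2 (nE hs.1) (T2.of_mem hS hs.1))
  · obtain ⟨r, R⟩ := rp hE
    have h7 := R.card
    rw [h5, relIndex_bot_left, h6] at h7
    obtain ⟨φ⟩ := Cfsg.Agent.S0252.result h7.symm
    exact exists_phi5 (((QuotientGroup.quotientBot.symm.trans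
      (QuotientGroup.quotientMulEquivOfEq (pCoreOf_eq_bot_iff.1 h5).symm)).trans e).trans φ)

theorem jobLF : H11.QG.JobLF.{u} := by
  refine ⟨fun G _ _ L h => lf_of h, fun G G' _ _ _ _ f L h hk => ?_, fun G _ _ L H h hH => ?_⟩
  · obtain ⟨perf, F, i1, i2, i3, h4, ⟨e⟩⟩ := h
    have h1 : o2 (L.map f) = (o2 L).map f := by
      have h2 : IsPGroup 2 (f.comp L.subtype).ker :=
        (isPGroup_subgroupOf (isPGroup_pCoreOf L) L).to_le fun x hx => hk (mem_inf.2 ⟨hx, x.2⟩)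
      have h3 := map_pCoreOf_of_ker h2 (H := ⊤)
      rw [pCoreOf_top, ← map_map, ← map_map, map_subtype_top] at h3
      exact h3.symm
    refine ⟨⟨by rw [← map_commutator, perf], F, i1, i2, i3, h4, ?_⟩, h1⟩
    let θ := (QuotientGroup.mk' (pCore 2 (L.map f))).comp (f.subgroupMap L)
    have hs : Function.Surjective θ := (QuotientGroup.mk'_surjective _).comp (f.subgroupMap_surjective L)
    have hker : θ.ker = pCore 2 L := Subgroup.ext fun x => by
      rw [MonoidHom.mem_ker, MonoidHom.comp_apply, QuotientGroup.mk'_apply, QuotientGroup.eq_one_iff,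
        ← pCoreOf_subgroupOf, ← pCoreOf_subgroupOf, mem_subgroupOf, mem_subgroupOf]
      change f x ∈ o2 (L.map f) ↔ _
      rw [h1]
      refine ⟨fun ⟨y, hy, e'⟩ => ?_, mem_map_of_mem f⟩
      have := hk (mem_inf.2 ⟨show y⁻¹ * x ∈ f.ker by rw [MonoidHom.mem_ker, map_mul, map_inv, e', inv_mul_cancel],
        L.mul_mem (L.inv_mem (pCoreOf_le L hy)) x.2⟩)
      simpa using (o2 L).mul_mem hy this
    exact ⟨((QuotientGroup.quotientKerEquivOfSurjective θ hs).symm.trans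
      (QuotientGroup.quotientMulEquivOfEq hker)).trans e⟩
  · obtain ⟨perf, F, i1, i2, i3, h4, ⟨e⟩⟩ := h
    have eL : (L.subgroupOf H).map H.subtype = L := map_subgroupOf_eq_of_le hH
    refine ⟨map_injective H.subtype_injective (by rw [map_commutator, eL, perf]), F, i1, i2, i3, h4, ?_⟩
    have := quot_map (p := 2) H.subtype_injective (E := L.subgroupOf H) ⟨MulEquiv.refl _⟩
    rw [eL] at this
    exact ⟨this.some.symm.trans e⟩

end H66.QG
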