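import Cfsg.Agent.H66.QGP1

/-! The parity lemma (slot P of `blueprints/QTGEN.md`), part 2: three block modules and the parity argument. -/

set_option autoImplicit false

namespace H66.QG

open Subgroup Cfsg H98 H96 H96.CG H11.QG
open scoped commutatorElement

universe u

variable {G : Type u} [Group G] [Finite G] {S W R Z E W1 R1 Z1 E1 W2 R2 Z2 E2 : Subgroup G} {q : ℕ}

/-- (d), the common coset -/
theorem exists_coset (h : PD S W R Z E q) (h1 : PD S W1 R1 Z1 E1 q) (h2 : PD S W2 R2 Z2 E2 q)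
    (n1 : ¬ W1 ≤ R) (n2 : ¬ W2 ≤ R) :
    ∃ x ∈ W2, ∃ w ∈ W1, w ∈ E ∧ w ∉ R ∧ ∃ r ∈ R, x = w * r := by
  have nE : E ≤ nor R := h.ES.trans (nR h)
  have q1 : R.relIndex W1 = q := pair_idx h1 h fun hh => n1 (le_symm h1 h hh)
  have q2 : R.relIndex W2 = q := pair_idx h2 h fun hh => n2 (le_symm h2 h hh)
  obtain ⟨x, hx, hxE, hxR⟩ := exists_mem_E h h2.WS h2.nW n2
  by_cases c1 : W1 ≤ E
  · obtain ⟨w, hw, r, hr, e⟩ := mem_mul_of_relIndex_le c1 nE (by rw [q1, h.idx]) hxE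
    exact ⟨x, hx, w, hw, c1 hw, fun hwR => hxR (e ▸ R.mul_mem hwR hr), r, hr, e⟩
  by_cases c2 : W2 ≤ E
  · obtain ⟨w, hw, hwE, hwR⟩ := exists_mem_E h h1.WS h1.nW n1
    obtain ⟨y, hy, r, hr, e⟩ := mem_mul_of_relIndex_le c2 nE (by rw [q2, h.idx]) hwE
    exact ⟨y, hy, w, hw, hwE, hwR, r⁻¹, R.inv_mem hr, by rw [e]; group⟩
  obtain ⟨hq4, hc⟩ := relIndex_out_eq h h1.WS h1.ea c1 q1
  obtain ⟨d1, hd1, hd1E⟩ := SetLike.not_le_iff_exists.1 c1
  obtain ⟨d2, hd2, hd2E⟩ := SetLike.not_le_iff_exists.1 c2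
  have ht := h.a2 d1 (h1.WS hd1) d2 (h2.WS hd2) hd1E hd2E (by rw [ea_mul_self h1.ea hd1]; exact E.one_mem)
    (by rw [ea_mul_self h2.ea hd2]; exact E.one_mem)
  have h3 := h.a3 d1 (h1.WS hd1) hd1E (fixm E R d1 nE) fixm_le fun e he => he.2
  have h4 : W1 ⊓ E ≤ fixm E R d1 nE := fun w hw => ⟨hw.2, by
    rw [comm_eq_one (ea_comm h1.ea hw.1 hd1)]; exact R.one_mem⟩
  have h5 : ⁅x, d1⁆ ∈ R := by
    have e : ⁅x, d1⁆ = ⁅x, d1 * d2⁻¹⁆ * (d1 * d2⁻¹) * ⁅x, d2⁆ * (d1 * d2⁻¹)⁻¹ := by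
      simp only [commutatorElement_def]; group
    rw [e, comm_eq_one (ea_comm h2.ea hx hd2), mul_one, mul_inv_cancel_right]
    exact commE h hxE ht
  obtain ⟨w, hw, r, hr, e⟩ := mem_mul_of_relIndex_le h4 (fixm_le.trans nE) (c := x)
    (by rw [hc]; rw [hq4] at h3; nlinarith) ⟨hxE, h5⟩
  exact ⟨x, hx, w, hw.1, hw.2, fun hwR => hxR (e ▸ R.mul_mem hwR hr), r, hr, e⟩

/-- (d), an involution in the coset `w R` centralizes `W1` -/
theorem mem_of_sq (h : PD S W R Z E q) (h1 : PD S W1 R1 Z1 E1 q) (n1 : ¬ W1 ≤ R) {v r : G} (hv : v ∈ W1)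
    (hvE : v ∈ E) (hvR : v ∉ R) (hr : r ∈ R) (hx : v * r * (v * r) = 1) : v * r ∈ R1 := by
  obtain ⟨w, hw, f, hf, hf1, rfl⟩ := pair_fac h h1 n1 hr
  have e : f * f = ⁅w, v⁆ := by
    have a1 : v * f = f * v := commR h1 hf1 hv
    have a2 : w * f = f * w := commR h hf hw
    have a3 : v * (w * f) * (v * (w * f)) = v * w * v * w * (f * f) := by
      calc v * (w * f) * (v * (w * f)) = v * w * (f * v) * w * f := by group
        _ = v * w * v * (f * w) * f := by rw [← a1]; group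
        _ = _ := by rw [← a2]; group
    rw [a3] at hx
    rw [eq_inv_of_mul_eq_one_right hx, commutatorElement_def]
    simp only [mul_inv_rev, ea_inv h.ea hw, ea_inv h1.ea hv, mul_assoc]
  have hW : ⁅w, v⁆ ∈ W := by
    have e1 : ⁅w, v⁆ = w * (v * w⁻¹ * v⁻¹) := by simp only [commutatorElement_def]; group
    rw [e1]
    exact W.mul_mem hw (conj_mem_of_mem_normalizer (h.nW (h1.WS hv)) (W.inv_mem hw))
  have hZ : ⁅w, v⁆ ∈ Z := e ▸ h.sq f hf (e ▸ hW)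
  exact R1.mul_mem (WR h1 hv) (R1.mul_mem (pair_fix h h1 n1 hv hvE hvR hw hZ) hf1)

/-- (d), the two modules outside `R` commute -/
theorem triple_le (h : PD S W R Z E q) (h1 : PD S W1 R1 Z1 E1 q) (h2 : PD S W2 R2 Z2 E2 q)
    (n1 : ¬ W1 ≤ R) (n2 : ¬ W2 ≤ R) : W2 ≤ R1 := by
  obtain ⟨x, hx, v, hv, hvE, hvR, r, hr, e⟩ := exists_coset h h1 h2 n1 n2
  have hx1 : x ∈ R1 := e ▸ mem_of_sq h h1 n1 hv hvE hvR hr (e ▸ ea_mul_self h2.ea hx)
  have hle : R ⊓ W2 ≤ R1 ⊓ W2 := fun y hy => ⟨by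
    have h3 := mem_of_sq h h1 n1 hv hvE hvR (R.mul_mem hr hy.1)
      (by rw [← mul_assoc v r y, ← e]; exact ea_mul_self h2.ea (W2.mul_mem hx hy.2))
    rw [← mul_assoc, ← e] at h3
    simpa using R1.mul_mem (R1.inv_mem hx1) h3, hy.2⟩
  by_contra n3
  have q1 : R1.relIndex W2 = q := pair_idx h2 h1 fun hh => n3 (le_symm h2 h1 hh)
  have q2 : R.relIndex W2 = q := pair_idx h2 h fun hh => n2 (le_symm h2 h hh)
  have h4 := le_of_relIndex_le hle inf_le_right (by rw [inf_relIndex_right, inf_relIndex_right, q1, q2])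
  have h5 : x ∈ R := (h4 (mem_inf.2 ⟨hx1, hx⟩)).1
  refine hvR ?_
  have : v = x * r⁻¹ := by rw [e]; group
  rw [this]
  exact R.mul_mem h5 (R.inv_mem hr)

/-- (d) -/
theorem triple (h : PD S W R Z E q) (h1 : PD S W1 R1 Z1 E1 q) (h2 : PD S W2 R2 Z2 E2 q)
    (n1 : ¬ W1 ≤ R) (n2 : ¬ W2 ≤ R) : R1 ≤ R2 := by
  have hle := triple_le h h1 h2 n1 n2
  obtain ⟨x, hx, v, hv, hvE, hvR, r, hr, e⟩ := exists_coset h h1 h2 n1 n2
  intro y hy
  obtain ⟨w1, hw1, f, hf1, hf, rfl⟩ := pair_fac h1 h (fun hh => n1 (le_symm h1 h hh)) hy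
  refine R2.mul_mem (le_symm h1 h2 hle hw1) ?_
  obtain ⟨w, hw, f2, -, hf2, e2⟩ := pair_fac h h2 n2 hf
  have hr1 : r ∈ R1 := by
    have : r = v⁻¹ * x := by rw [e]; group
    rw [this]
    exact R1.mul_mem (R1.inv_mem (WR h1 hv)) (hle hx)
  have e3 : ⁅x, f⁆ = ⁅x, w⁆ := by
    have : ⁅x, w * f2⁆ = ⁅x, w⁆ * (w * ⁅x, f2⁆ * w⁻¹) := by simp only [commutatorElement_def]; group
    rw [e2, this, comm_eq_one (commR h2 hf2 hx)]; simp
  have e4 : ⁅x, f⁆ = ⁅r, f⁆ := by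
    have h3 : ⁅v * r, f⁆ = v * ⁅r, f⁆ * v⁻¹ * ⁅v, f⁆ := by simp only [commutatorElement_def]; group
    have h4 : ⁅r, f⁆ ∈ R1 := by
      rw [commutatorElement_def]
      exact R1.mul_mem (R1.mul_mem (R1.mul_mem hr1 hf1) (R1.inv_mem hr1)) (R1.inv_mem hf1)
    rw [e, h3, comm_eq_one (commR h1 hf1 hv), commR h1 h4 hv]; simp
  have hW : ⁅x, w⁆ ∈ W := by
    rw [commutatorElement_def]
    exact W.mul_mem (conj_mem_of_mem_normalizer (h.nW (h2.WS hx)) hw) (W.inv_mem hw)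
  have hZ : ⁅x, w⁆ ∈ Z := by
    rw [← e3, e4] at hW ⊢
    exact h.cm r hr f hf hW
  have hxE : x ∈ E := e ▸ E.mul_mem hvE (h.RE hr)
  have hxR : x ∉ R := fun hxR => hvR (by
    have : v = x * r⁻¹ := by rw [e]; group
    rw [this]
    exact R.mul_mem hxR (R.inv_mem hr))
  have hw2 : w ∈ R2 := pair_fix h h2 n2 hx hxE hxR hw (by
    rw [← commutatorElement_inv]; exact Z.inv_mem hZ)
  rw [e2]
  exact R2.mul_mem hw2 hf2

theorem triple_eq (h : PD S W R Z E q) (h1 : PD S W1 R1 Z1 E1 q) (h2 : PD S W2 R2 Z2 E2 q)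
    (n1 : ¬ W1 ≤ R) (n2 : ¬ W2 ≤ R) : R1 = R2 :=
  le_antisymm (triple h h1 h2 n1 n2) (triple h h2 h1 n2 n1)

theorem jobP : H11.QG.JobP.{u} := by
  intro G _ _ S W R Z E N q h hN hodd g hg
  by_contra n1
  have h1 := pd_cj h (hN hg)
  have hWR : N ⊓ nor W ≤ N ⊓ nor R := by
    refine le_inf inf_le_left ?_
    rw [h.eR]
    exact le_normalizer_inf (inf_le_left.trans hN) (le_normalizer_centralizer inf_le_right)
  have hH : N ⊓ nor R ≤ cj g (N ⊓ nor R) := by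
    intro k hk
    have hk2 : cj k R = R := cj_eq_self hk.2
    have h2 := pd_cj h (hN (N.mul_mem hk.1 hg))
    have n2 : ¬ cj (k * g) W ≤ R := by
      rw [← cj_cj, ← hk2, cj_le_cj_iff]; exact n1
    have e := triple_eq h h1 h2 n1 n2
    rw [← cj_cj] at e
    rw [cj_inf, cj_eq_self_of_mem hg]
    refine ⟨hk.1, ?_⟩
    have h3 : k ∈ nor (cj g R) := cj_eq_self_iff.1 e.symm
    exact (cj_normalizer g R).symm ▸ h3
  have hgn : g ∈ nor (N ⊓ nor R) := by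
    have := mem_normalizer_of_cj_le (le_cj_iff.1 hH)
    exact (inv_mem_iff (H := nor (N ⊓ nor R))).1 this
  have hgg : g * g ∈ N ⊓ nor R := by
    have h2 := pd_cj h (hN (N.mul_mem hg hg))
    have n2 : ¬ cj (g * g) W ≤ cj g R := by
      rw [← cj_cj, cj_le_cj_iff]; exact n1
    have e := triple_eq h1 h h2 (fun hh => n1 (le_symm h1 h hh)) n2
    exact ⟨N.mul_mem hg hg, cj_eq_self_iff.1 e.symm⟩
  have hgH : g ∈ N ⊓ nor R := by
    set H := N ⊓ nor R with hHdef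
    have hHK : H ≤ N ⊓ nor H := le_inf inf_le_left le_normalizer
    have hn : (H.subgroupOf (N ⊓ nor H)).Normal := (normal_subgroupOf_iff_le_normalizer hHK).2 inf_le_right
    have hp := pow_index_mem (H.subgroupOf (N ⊓ nor H)) ⟨g, hg, hgn⟩
    have hdvd : H.relIndex (N ⊓ nor H) ∣ (nor W).relIndex N := by
      rw [← inf_relIndex_left N (nor W)]
      exact (Dvd.intro _ (relIndex_mul_relIndex H (N ⊓ nor H) N hHK inf_le_left)).trans
        (relIndex_dvd_of_le_left N hWR)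
    obtain ⟨m, hm⟩ : Odd (H.relIndex (N ⊓ nor H)) := hodd.of_dvd_nat hdvd
    rw [mem_subgroupOf, coe_pow] at hp
    change g ^ H.relIndex (N ⊓ nor H) ∈ H at hp
    rw [hm, pow_succ, pow_mul, sq] at hp
    exact (H.mul_mem_cancel_left (H.pow_mem hgg m)).1 hp
  have e : cj g R = R := cj_eq_self hgH.2
  exact n1 (e ▸ WR h1)

end H66.QG
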