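import Cfsg.Agent.H11.QGSpec
import Cfsg.Agent.H99.Idx

/-! The parity lemma (slot P of `blueprints/QTGEN.md`), part 1: one and two block modules. -/

set_option autoImplicit false

namespace H66.QG

open Subgroup Cfsg H98 H96 H96.CG H11.QG
open scoped commutatorElement

universe u

variable {G : Type u} [Group G]

/-- the elements of `A` whose commutator with `g` lies in `N` -/
def fixm (A N : Subgroup G) (g : G) (h : A ≤ nor N) : Subgroup G where
  carrier := {a | a ∈ A ∧ ⁅a, g⁆ ∈ N}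
  one_mem' := ⟨A.one_mem, by simp⟩
  mul_mem' := by
    rintro a b ⟨ha, ha'⟩ ⟨hb, hb'⟩
    refine ⟨A.mul_mem ha hb, ?_⟩
    have e : ⁅a * b, g⁆ = a * ⁅b, g⁆ * a⁻¹ * ⁅a, g⁆ := by
      simp only [commutatorElement_def]; group
    rw [e]
    exact N.mul_mem (conj_mem_of_mem_normalizer (h ha) hb') ha'
  inv_mem' := by
    rintro a ⟨ha, ha'⟩
    refine ⟨A.inv_mem ha, ?_⟩
    have e : ⁅a⁻¹, g⁆ = a⁻¹ * ⁅a, g⁆⁻¹ * a := by
      simp only [commutatorElement_def]; group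
    rw [e]
    exact conj_mem_of_mem_normalizer' (h ha) (N.inv_mem ha')

theorem mem_fixm {A N : Subgroup G} {g : G} {h : A ≤ nor N} {a : G} :
    a ∈ fixm A N g h ↔ a ∈ A ∧ ⁅a, g⁆ ∈ N := Iff.rfl

theorem fixm_le {A N : Subgroup G} {g : G} {h : A ≤ nor N} : fixm A N g h ≤ A := fun _ ha => ha.1

theorem ea_mul_self {X : Subgroup G} (h : IsElementaryAbelian 2 X) {x : G} (hx : x ∈ X) : x * x = 1 := by
  rw [← sq]; exact h.2 x hx

theorem ea_comm {X : Subgroup G} (h : IsElementaryAbelian 2 X) {x y : G} (hx : x ∈ X) (hy : y ∈ X) :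
    x * y = y * x := by
  have := h.1
  exact congrArg Subtype.val (mul_comm' (⟨x, hx⟩ : X) ⟨y, hy⟩)

theorem ea_inv {X : Subgroup G} (h : IsElementaryAbelian 2 X) {x : G} (hx : x ∈ X) : x⁻¹ = x :=
  inv_eq_of_mul_eq_one_left (ea_mul_self h hx)

theorem comm_eq_one {x y : G} (h : x * y = y * x) : ⁅x, y⁆ = 1 :=
  commutatorElement_eq_one_iff_mul_comm.2 h

theorem relIndex_cj (g : G) (A B : Subgroup G) : (cj g A).relIndex (cj g B) = A.relIndex B :=
  relIndex_map_map_of_injective _ _ (MulAut.conj g).injective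

section Fin

variable [Finite G]

theorem relIndex_pos (A B : Subgroup G) : 0 < A.relIndex B :=
  Nat.pos_of_ne_zero (index_ne_zero_of_finite (H := A.subgroupOf B))

/-- a subgroup with the same index is everything -/
theorem le_of_relIndex_le {A C W : Subgroup G} (hAC : A ≤ C) (hCW : C ≤ W)
    (h : A.relIndex W ≤ C.relIndex W) : C ≤ A := by
  have h1 := relIndex_mul_relIndex A C W hAC hCW
  have h2 := relIndex_pos C W
  have h3 := relIndex_pos A C
  have h4 : A.relIndex C = 1 := by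
    by_contra hne
    have : 2 ≤ A.relIndex C := by omega
    nlinarith
  exact relIndex_eq_one.1 h4

/-- `C ≤ A R` if `A ≤ C` has the same index over `R` -/
theorem mem_mul_of_relIndex_le {A C R : Subgroup G} (hAC : A ≤ C) (hC : C ≤ nor R)
    (h : R.relIndex C ≤ R.relIndex A) {c : G} (hc : c ∈ C) : ∃ a ∈ A, ∃ r ∈ R, c = a * r := by
  have h1 := H99.relIndex_sup_of_le_normalizer hC
  have h2 := H99.relIndex_sup_of_le_normalizer (hAC.trans hC)
  have h3 := relIndex_mul_relIndex R (A ⊔ R) (C ⊔ R) le_sup_right (sup_le_sup_right hAC R)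
  have h4 := relIndex_pos R A
  have h5 := relIndex_pos (A ⊔ R) (C ⊔ R)
  rw [h1, h2] at h3
  have h6 : (A ⊔ R).relIndex (C ⊔ R) = 1 := by
    by_contra hne
    have : 2 ≤ (A ⊔ R).relIndex (C ⊔ R) := by omega
    nlinarith
  exact (mem_sup_left_norm (hAC.trans hC)).1 (relIndex_eq_one.1 h6 (mem_sup_left hc))

end Fin

variable {S W R Z E W1 R1 Z1 E1 : Subgroup G} {q : ℕ}

theorem RS (h : PD S W R Z E q) : R ≤ S := h.RE.trans h.ES

theorem nR (h : PD S W R Z E q) : S ≤ nor R := by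
  rw [h.eR]
  exact le_normalizer_inf le_normalizer (le_normalizer_centralizer h.nW)

theorem memR (h : PD S W R Z E q) {r : G} : r ∈ R ↔ r ∈ S ∧ ∀ w ∈ W, w * r = r * w := by
  rw [h.eR, mem_inf, mem_centralizer_iff]
  rfl

theorem commR (h : PD S W R Z E q) {r w : G} (hr : r ∈ R) (hw : w ∈ W) : w * r = r * w :=
  ((memR h).1 hr).2 w hw

theorem WR (h : PD S W R Z E q) : W ≤ R := fun _ hw =>
  (memR h).2 ⟨h.WS hw, fun _ hw' => ea_comm h.ea hw' hw⟩

theorem WZ (h : PD S W R Z E q) : W ≤ nor Z :=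
  le_normalizer_of_le_centralizer fun _ hw => mem_centralizer_iff.2 fun _ hz => ea_comm h.ea (h.ZW hz) hw

theorem le_symm (h : PD S W R Z E q) (h1 : PD S W1 R1 Z1 E1 q) (hle : W1 ≤ R) : W ≤ R1 := fun _ hw =>
  (memR h1).2 ⟨h.WS hw, fun _ hw1 => (commR h (hle hw1) hw).symm⟩

/-- commutators in `E` lie in `R` -/
theorem commE (h : PD S W R Z E q) {e t : G} (he : e ∈ E) (ht : t ∈ E) : ⁅e, t⁆ ∈ R := by
  have e1 : ⁅e, t⁆ = (e * t) * (e * t) * (t⁻¹ * (e * e)⁻¹ * t) * (t * t)⁻¹ := by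
    simp only [commutatorElement_def]; group
  rw [e1]
  exact R.mul_mem (R.mul_mem (h.sqE _ (E.mul_mem he ht))
    (conj_mem_of_mem_normalizer' (nR h (h.ES ht)) (R.inv_mem (h.sqE _ he)))) (R.inv_mem (h.sqE _ ht))

/-- transport along an element normalizing `S` -/
theorem pd_cj (h : PD S W R Z E q) {g : G} (hg : g ∈ nor S) :
    PD S (cj g W) (cj g R) (cj g Z) (cj g E) q := by
  have hS : cj g S = S := cj_eq_self hg
  have mS : ∀ {x : G}, x ∈ S → g⁻¹ * x * g ∈ S := fun hx => conj_mem_of_mem_normalizer' hg hx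
  have mul : ∀ a b : G, g⁻¹ * (a * b) * g = (g⁻¹ * a * g) * (g⁻¹ * b * g) := fun a b => by group
  have cmm : ∀ a b : G, g⁻¹ * ⁅a, b⁆ * g = ⁅g⁻¹ * a * g, g⁻¹ * b * g⁆ := fun a b => by
    simp only [commutatorElement_def]; group
  have back : ∀ a : G, g⁻¹ * (g * a * g⁻¹) * g = a := fun a => by group
  refine ⟨h.two, cj_le_of_le h.WS hg, ?_, H96.ea_cj h.ea g, ?_, cj_mono g h.ZW, ?_, ?_, cj_mono g h.RE,
    cj_le_of_le h.ES hg, ?_, ?_, h.four, ?_, ?_, ?_, ?_, ?_⟩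
  · exact (hS.symm.le.trans (cj_mono g h.nW)).trans (cj_normalizer g W).le
  · rw [h.eR, cj_inf, hS, cj_centralizer]
  · intro r hr hW
    rw [mem_cj] at hr hW ⊢
    rw [mul] at hW ⊢
    exact h.sq _ hr hW
  · intro r hr r' hr' hW
    rw [mem_cj] at hr hr' hW ⊢
    rw [cmm] at hW ⊢
    exact h.cm _ hr _ hr' hW
  · exact (hS.symm.le.trans (cj_mono g h.nE)).trans (cj_normalizer g E).le
  · rw [relIndex_cj, h.idx]
  · intro x hx
    rw [mem_cj] at hx ⊢
    rw [mul]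
    exact h.sqE _ hx
  · intro s hs hc
    rw [mem_cj]
    refine h.a1 _ (mS hs) fun e he => ?_
    have := hc _ (conj_mem_cj (g := g) he)
    rwa [mem_cj, cmm, back] at this
  · intro a ha b hb haE hbE ha2 hb2
    rw [mem_cj] at haE hbE ha2 hb2 ⊢
    rw [mul] at ha2 hb2
    have := h.a2 _ (mS ha) _ (mS hb) haE hbE ha2 hb2
    have e : g⁻¹ * (a * b⁻¹) * g = g⁻¹ * a * g * (g⁻¹ * b * g)⁻¹ := by group
    rwa [e]
  · intro x hx hxE C hC hc
    rw [mem_cj] at hxE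
    have := h.a3 _ (mS hx) hxE (cj g⁻¹ C) (le_cj_iff.1 hC) fun e he => by
      have he' : g * e * g⁻¹ ∈ C := by rw [mem_cj, inv_inv] at he; exact he
      have := hc _ he'
      rwa [mem_cj, cmm, back] at this
    rwa [← relIndex_cj g, cj_cj_inv] at this
  · intro ρ hρ hρR C hC hc
    rw [mem_cj] at hρ hρR
    have := h.reg _ hρ hρR (cj g⁻¹ C) (le_cj_iff.1 hC) fun e he => by
      have he' : g * e * g⁻¹ ∈ C := by rw [mem_cj, inv_inv] at he; exact he
      have := hc _ he'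
      rwa [mem_cj, cmm, back] at this
    rwa [← relIndex_cj g, cj_cj_inv] at this

/-- (a), first part -/
theorem exists_mem_E (h : PD S W R Z E q) {X : Subgroup G} (hXS : X ≤ S) (nX : S ≤ nor X)
    (hX : ¬ X ≤ R) : ∃ x ∈ X, x ∈ E ∧ x ∉ R := by
  by_contra hc
  push Not at hc
  obtain ⟨d, hd, hdR⟩ := SetLike.not_le_iff_exists.1 hX
  refine hdR (hc d hd (h.a1 d (hXS hd) fun e he => hc _ ?_ ?_))
  · exact X.mul_mem (conj_mem_of_mem_normalizer (nX (h.ES he)) hd) (X.inv_mem hd)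
  · have e1 : ⁅e, d⁆ = e * (d * e⁻¹ * d⁻¹) := by simp only [commutatorElement_def]; group
    rw [e1]
    exact E.mul_mem he (conj_mem_of_mem_normalizer (h.nE (hXS hd)) (E.inv_mem he))

/-- (a), second part -/
theorem relIndex_out (h : PD S W R Z E q) {X : Subgroup G} (hXS : X ≤ S) (ea : IsElementaryAbelian 2 X)
    (hX : ¬ X ≤ E) : R.relIndex X = 2 * R.relIndex (X ⊓ E) ∧ R.relIndex (X ⊓ E) ^ 2 ≤ q := by
  obtain ⟨d, hd, hdE⟩ := SetLike.not_le_iff_exists.1 hX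
  refine ⟨?_, h.a3 d (hXS hd) hdE _ inf_le_right fun e he => ?_⟩
  · have h2 : E.relIndex X = 2 := by
      refine index_eq_two_iff.2 ⟨⟨d, hd⟩, fun b => ?_⟩
      simp only [mem_subgroupOf, coe_mul]
      by_cases hb : (b : G) ∈ E
      · exact Or.inr ⟨hb, fun hbd => hdE (by simpa using E.mul_mem (E.inv_mem hb) hbd)⟩
      · refine Or.inl ⟨?_, hb⟩
        have := h.a2 b (hXS b.2) d (hXS hd) hb hdE (by rw [ea_mul_self ea b.2]; exact E.one_mem)
          (by rw [ea_mul_self ea hd]; exact E.one_mem)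
        rwa [ea_inv ea hd] at this
    have h3 := relIndex_mul_relIndex (R ⊓ X) (X ⊓ E) X
      (le_inf inf_le_right (inf_le_left.trans h.RE)) inf_le_left
    rw [inf_relIndex_right, inf_comm X E, inf_relIndex_right, h2] at h3
    have h4 : (R ⊓ X).relIndex (E ⊓ X) = R.relIndex (E ⊓ X) := by
      rw [← inf_relIndex_right (R ⊓ X), ← inf_relIndex_right R]
      congr 1
      rw [inf_assoc, inf_comm X (E ⊓ X), inf_assoc E X X, inf_idem]
    rw [inf_comm X E, ← h3, h4, mul_comm]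
  · rw [comm_eq_one (ea_comm ea he.1 hd)]; exact R.one_mem

variable [Finite G]

theorem relIndex_le (h : PD S W R Z E q) {X : Subgroup G} (hXS : X ≤ S) (ea : IsElementaryAbelian 2 X) :
    R.relIndex X ≤ q := by
  by_cases hX : X ≤ E
  · rw [← h.idx]
    exact relIndex_le_of_le_right hX (relIndex_pos R E).ne'
  · obtain ⟨h1, h2⟩ := relIndex_out h hXS ea hX
    have := h.four
    rw [h1]
    by_cases hc : R.relIndex (X ⊓ E) ≤ 2
    · omega
    · nlinarith

omit [Finite G] in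
theorem relIndex_out_eq (h : PD S W R Z E q) {X : Subgroup G} (hXS : X ≤ S) (ea : IsElementaryAbelian 2 X)
    (hX : ¬ X ≤ E) (hq : R.relIndex X = q) : q = 4 ∧ R.relIndex (X ⊓ E) = 2 := by
  obtain ⟨h1, h2⟩ := relIndex_out h hXS ea hX
  have := h.four
  have hc : R.relIndex (X ⊓ E) ≤ 2 := by
    by_contra hc
    nlinarith
  omega

/-- (b), the index -/
theorem pair_idx (h : PD S W R Z E q) (h1 : PD S W1 R1 Z1 E1 q) (hn : ¬ W1 ≤ R) : R1.relIndex W = q := by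
  refine le_antisymm (relIndex_le h1 h.WS h.ea) ?_
  obtain ⟨ρ, hρ, hρE, hρR⟩ := exists_mem_E h h1.WS h1.nW hn
  have := h.reg ρ hρE hρR (R1 ⊓ W) inf_le_right fun w hw => by
    rw [comm_eq_one (commR h1 hw.1 hρ).symm]; exact Z.one_mem
  rwa [inf_relIndex_right] at this

/-- (b), the fixed points -/
theorem pair_fix (h : PD S W R Z E q) (h1 : PD S W1 R1 Z1 E1 q) (hn : ¬ W1 ≤ R) {ρ : G} (hρ : ρ ∈ W1)
    (hρE : ρ ∈ E) (hρR : ρ ∉ R) {w : G} (hw : w ∈ W) (hZ : ⁅w, ρ⁆ ∈ Z) : w ∈ R1 := by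
  have h2 := h.reg ρ hρE hρR (fixm W Z ρ (WZ h)) fixm_le fun w hw => hw.2
  have h3 : R1 ⊓ W ≤ fixm W Z ρ (WZ h) := fun w hw => ⟨hw.2, by
    rw [comm_eq_one (commR h1 hw.1 hρ).symm]; exact Z.one_mem⟩
  have h4 := le_of_relIndex_le h3 fixm_le (by rw [inf_relIndex_right, pair_idx h h1 hn]; exact h2)
  exact (h4 (mem_fixm.2 ⟨hw, hZ⟩)).1

/-- (c) -/
theorem pair_fac (h : PD S W R Z E q) (h1 : PD S W1 R1 Z1 E1 q) (hn : ¬ W1 ≤ R) {r : G} (hr : r ∈ R) :
    ∃ w ∈ W, ∃ f ∈ R, f ∈ R1 ∧ r = w * f := by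
  suffices H : ∃ w ∈ W, ∃ f ∈ R1, r = w * f by
    obtain ⟨w, hw, f, hf, e⟩ := H
    refine ⟨w, hw, f, ?_, hf, e⟩
    have : f = w⁻¹ * r := by rw [e]; group
    rw [this]
    exact R.mul_mem (R.inv_mem (WR h hw)) hr
  have hq := pair_idx h h1 hn
  have nE1 : E1 ≤ nor R1 := h1.ES.trans (nR h1)
  by_cases hWE : W ≤ E1
  · have key : ∀ e ∈ E1, ∃ w ∈ W, ∃ f ∈ R1, e = w * f := fun e he =>
      mem_mul_of_relIndex_le hWE nE1 (by rw [hq, h1.idx]) he
    refine key r (h1.a1 r (RS h hr) fun e he => ?_)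
    obtain ⟨w, hw, f, hf, rfl⟩ := key e he
    have e1 : ⁅w * f, r⁆ = w * (f * (r * f⁻¹ * r⁻¹)) * w⁻¹ * ⁅w, r⁆ := by
      simp only [commutatorElement_def]; group
    rw [e1, comm_eq_one (commR h hr hw), mul_one]
    exact conj_mem_of_mem_normalizer (nR h1 (h.WS hw))
      (R1.mul_mem hf (conj_mem_of_mem_normalizer (nR h1 (RS h hr)) (R1.inv_mem hf)))
  obtain ⟨hq4, hc⟩ := relIndex_out_eq h1 h.WS h.ea hWE hq
  obtain ⟨d, hd, hdE⟩ := SetLike.not_le_iff_exists.1 hWE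
  have key : ∀ r ∈ R, r ∈ E1 → ∃ w ∈ W, ∃ f ∈ R1, r = w * f := by
    intro r hr hrE
    have h2 := h1.a3 d (h.WS hd) hdE (fixm E1 R1 d nE1) fixm_le fun e he => he.2
    have h3 : W ⊓ E1 ≤ fixm E1 R1 d nE1 := fun w hw => ⟨hw.2, by
      rw [comm_eq_one (ea_comm h.ea hw.1 hd)]; exact R1.one_mem⟩
    obtain ⟨w, hw, f, hf, e⟩ := mem_mul_of_relIndex_le h3 (fixm_le.trans nE1) (c := r)
      (by rw [hc]; rw [hq4] at h2; nlinarith)
      ⟨hrE, by rw [comm_eq_one (commR h hr hd).symm]; exact R1.one_mem⟩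
    exact ⟨w, hw.1, f, hf, e⟩
  by_cases hrE : r ∈ E1
  · exact key r hr hrE
  have hDn : W ⊓ E1 ≤ nor R1 := inf_le_right.trans nE1
  have hA : (W ⊓ E1 ⊔ R1).relIndex E1 = 2 := by
    have h3 := relIndex_mul_relIndex R1 (W ⊓ E1 ⊔ R1) E1 le_sup_right (sup_le inf_le_right h1.RE)
    rw [H99.relIndex_sup_of_le_normalizer hDn, hc, h1.idx, hq4] at h3
    omega
  have hrA : r ∈ nor (W ⊓ E1 ⊔ R1) :=
    le_normalizer_sup (le_normalizer_inf h.nW h1.nE) (nR h1) (RS h hr)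
  have hrr : r * r ∈ E1 := by
    refine h1.a1 _ (S.mul_mem (RS h hr) (RS h hr)) fun e he => ?_
    have hre : r * e⁻¹ * r⁻¹ ∈ E1 := conj_mem_of_mem_normalizer (h1.nE (RS h hr)) (E1.inv_mem he)
    have h4 : e * (r * e⁻¹ * r⁻¹) ∈ W ⊓ E1 ⊔ R1 := by
      have h5 := (mul_mem_iff_of_index_two (H := (W ⊓ E1 ⊔ R1).subgroupOf E1) hA
        (a := ⟨e, he⟩) (b := ⟨_, hre⟩)).2 (by
          simp only [mem_subgroupOf]
          constructor
          · intro h6
            exact conj_mem_of_mem_normalizer hrA (inv_mem h6)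
          · intro h6
            have := conj_mem_of_mem_normalizer' hrA (inv_mem h6)
            simpa [mul_assoc] using this)
      simpa [mem_subgroupOf] using h5
    obtain ⟨w, hw, f, hf, e1⟩ := (mem_sup_left_norm hDn).1 h4
    have e2 : ⁅e, r * r⁆ = (e * (r * e⁻¹ * r⁻¹)) * (r * (e * (r * e⁻¹ * r⁻¹)) * r⁻¹) := by
      simp only [commutatorElement_def]; group
    have e3 : w * f * (r * (w * f) * r⁻¹) = w * f * w⁻¹ * (r * f * r⁻¹) := by
      rw [ea_inv h.ea hw.1, ← mul_assoc r w f, ← commR h hr hw.1]; group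
    rw [e2, e1, e3]
    exact R1.mul_mem (conj_mem_of_mem_normalizer (nR h1 (h.WS hw.1)) hf)
      (conj_mem_of_mem_normalizer (nR h1 (RS h hr)) hf)
  have h6 := h1.a2 r (RS h hr) d (h.WS hd) hrE hdE hrr (by rw [ea_mul_self h.ea hd]; exact E1.one_mem)
  obtain ⟨w, hw, f, hf, e⟩ := key _ (R.mul_mem hr (R.inv_mem (WR h hd))) h6
  refine ⟨w * d, W.mul_mem hw hd, d⁻¹ * f * d, conj_mem_of_mem_normalizer' (nR h1 (h.WS hd)) hf, ?_⟩
  have : r = w * f * d := by rw [← e]; group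
  rw [this]; group

end H66.QG
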