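import Cfsg.Agent.H11.QGSpec
import Cfsg.Agent.H99.Iso
import Cfsg.Agent.H96.Struct4

/-! Pushing up (slot PU of `blueprints/QTGEN.md`). -/

set_option autoImplicit false

namespace H66.QG

open Subgroup Cfsg H98 H96 H96.CG H11.QG
open scoped commutatorElement

universe u

theorem char_comap_equiv {A B : Type*} [Group A] [Group B] (e : A ≃* B) {K : Subgroup B}
    (h : K.Characteristic) : (K.comap e.toMonoidHom).Characteristic := by
  refine characteristic_iff_comap_le.2 fun φ x hx => ?_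
  have := characteristic_iff_comap_le.1 h (e.symm.trans (φ.trans e)) (x := e x) (by simpa using hx)
  simpa using this

theorem char_map_iff {G G' : Type*} [Group G] [Group G'] (f : G →* G') {R C : Subgroup G}
    (hf : ∀ x ∈ R, f x = 1 → x = 1) (hC : C ≤ R) :
    ((C.map f).subgroupOf (R.map f)).Characteristic ↔ (C.subgroupOf R).Characteristic := by
  have hi : Function.Injective (f.subgroupMap R) := (injective_iff_map_eq_one _).2 fun x hx =>
    Subtype.ext (hf x x.2 (congrArg Subtype.val hx))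
  let e : R ≃* R.map f := MulEquiv.ofBijective (f.subgroupMap R) ⟨hi, f.subgroupMap_surjective R⟩
  have key : ∀ x : R, e x ∈ (C.map f).subgroupOf (R.map f) ↔ x ∈ C.subgroupOf R := fun x => by
    constructor
    · rintro ⟨c, hc, hx⟩
      have : (⟨c, hC hc⟩ : R) = x := hi (Subtype.ext hx)
      rw [← this]
      exact hc
    · exact fun hx => ⟨x, hx, rfl⟩
  constructor
  · intro h
    have h1 : C.subgroupOf R = ((C.map f).subgroupOf (R.map f)).comap e.toMonoidHom :=
      Subgroup.ext fun x => (key x).symm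
    rw [h1]
    exact char_comap_equiv e h
  · intro h
    have h1 : (C.map f).subgroupOf (R.map f) = (C.subgroupOf R).comap e.symm.toMonoidHom :=
      Subgroup.ext fun x => by
        have := key (e.symm x)
        rw [e.apply_symm_apply] at this
        exact this
    rw [h1]
    exact char_comap_equiv e.symm h

variable {G : Type u} [Group G] [Finite G]

/-- the case of characteristic two -/
theorem pu_char {Y R H : Subgroup G} (hY : CharP 2 Y) (hR : IsSyl 2 R Y) (hYH : ¬ Y ≤ H)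
    (hc : ∀ C ≤ R, C ≠ ⊥ → (C.subgroupOf R).Characteristic → Y ⊓ nor C ≤ H) (h0 : R ≠ ⊥) :
    ∃ x ∈ Y, x ∉ H ∧ Odd (orderOf x) ∧ ⁅pCoreOf 2 Y, zpowers x⁆ ≤ oz 2 (pCoreOf 2 Y) := by
  have c : CX 2 Y R H := ⟨hY, hR, (inf_le_inf_left Y (centralizer_le_normalizer _)).trans
    (hc _ (oz_le R) (oz_ne_bot hR.isPGroup h0) (char_oz R)), fun C h1 h2 h3 =>
      have := char_bm (p := 2) R
      hc C (h1.trans (bm_le R)) h2 (char_trans h1 (bm_le R) h3)⟩
  obtain ⟨E, hE, hb, hEH⟩ := exists_block hY hR c.h1 c.h2 hYH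
  have hb' := c.block hE hb hEH
  obtain ⟨M, _, s, S, d⟩ := block_bc' hY hR hE hb'
  have hW : pCoreOf 2 E = bW 2 E := by
    rcases hb'.2.2.2.2 with ⟨F, _, _, n, -, -, -, h | ⟨h, -⟩⟩ | ⟨-, m, -, -, h⟩
    · exact h
    · omega
    · exact h
  have h1 : ⁅pCoreOf 2 Y, E⁆ ≤ oz 2 (pCoreOf 2 Y) :=
    (d.OE_eq ((d.comm_le_Q le_rfl (le_normalizer_pCoreOf_of_le hE)).trans hW.le)).le.trans d.U_le_V
  by_contra hn
  push Not at hn
  refine hEH (d.res.ge.trans (res_le_of_forall fun x hx ho => ?_))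
  by_contra hxH
  exact hn x (hE hx) hxH (Nat.coprime_two_right.1 ho)
    ((commutator_mono le_rfl ((zpowers_le).2 hx)).trans h1)

/-- the case `Y = ⊤` -/
theorem pu_top {U R H : Subgroup G} (hR : IsSyl 2 R ⊤) (hUR : U ≤ R) [hU : U.Normal] (h1 : R ⊓ cen U ≤ U)
    (h2 : cen U ≤ H) (hRH : R ≤ H) (hH : ¬ ⊤ ≤ H)
    (hc : ∀ C ≤ R, C ≠ ⊥ → (C.subgroupOf R).Characteristic → nor C ≤ H) (h0 : R ≠ ⊥) :
    ∃ x, x ∉ H ∧ Odd (orderOf x) ∧ ⁅U, zpowers x⁆ ≤ oz 2 U := by
  have nC : ⊤ ≤ nor (cen U) := le_normalizer_centralizer (normalizer_eq_top U).ge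
  have hodd : ¬ 2 ∣ Nat.card (res 2 (cen U)) :=
    H99.not_dvd_card_res_of_central (hR.inf_of_le_normalizer le_top (le_top.trans nC))
      (h1.trans (le_centralizer_centralizer U))
  have nO : (res 2 (cen U)).Normal := normal_of_top_le_normalizer (le_normalizer_res nC)
  set O := res 2 (cen U) with hO
  have hOH : O ≤ H := (res_le _).trans h2
  let f := QuotientGroup.mk' O
  have hk : ∀ x, f x = 1 ↔ x ∈ O := fun x => QuotientGroup.eq_one_iff x
  have hker : f.ker = O := QuotientGroup.ker_mk' O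
  have hs : Function.Surjective f := QuotientGroup.mk'_surjective O
  have hf : ∀ x ∈ R, f x = 1 → x = 1 := fun x hx hx1 => by
    obtain ⟨k, hk2⟩ := isPGroup_iff_forall.1 hR.isPGroup x hx
    have a1 : orderOf x ∣ 2 ^ k := orderOf_dvd_of_pow_eq_one hk2
    have a2 : orderOf x ∣ Nat.card O := O.orderOf_dvd_natCard ((hk x).1 hx1)
    exact orderOf_eq_one_iff.1 (Nat.eq_one_of_dvd_coprimes
      (Nat.Coprime.pow_left k ((Nat.Prime.coprime_iff_not_dvd Nat.prime_two).2 hodd)) a1 a2)
  have cen_of : ∀ g, f g ∈ cen (U.map f) → g ∈ cen U := fun g hg =>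
    mem_centralizer_iff.2 fun u hu => by
      have a1 : ⁅u, g⁆ ∈ U := by
        have e : ⁅u, g⁆ = u * (g * u⁻¹ * g⁻¹) := by simp only [commutatorElement_def]; group
        rw [e]
        exact U.mul_mem hu (hU.conj_mem _ (U.inv_mem hu) g)
      refine commutatorElement_eq_one_iff_mul_comm.1 (hf _ (hUR a1) ?_)
      rw [map_commutatorElement]
      exact commutatorElement_eq_one_iff_mul_comm.2 (mem_centralizer_iff.1 hg _ (mem_map_of_mem f hu))
  have hUn : (U.map f).Normal := hU.map f hs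
  have hU2 : IsPGroup 2 (U.map f) := (hR.isPGroup.to_le hUR).map f
  have hch : CharP 2 (⊤ : Subgroup (G ⧸ O)) := by
    refine charP_of_normal hU2 le_top (normalizer_eq_top _).ge (isPGroup_iff_forall.2 fun y hy => ?_)
    obtain ⟨g, rfl⟩ := hs y
    obtain ⟨k, hk2⟩ := exists_pow_mem_res (p := 2) (cen_of g hy.2)
    exact ⟨k, by rw [← map_pow]; exact (hk _).2 hk2⟩
  have back : ∀ g, f g ∈ H.map f → g ∈ H := fun g hg => by
    have : g ∈ (H.map f).comap f := hg
    rwa [comap_map_eq_self (hker.le.trans hOH)] at this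
  have hR' : IsSyl 2 (R.map f) ⊤ := by
    have := hR.map f
    rwa [map_top_of_surjective f hs] at this
  obtain ⟨y, -, hyH, hy, hcm⟩ := pu_char (H := H.map f) hch hR' (fun h => hH fun g _ => back g (h (mem_top _)))
    (fun D hD hD0 hDc y hy => by
      obtain ⟨g, rfl⟩ := hs y
      have eD : (R ⊓ D.comap f).map f = D := by
        refine le_antisymm (map_le_iff_le_comap.2 inf_le_right) fun d hd => ?_
        obtain ⟨r, hr, rfl⟩ := hD hd
        exact mem_map_of_mem f (mem_inf.2 ⟨hr, hd⟩)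
      set C := R ⊓ D.comap f with hCdef
      have hCR : C ≤ R := inf_le_left
      have a1 : nor C ≤ H := hc C hCR (fun e => hD0 (by rw [← eD, e, Subgroup.map_bot]))
        ((char_map_iff f hf hCR).1 (eD.symm ▸ hDc))
      have a2 : D.comap f = C ⊔ O := by rw [← eD, comap_map_eq, hker]
      have a3 : IsSyl 2 C (D.comap f) := by
        refine isSyl_of_not_dvd_relIndex inf_le_right (hR.isPGroup.to_le hCR) fun hd => hodd ?_
        rw [a2, H96.relIndex_sup_of_le_normalizer (le_top.trans (normalizer_eq_top O).ge)] at hd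
        exact hd.trans (relIndex_dvd_card _ _)
      have a4 : g ∈ nor (D.comap f) :=
        comap_le_normalizer_comap f (le_refl (nor D)) (show g ∈ (nor D).comap f from hy.2)
      obtain ⟨a, ha, n, hn, rfl⟩ := a3.frattini_mem a4
      refine mem_map_of_mem f (H.mul_mem (a1 ha) ?_)
      rw [a2] at hn
      exact sup_le (hCR.trans hRH) hOH hn)
    (fun e => h0 (eq_bot_iff.2 fun x hx => hf x hx (by
      have := mem_map_of_mem f hx
      rwa [e, mem_bot] at this)))
  obtain ⟨x, rfl⟩ := hs y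
  have hUO : U.map f ≤ pCoreOf 2 (⊤ : Subgroup (G ⧸ O)) := le_pCoreOf hU2 le_top (normalizer_eq_top _).ge
  refine ⟨x, fun hx => hyH (mem_map_of_mem f hx), ?_, fun z hz => ?_⟩
  · have a1 : x ^ orderOf (f x) ∈ O := (hk _).1 (by rw [map_pow, pow_orderOf_eq_one])
    have a2 : x ^ (orderOf (f x) * Nat.card O) = 1 := by
      rw [pow_mul]; exact orderOf_dvd_iff_pow_eq_one.1 (O.orderOf_dvd_natCard a1)
    exact (hy.mul (Nat.odd_iff.2 (by omega))).of_dvd_nat (orderOf_dvd_of_pow_eq_one a2)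
  · have hzU : z ∈ U := commutator_le_left U _ hz
    have a1 : f z ∈ oz 2 (pCoreOf 2 (⊤ : Subgroup (G ⧸ O))) := by
      refine hcm (commutator_mono hUO (MonoidHom.map_zpowers f x).le ?_)
      rw [← map_commutator]
      exact mem_map_of_mem f hz
    obtain ⟨-, a2, a3⟩ := mem_oz.1 a1
    exact mem_oz.2 ⟨hzU, cen_of z (centralizer_anti hUO a2),
      hf _ (hUR (U.pow_mem hzU 2)) (by rw [map_pow]; exact a3)⟩

theorem jobPU : H11.QG.JobPU.{u} := by
  intro G _ _ Y U R H hR hUR hYU h1 h2 hRH hYH hc h0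
  have hUY : U ≤ Y := hUR.trans hR.le
  have hn : (U.subgroupOf Y).Normal := (normal_subgroupOf_iff_le_normalizer hUY).2 hYU
  have eU : (U.subgroupOf Y).map Y.subtype = U := map_subgroupOf_eq_of_le hUY
  have eR : (R.subgroupOf Y).map Y.subtype = R := map_subgroupOf_eq_of_le hR.le
  have ecen : cen (U.subgroupOf Y) = (cen U).subgroupOf Y := centralizer_subgroupOf hUY
  obtain ⟨x, hxH, hx, hcm⟩ := pu_top (U := U.subgroupOf Y) (H := H.subgroupOf Y) hR.subgroupOf_top
    (comap_mono hUR) (fun y hy => h1 ⟨hy.1, by have := hy.2; rw [ecen] at this; exact this⟩)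
    (fun y hy => h2 ⟨y.2, by rw [ecen] at hy; exact hy⟩) (comap_mono hRH)
    (fun h => hYH fun y hy => h (mem_top (⟨y, hy⟩ : Y)))
    (fun C hC hC0 hCc y hy => hc (C.map Y.subtype) ((map_mono hC).trans eR.le)
      (fun e => hC0 ((map_eq_bot_iff_of_injective C Y.subtype_injective).1 e))
      (by
        have := (char_map_iff Y.subtype (fun x _ hx => Subtype.ext hx) hC).2 hCc
        rwa [eR] at this)
      ⟨y.2, map_le_normalizer_map Y.subtype (le_refl (nor C)) (mem_map_of_mem _ hy)⟩)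
    (fun e => h0 (by rw [← eR, e, Subgroup.map_bot]))
  refine ⟨x, x.2, hxH, by rwa [orderOf_coe], ?_⟩
  have := map_mono (f := Y.subtype) hcm
  rwa [map_commutator, map_oz Y.subtype_injective, eU, MonoidHom.map_zpowers] at this

end H66.QG
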