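import Cfsg.Agent.H66.QGTV2

/-! Transvections (slot TV of `blueprints/QTGEN.md`), part 3. -/

set_option autoImplicit false

namespace H66.QG

open Subgroup Cfsg H98 H96 H96.CG H11.QG Equiv
open scoped commutatorElement

universe u

variable {G : Type u} [Group G] [Finite G] {K L S : Subgroup G} {z τ τ' : G}

omit [Finite G] in
theorem inf_cen_eq (H : Hat K L S) {x : G} (hx : x ∈ L) (hc : x ∈ cen L) : x = 1 := by
  rcases H.lf.simp (L ⊓ cen L) inf_le_left
    (le_normalizer_inf le_normalizer (le_normalizer_centralizer le_normalizer)) with h | h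
  · have := h (mem_inf.2 ⟨hx, hc⟩)
    rwa [H.o, mem_bot] at this
  · refine absurd (H.lf.perf.ge.trans (commutator_le.2 fun a ha b hb => ?_)) (not_le_o2 H.lf)
    rw [comm_eq_one (mem_centralizer_iff.1 (h.ge hb).2 a ha)]
    exact one_mem _

omit [Finite G] in
theorem K_le (H : Hat K L S) {N : Subgroup G} [hN : N.Normal] (h : N ≠ ⊥) : K ≤ N := by
  have := H.nK
  have := H.simple
  rcases (hN.subgroupOf K).eq_bot_or_eq_top with e | e
  · refine absurd (eq_bot_iff.2 (le_trans (fun x hx => mem_centralizer_iff.2 fun k hk => ?_) H.cK.le)) h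
    have h1 : (⟨⁅k, x⁆, comm_mem_left hk ((normalizer_eq_top K).ge (mem_top x))⟩ : K) ∈ N.subgroupOf K :=
      comm_mem_right ((normalizer_eq_top N).ge (mem_top k)) hx
    rw [e, mem_bot] at h1
    exact commutatorElement_eq_one_iff_mul_comm.1 (congrArg Subtype.val h1)
  · exact subgroupOf_eq_top.1 e

omit [Finite G] in
theorem exists_out (H : Hat K L S) (hz : z ≠ 1) : ∃ d, IsConj z d ∧ d ∉ nor L := by
  by_contra hn
  push Not at hn
  have h1 : normalClosure {z} ≤ nor L := (closure_le _).2 fun d hd => by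
    obtain ⟨y, hy, hd⟩ := Group.mem_conjugatesOfSet_iff.1 hd
    exact hn d (Set.mem_singleton_iff.1 hy ▸ hd)
  have h2 : K ≤ nor L := (K_le H (N := normalClosure {z}) fun e =>
    hz (mem_bot.1 (e ▸ subset_normalClosure (Set.mem_singleton z)))).trans h1
  have := H.simple
  rcases ((normal_subgroupOf_iff_le_normalizer H.LK).2 h2).eq_bot_or_eq_top with e | e
  · exact not_le_o2 H.lf fun x hx => by
      have h3 : (⟨x, H.LK hx⟩ : K) ∈ L.subgroupOf K := hx
      rw [e, mem_bot] at h3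
      rw [show x = 1 from congrArg Subtype.val h3]
      exact one_mem _
  · exact H.ne (le_antisymm H.LK (subgroupOf_eq_top.1 e))

theorem exists_phi (H : Hat K L S) (h4 : Nat.card ↥(S ⊓ L) = 4) : ∃ Φ : ↥(nor L) →* Perm (Fin 5),
    (∀ g, Φ g = 1 ↔ (g : G) ∈ cen L) ∧ (∀ g : nor L, (g : G) ∈ L → Perm.sign (Φ g) = 1) ∧
      ∀ π, Perm.sign π = 1 → ∃ g : nor L, (g : G) ∈ L ∧ Φ g = π := by
  obtain ⟨Φ, h1, h2⟩ := H.lf.a5 _ (H.syl.inf_of_le_normalizer le_top H.SL) H.o h4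
  refine ⟨Φ, h1, fun g hg => Perm.mem_alternatingGroup.1 (h2 ▸ mem_map_of_mem Φ hg), fun π hπ => ?_⟩
  obtain ⟨g, hg, e⟩ := h2.ge (Perm.mem_alternatingGroup.2 hπ)
  exact ⟨g, hg, e⟩

theorem exists_psi (H : Hat K L S) (h4 : Nat.card ↥(S ⊓ L) = 4) (bt : Bt L S z τ τ') :
    ∃ ψ : Perm (Fin 5) →* G, Function.Injective ψ ∧ (∀ π, ψ π ∈ nor L) ∧ (∀ π, Perm.sign π = 1 → ψ π ∈ L) ∧
      (∀ x ∈ L, ∃ π, ψ π = x) ∧ ∃ a b, a ≠ b ∧ ψ (swap a b) = τ := by
  obtain ⟨Φ, h1, h2, h3⟩ := exists_phi H h4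
  have hτ : τ ∈ nor L := H.SL bt.tS
  have hM : zpowers τ ⊔ L ≤ nor L := sup_le ((zpowers_le).2 hτ) le_normalizer
  let θ : ↥(zpowers τ ⊔ L) →* Perm (Fin 5) := Φ.comp (inclusion hM)
  have hodd : Perm.sign (Φ ⟨τ, hτ⟩) ≠ 1 := fun e => by
    obtain ⟨g, hg, e'⟩ := h3 _ e
    have h5 := (h1 (g⁻¹ * ⟨τ, hτ⟩)).1 (by rw [map_mul, map_inv, e', inv_mul_cancel])
    exact bt.out (by simpa using mul_mem (mem_sup_left hg) (mem_sup_right (S := L) h5))
  have hi : Function.Injective θ := (injective_iff_map_eq_one θ).2 fun x hx => by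
    have h5 : (x : G) ∈ cen L := (h1 _).1 hx
    obtain ⟨a, ha, l, hl, e⟩ := (mem_sup_left_norm ((zpowers_le).2 hτ)).1 x.2
    rw [e] at h5
    rcases H96.eq_or_of_mem_zpowers bt.t2 ha with rfl | rfl
    · rw [one_mul] at h5 e
      exact Subtype.ext (e.trans (inf_cen_eq H hl h5))
    · exact absurd (by simpa using mul_mem (mem_sup_right (S := L) h5) (mem_sup_left (L.inv_mem hl))) bt.out
  have hL : ∀ π, Perm.sign π = 1 → ∃ g : ↥(zpowers τ ⊔ L), (g : G) ∈ L ∧ θ g = π := fun π hπ => by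
    obtain ⟨g, hg, e⟩ := h3 π hπ
    exact ⟨⟨g, mem_sup_right hg⟩, hg, e⟩
  have hs : Function.Surjective θ := fun π => by
    by_cases hπ : Perm.sign π = 1
    · exact (hL π hπ).imp fun _ h => h.2
    · obtain ⟨g, -, e⟩ := hL (π * (Φ ⟨τ, hτ⟩)⁻¹) (by
        rw [map_mul, Perm.sign_inv, Int.units_ne_iff_eq_neg.1 hπ, Int.units_ne_iff_eq_neg.1 hodd]; rfl)
      refine ⟨g * ⟨τ, mem_sup_left (mem_zpowers τ)⟩, ?_⟩
      rw [map_mul, e]
      exact inv_mul_cancel_right _ _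
  let e := MulEquiv.ofBijective θ ⟨hi, hs⟩
  have key : ∀ g : ↥(zpowers τ ⊔ L), ((zpowers τ ⊔ L).subtype.comp e.symm.toMonoidHom) (θ g) = g := fun g =>
    congrArg Subtype.val (e.symm_apply_apply g)
  refine ⟨(zpowers τ ⊔ L).subtype.comp e.symm.toMonoidHom, (subtype_injective _).comp e.symm.injective,
    fun π => hM (e.symm π).2, fun π hπ => ?_, fun x hx => ⟨_, key ⟨x, mem_sup_right hx⟩⟩, ?_⟩
  · obtain ⟨g, hg, rfl⟩ := hL π hπ
    rwa [key]
  · obtain ⟨a, b, hab, e'⟩ := s5_swap (Φ ⟨τ, hτ⟩) (by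
      rw [← map_mul, ← map_one Φ]; exact congrArg Φ (Subtype.ext bt.t2)) hodd
    exact ⟨a, b, hab, e' ▸ key ⟨τ, mem_sup_left (mem_zpowers τ)⟩⟩

theorem pig {α : Type*} {x y w a b c d : α} (ha : a = x ∨ a = y ∨ a = w) (hb : b = x ∨ b = y ∨ b = w)
    (hc : c = x ∨ c = y ∨ c = w) (hd : d = x ∨ d = y ∨ d = w) (ab : a ≠ b) (ac : a ≠ c) (ad : a ≠ d) (bc : b ≠ c)
    (bd : b ≠ d) (cd : c ≠ d) : False := by
  grind

section

variable (H : Hat K L S) (bt : Bt L S z τ τ')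
include H bt

theorem into_three {P : Subgroup G} (hP : IsPGroup 2 P) :
    ∃ g : G, ∀ d ∈ P, IsConj z d → g * d * g⁻¹ = z ∨ g * d * g⁻¹ = τ ∨ g * d * g⁻¹ = τ' := by
  obtain ⟨g, -, hg⟩ := H.syl.exists_cj_le hP le_top
  exact ⟨g, fun d hd hz => bt.three _ (hg (conj_mem_cj hd)) (isConj_conj hz g)⟩

theorem comm_of_two {P : Subgroup G} (hP : IsPGroup 2 P) {a b : G} (ha : a ∈ P) (hb : b ∈ P) (ha' : IsConj z a)
    (hb' : IsConj z b) : Commute a b := by
  obtain ⟨g, hg⟩ := into_three H bt hP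
  have : Commute (g * a * g⁻¹) (g * b * g⁻¹) := by
    rcases hg a ha ha' with e | e | e <;> rcases hg b hb hb' with e' | e' | e' <;> rw [e, e']
    exacts [bt.c1, bt.c2, bt.c1.symm, bt.c3, bt.c2.symm, bt.c3.symm]
  exact (Commute.conj_iff g).1 this

theorem not_four {s : Set G} (h1 : ∀ a ∈ s, IsConj z a) (h2 : ∀ a ∈ s, ∀ b ∈ s, a * b = b * a)
    (h3 : ∀ a ∈ s, a ^ 2 = 1) {a b c d : G} (ha : a ∈ s) (hb : b ∈ s) (hc : c ∈ s) (hd : d ∈ s) (ab : a ≠ b)
    (ac : a ≠ c) (ad : a ≠ d) (bc : b ≠ c) (bd : b ≠ d) (cd : c ≠ d) : False := by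
  obtain ⟨g, hg⟩ := into_three H bt (P := closure s) (isPGroup_iff_forall.2 fun x hx =>
    ⟨1, by rw [pow_one]; exact (H12.ea_closure h2 h3).2 x hx⟩)
  have inj : ∀ {x y : G}, x ≠ y → g * x * g⁻¹ ≠ g * y * g⁻¹ := fun h e => h (by simpa using e)
  have k := fun x hx => hg x (subset_closure hx) (h1 x hx)
  exact pig (k a ha) (k b hb) (k c hc) (k d hd) (inj ab) (inj ac) (inj ad) (inj bc) (inj bd) (inj cd)

variable {W : Type u} [AddCommGroup W] [Module (ZMod 2) W] {σ : G →* Module.End (ZMod 2) W} (h : TS σ z)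
include h

theorem comm_of_B {a b : G} (ha : IsConj z a) (hb : IsConj z b) (e : BB σ a b = 0) : Commute a b :=
  comm_of_two H bt (H83.isPGroup_closure_pair (k := 2) (h.mul_self ha) (h.mul_self hb) (h.four' ha hb e))
    (subset_closure (by simp)) (subset_closure (by simp)) ha hb

theorem B_one {a b : G} (ha : IsConj z a) (hb : IsConj z b) (e : ¬ Commute a b) : BB σ a b = 1 :=
  (z2 _).resolve_left fun e' => e (comm_of_B H bt h ha hb e')

theorem B_symm {a b : G} (ha : IsConj z a) (hb : IsConj z b) : BB σ a b = BB σ b a := by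
  by_cases e : Commute a b
  · rw [((h.commute_iff ha hb).1 e).1, ((h.commute_iff ha hb).1 e).2]
  · rw [B_one H bt h ha hb e, B_one H bt h hb ha fun e' => e e'.symm]

variable {ψ : Perm (Fin 5) →* G} (hi : Function.Injective ψ) (hL : ∀ π, Perm.sign π = 1 → ψ π ∈ L)
  (ht : ∀ a b, a ≠ b → IsConj z (ψ (swap a b)))
include hi hL ht

omit hL in
theorem B_t1 {i j k : Fin 5} (ij : i ≠ j) (ik : i ≠ k) (jk : j ≠ k) : BB σ (ψ (swap i j)) (ψ (swap i k)) = 1 :=
  B_one H bt h (ht _ _ ij) (ht _ _ ik) fun e => sw_nc i j k ij ik jk (hi (by rw [map_mul, map_mul]; exact e))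

omit [Finite G] H bt hi hL in
theorem B_t0 {i j k l : Fin 5} (ij : i ≠ j) (kl : k ≠ l) (ik : i ≠ k) (il : i ≠ l) (jk : j ≠ k) (jl : j ≠ l) :
    BB σ (ψ (swap i j)) (ψ (swap k l)) = 0 :=
  ((h.commute_iff (ht _ _ ij) (ht _ _ kl)).1 (by
    rw [Commute, SemiconjBy, ← map_mul, ← map_mul, sw_comm i j k l ⟨ik, il, jk, jl⟩])).1

theorem eq_of_cc {a b : G} (ha : IsConj z a) (hb : IsConj z b) (e : cc σ a = cc σ b) : a = b := by
  let N : Subgroup G :=
    { carrier := {g | ∀ x, IsConj z x → σ g (cc σ x) = cc σ x}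
      one_mem' := fun x _ => by rw [map_one]; rfl
      mul_mem' := fun hg hg' x hx => by rw [sg_mul, hg' x hx, hg x hx]
      inv_mem' := fun {g} hg x hx => by rw [← hg x hx, sg_inv, hg x hx] }
  have hN : N.Normal := ⟨fun n hn g x hx => by
    have h1 := h.cc_conj hx g⁻¹
    rw [sg_mul, sg_mul, ← h1, hn _ (isConj_conj hx _), h1, ← sg_mul, mul_inv_cancel, map_one]; rfl⟩
  have h1 : a * b ∈ N := fun x hx => by
    have e1 : BB σ a b = 0 := by rw [BB, ← e]; exact h.B_self ha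
    have e2 : BB σ a x = BB σ b x := by rw [B_symm H bt h ha hx, B_symm H bt h hb hx, BB, BB, e]
    rw [sg_mul, h.app hb, map_add, map_smul, h.app ha, h.app ha, e1, e2, e, zero_smul, add_zero, add_assoc,
      w_add_self, add_zero]
  by_contra hne
  have h2 : K ≤ N := K_le H fun e' => hne (by
    rw [e', mem_bot] at h1
    rw [eq_inv_of_mul_eq_one_left h1, h.inv hb])
  have h3 := h2 (H.LK (hL (swap 0 1 * swap 1 2) (by decide))) _ (ht 0 1 (by decide))
  rw [← h.cc_conj (ht 0 1 (by decide)), ← map_inv, ← map_mul, ← map_mul,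
    show swap 0 1 * swap 1 2 * swap 0 1 * (swap 0 1 * swap 1 2)⁻¹ = (swap 1 2 : Perm (Fin 5)) by decide] at h3
  have h4 := B_t1 H bt h hi ht (i := 0) (j := 3) (k := 1) (by decide) (by decide) (by decide)
  have h5 := B_t0 h ht (i := 0) (j := 3) (k := 1) (l := 2) (by decide) (by decide) (by decide) (by decide)
    (by decide) (by decide)
  rw [BB, h3] at h5
  exact absurd (h4.symm.trans h5) (by decide)

/-- the partition `3 + 2` does not occur -/
theorem not_32 (hn : ∀ π, ψ π ∈ nor L) {d : G} (hd : IsConj z d) (hdL : d ∉ nor L) {i j k l : Fin 5} (ij : i ≠ j)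
    (kl : k ≠ l) (ik : i ≠ k) (il : i ≠ l) (jk : j ≠ k) (jl : j ≠ l) (e1 : BB σ d (ψ (swap i j)) = 0)
    (e2 : BB σ d (ψ (swap k l)) = 0) (e3 : BB σ d (ψ (swap i k)) = 1) : False := by
  have ha := ht _ _ ij
  have hb := ht _ _ kl
  have hu := ht _ _ ik
  have a3 := B_t1 H bt h hi ht ij ik jk
  have b3 := B_t1 H bt h hi ht kl ik.symm il.symm
  rw [swap_comm k i] at b3
  have ab := B_t0 h ht ij kl ik il jk jl
  have nab : ψ (swap i j) ≠ ψ (swap k l) := fun e => sw_ne i j k l ⟨ij, ik, il⟩ (hi e)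
  have nda : d ≠ ψ (swap i j) := fun e => hdL (e ▸ hn _)
  have ndb : d ≠ ψ (swap k l) := fun e => hdL (e ▸ hn _)
  generalize ψ (swap i j) = a at *
  generalize ψ (swap k l) = b at *
  generalize ψ (swap i k) = v at *
  have sy := fun {x y : G} (hx : IsConj z x) (hy : IsConj z y) => B_symm H bt h hx hy
  have h1 := isConj_conj hu d
  have h2 := isConj_conj h1 a
  have h3 := isConj_conj h2 b
  have hr := isConj_conj h3 v
  have c1 := h.cc_bab hu hd
  have c2 := h.cc_bab h1 ha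
  have c3 := h.cc_bab h2 hb
  have c4 := h.cc_bab h3 hu
  rw [h.B_right h2 hb, h.B_right h1 ha, h.B_right h1 ha, h.B_right hu hd, h.B_right hu hd, h.B_right hu hd,
    h.B_self hu, sy hu hd, sy hu ha, sy hu hb, sy ha hd, sy hb hd, sy hb ha, e1, e2, e3, a3, b3, ab, c3] at c4
  rw [h.B_right h1 ha, h.B_right hu hd, h.B_right hu hd, sy ha hd, sy hb hd, sy hb ha, e1, e2, e3, a3, b3, ab,
    c2] at c4
  rw [h.B_right hu hd, sy ha hd, e1, e3, a3, c1, e3] at c4
  set r := v * (b * (a * (d * v * d⁻¹) * a⁻¹) * b⁻¹) * v⁻¹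
  have c5 : cc σ r = cc σ d + cc σ a + cc σ b := by
    rw [c4, show (0 + 1 * 1 + (1 + 1 * 0) * 1 + (1 + 1 * 0 + (1 + 1 * 0) * 0) * 1 : ZMod 2) = 1 by decide,
      show (1 + 1 * 0 + (1 + 1 * 0) * 0 : ZMod 2) = 1 by decide, show (1 + 1 * 0 : ZMod 2) = 1 by decide]
    simp only [one_smul]
    rw [add_comm _ (cc σ v), ← add_assoc, ← add_assoc, ← add_assoc, w_add_self, zero_add]
  have br : ∀ x, BB σ x r = BB σ x d + BB σ x a + BB σ x b := fun x => by
    rw [BB, c5, map_add, map_add]; rfl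
  have cm := fun {x y : G} (hx : IsConj z x) (hy : IsConj z y) (e : BB σ x y = 0) => (comm_of_B H bt h hx hy e).eq
  have da := cm hd ha e1
  have db := cm hd hb e2
  have ab' := cm ha hb ab
  have dr := cm hd hr (by rw [br, h.B_self hd, e1, e2]; decide)
  have ar := cm ha hr (by rw [br, h.B_self ha, sy ha hd, e1, ab]; decide)
  have br' := cm hb hr (by rw [br, h.B_self hb, sy hb hd, sy hb ha, e2, ab]; decide)
  have cancel : ∀ {x y : W}, x + y = 0 → x = y := fun {x y} e => by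
    rw [← add_zero x, ← w_add_self y, ← add_assoc, e, zero_add]
  have uq := fun {x y : G} (hx : IsConj z x) (hy : IsConj z y) (e : cc σ x + cc σ y = 0) =>
    eq_of_cc H bt h hi hL ht hx hy (cancel e)
  refine not_four H bt (s := {d, a, b, r}) ?_ ?_ ?_ (a := d) (b := a) (c := b) (d := r) (by simp) (by simp) (by simp)
    (by simp) nda ndb (fun e => nab (uq ha hb ?_)) nab (fun e => ndb (uq hd hb ?_)) (fun e => nda (uq hd ha ?_))
  · rintro x (rfl | rfl | rfl | rfl) <;> assumption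
  · rintro x (rfl | rfl | rfl | rfl) y (rfl | rfl | rfl | rfl) <;> first | rfl | assumption | (symm; assumption)
  · rintro x (rfl | rfl | rfl | rfl) <;> rw [sq] <;> apply h.mul_self <;> assumption
  · rw [← e, add_assoc, left_eq_add] at c5
    exact c5
  · rw [← e, add_comm (cc σ d), add_assoc, left_eq_add] at c5
    exact c5
  · rw [← e, right_eq_add] at c5
    exact c5

end

theorem jobTV : H11.QG.JobTV.{u} := by
  intro G V _ _ _ _ ρ K L S z hρ hV H h4 hz hSz htv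
  obtain ⟨W, _, _, σ, h⟩ := exists_ts ρ hρ hV hz htv
  have z1 : z ≠ 1 := by rintro rfl; rw [orderOf_one] at hz; omega
  refine ⟨fun e he hze => ?_, fun τ τ' bt => ?_⟩
  · obtain ⟨Φ, h1, h2, h3⟩ := exists_phi H h4
    have e1 : e ≠ 1 := by rintro rfl; exact z1 (isConj_one_left.1 hze)
    obtain ⟨s, hs, hs'⟩ := a5_five (Φ ⟨e, le_normalizer he⟩) (fun e' => e1 (inf_cen_eq H he ((h1 _).1 e')))
      (by rw [← map_mul, ← map_one Φ]; exact congrArg Φ (Subtype.ext (h.mul_self hze))) (h2 _ he)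
    obtain ⟨g, -, rfl⟩ := h3 s hs
    refine hs' ?_
    rw [← map_inv, ← map_mul, ← map_mul, ← map_mul, ← map_pow, ← map_one Φ]
    exact congrArg Φ (Subtype.ext (h.twelve hze (isConj_conj hze g)))
  obtain ⟨ψ, hi, hn, hL, hs, a, b, hab, hτ⟩ := exists_psi H h4 bt
  have ht : ∀ i j, i ≠ j → IsConj z (ψ (swap i j)) := fun i j hij =>
    bt.cj.trans (hτ ▸ ψ.map_isConj (Perm.isConj_swap hab hij))
  obtain ⟨d, hd, hdL⟩ := exists_out H z1
  let φ : Fin 5 → ZMod 2 := fun i => if i = 0 then 0 else BB σ d (ψ (swap 0 i))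
  have hφ : ∀ i j, i ≠ j → BB σ d (ψ (swap i j)) = φ i + φ j := fun i j hij => by
    by_cases h1 : i = 0
    · subst h1; simp only [φ, if_true, if_neg hij.symm, zero_add]
    by_cases h2 : j = 0
    · subst h2; simp only [φ, if_true, if_neg h1, add_zero, swap_comm i 0]
    have h3 := h.B_right (ht i 0 h1) (ht 0 j (Ne.symm h2)) d
    rw [← map_inv, ← map_mul, ← map_mul, sw_conj i 0 j h1 hij, swap_comm i 0,
      B_t1 H bt h hi ht (Ne.symm h2) (Ne.symm h1) hij.symm, one_mul] at h3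
    simp only [φ, if_neg h1, if_neg h2, h3]
  have add0 : ∀ x y : ZMod 2, x = y → x + y = 0 := by decide
  have add1 : ∀ x y : ZMod 2, x ≠ y → x + y = 1 := by decide
  rcases part5 φ with ⟨i, j, k, l, ij, kl, e1, e2, e3⟩ | ⟨i, hφi⟩
  · have ik : i ≠ k := fun e => e3 (e ▸ rfl)
    exact (not_32 H bt h hi hL ht hn hd hdL ij kl ik (fun e => e3 (e2 ▸ e ▸ rfl)) (fun e => e3 (e1 ▸ e ▸ rfl))
      (fun e => e3 (e1 ▸ e2 ▸ e ▸ rfl)) ((hφ _ _ ij).trans (add0 _ _ e1)) ((hφ _ _ kl).trans (add0 _ _ e2))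
      ((hφ _ _ ik).trans (add1 _ _ e3))).elim
  have hP : IsPGroup 2 (S.comap ψ) := H.syl.isPGroup.comap_of_injective ψ hi
  obtain ⟨p, hp⟩ := hP.nonempty_fixed_point_of_prime_not_dvd_card (Fin 5) (by simp)
  have hd' := isConj_conj hd (ψ (swap p i))
  set d' := ψ (swap p i) * d * (ψ (swap p i))⁻¹ with hd'def
  have hc : ∀ π, ψ π ∈ S → Commute d' (ψ π) := fun π hπ => by
    have h1 := mem_closure_swaps (π := π) (p := p) (hp ⟨π, hπ⟩)
    refine closure_induction (p := fun π _ => Commute d' (ψ π)) ?_ (by simp)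
      (fun x y _ _ hx hy => by rw [map_mul]; exact hx.mul_right hy)
      (fun x _ hx => by rw [map_inv]; exact hx.inv_right) h1
    rintro _ ⟨x, y, xy, xp, yp, rfl⟩
    have ne : swap p i x ≠ swap p i y := fun e => xy ((swap p i).injective e)
    have k : ∀ {x}, x ≠ p → swap p i x ≠ i := fun hx e => hx ((swap p i).injective (e.trans (swap_apply_left p i).symm))
    refine comm_of_B H bt h hd' (ht _ _ xy) ?_
    have h2 := h.B_conj hd (ht _ _ ne) (ψ (swap p i))
    rw [hφ _ _ ne, add0 _ _ (hφi _ _ (k xp) (k yp)), mul_assoc (ψ _) (ψ _), ← map_inv, ← map_mul, ← map_mul,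
      ← mul_assoc, ← swap_apply_apply, swap_apply_self, swap_apply_self, map_inv] at h2
    exact h2
  have hout : d' ∉ nor L := fun e => hdL (by
    simpa [hd'def, mul_assoc] using mul_mem (mul_mem (inv_mem (hn (swap p i))) e) (hn (swap p i)))
  have hnc : ¬ Commute z d' := fun e => hout (H.n1 (zpowers z) hSz.ge (fun e => z1 (zpowers_eq_bot.1 e))
    (hSz ▸ le_normalizer_inf le_normalizer (le_normalizer_centralizer H.SL))
    (centralizer_le_normalizer _ (mem_centralizer_iff.2 fun y hy => by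
      obtain ⟨n, rfl⟩ := mem_zpowers_iff.1 hy
      exact (e.zpow_left n).eq)))
  refine ⟨d', hd', ?_, hout, fun x hx => ?_, hτ ▸ (hc _ (hτ ▸ bt.tS)).symm⟩
  · have : Fact (Nat.Prime 3) := ⟨Nat.prime_three⟩
    refine orderOf_eq_prime (h.cube (IsConj.refl z) hd' (B_one H bt h (IsConj.refl z) hd' hnc)
      (B_one H bt h hd' (IsConj.refl z) fun e => hnc e.symm)) fun e => hnc ?_
    rw [eq_inv_of_mul_eq_one_right e]
    exact (Commute.refl z).inv_right
  · obtain ⟨π, rfl⟩ := hs x hx.2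
    exact mem_centralizer_singleton_iff.2 (hc π hx.1).symm.eq

end H66.QG
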