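import Cfsg.Agent.H66.QGB1

/-! Transvections (slot TV of `blueprints/QTGEN.md`), part 1: the calculus of a class of transvections. -/

set_option autoImplicit false

namespace H66.QG

open Subgroup Cfsg H98 H96 H96.CG H11.QG

universe u

section Lin

variable {W : Type*} [AddCommGroup W] [Module (ZMod 2) W]

theorem z2 (a : ZMod 2) : a = 0 ∨ a = 1 := by revert a; decide

theorem w_add_self (v : W) : v + v = 0 := by
  rw [← two_smul (ZMod 2) v, show (2 : ZMod 2) = 0 by decide, zero_smul]

/-- `t` is the transvection with functional `f` and centre `c` -/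
structure TvL (t : Module.End (ZMod 2) W) (p : (W →ₗ[ZMod 2] ZMod 2) × W) : Prop where
  eq : ∀ v, t v = v + p.1 v • p.2
  c0 : p.2 ≠ 0
  f0 : ∃ v, p.1 v = 1
  fc0 : p.1 p.2 = 0

theorem TvL.uniq {t : Module.End (ZMod 2) W} {p p' : (W →ₗ[ZMod 2] ZMod 2) × W} (h : TvL t p) (h' : TvL t p') :
    p = p' := by
  have key : ∀ v, p.1 v • p.2 = p'.1 v • p'.2 := fun v => add_left_cancel ((h.eq v).symm.trans (h'.eq v))
  obtain ⟨v, hv⟩ := h.f0
  have hc : p.2 = p'.2 := by
    have := key v
    rw [hv, one_smul] at this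
    rcases z2 (p'.1 v) with e | e
    · rw [e, zero_smul] at this; exact absurd this h.c0
    · rwa [e, one_smul] at this
  refine Prod.ext (LinearMap.ext fun w => ?_) hc
  have := key w
  rw [← hc] at this
  exact smul_left_injective (ZMod 2) h.c0 this

/-- the functional and the centre of a transvection -/
noncomputable def fc (t : Module.End (ZMod 2) W) : (W →ₗ[ZMod 2] ZMod 2) × W := Classical.epsilon (TvL t)

theorem TvL.fc_eq {t : Module.End (ZMod 2) W} {p : (W →ₗ[ZMod 2] ZMod 2) × W} (h : TvL t p) : fc t = p :=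
  (Classical.epsilon_spec ⟨p, h⟩ : TvL t (fc t)).uniq h

variable {G : Type*} [Group G] {σ : G →* Module.End (ZMod 2) W} {z : G}

theorem sg_mul (σ : G →* Module.End (ZMod 2) W) (g h : G) (v : W) : σ (g * h) v = σ g (σ h v) := by
  rw [map_mul]; rfl

theorem sg_inv (σ : G →* Module.End (ZMod 2) W) (g : G) (v : W) : σ g⁻¹ (σ g v) = v := by
  rw [← sg_mul, inv_mul_cancel, map_one]; rfl

theorem TvL.conj {d : G} {p : (W →ₗ[ZMod 2] ZMod 2) × W} (h : TvL (σ d) p) (g : G) :
    TvL (σ (g * d * g⁻¹)) (p.1 ∘ₗ σ g⁻¹, σ g p.2) := by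
  have e : ∀ v, σ g (σ g⁻¹ v) = v := fun v => by rw [← sg_mul, mul_inv_cancel, map_one]; rfl
  refine ⟨fun v => ?_, fun h0 => h.c0 ?_, ?_, ?_⟩
  · simp only [sg_mul, h.eq, map_add, map_smul, e, LinearMap.comp_apply]
  · rw [← sg_inv σ g p.2, show σ g p.2 = 0 from h0, map_zero]
  · obtain ⟨v, hv⟩ := h.f0
    exact ⟨σ g v, by simp only [LinearMap.comp_apply, sg_inv, hv]⟩
  · simp only [LinearMap.comp_apply, sg_inv, h.fc0]

/-- a faithful action in which the involution `z` is a transvection -/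
structure TS (σ : G →* Module.End (ZMod 2) W) (z : G) : Prop where
  inj : Function.Injective σ
  sq : z * z = 1
  tv : ∃ p, TvL (σ z) p

/-- the centre -/
noncomputable abbrev cc (σ : G →* Module.End (ZMod 2) W) (d : G) : W := (fc (σ d)).2

/-- the pairing of two transvections -/
noncomputable def BB (σ : G →* Module.End (ZMod 2) W) (d d' : G) : ZMod 2 := (fc (σ d)).1 (cc σ d')

theorem isConj_conj {d : G} (hd : IsConj z d) (g : G) : IsConj z (g * d * g⁻¹) :=
  hd.trans (isConj_iff.2 ⟨g, rfl⟩)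

namespace TS

variable (h : TS σ z) {a b d d' : G}
include h

theorem tvl (hd : IsConj z d) : TvL (σ d) (fc (σ d)) := by
  obtain ⟨p, hp⟩ := h.tv
  obtain ⟨g, rfl⟩ := isConj_iff.1 hd
  rw [(hp.conj g).fc_eq]
  exact hp.conj g

theorem mul_self (hd : IsConj z d) : d * d = 1 := by
  obtain ⟨g, rfl⟩ := isConj_iff.1 hd
  rw [conj_mul, h.sq]; simp

theorem inv (hd : IsConj z d) : d⁻¹ = d := inv_eq_of_mul_eq_one_left (h.mul_self hd)

theorem cc_conj (hd : IsConj z d) (g : G) : cc σ (g * d * g⁻¹) = σ g (cc σ d) := by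
  rw [cc, ((h.tvl hd).conj g).fc_eq]

theorem ff_conj (hd : IsConj z d) (g : G) (v : W) : (fc (σ (g * d * g⁻¹))).1 v = (fc (σ d)).1 (σ g⁻¹ v) := by
  rw [((h.tvl hd).conj g).fc_eq]; rfl

theorem app (hd : IsConj z d) (a : G) : σ d (cc σ a) = cc σ a + BB σ d a • cc σ d := (h.tvl hd).eq _

theorem B_self (hd : IsConj z d) : BB σ d d = 0 := (h.tvl hd).fc0

theorem B_conj (hd : IsConj z d) (hd' : IsConj z d') (g : G) :
    BB σ (g * d * g⁻¹) (g * d' * g⁻¹) = BB σ d d' := by
  rw [BB, h.ff_conj hd, h.cc_conj hd', sg_inv, BB]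

theorem cc_bab (ha : IsConj z a) (hb : IsConj z b) : cc σ (b * a * b⁻¹) = cc σ a + BB σ b a • cc σ b := by
  rw [h.cc_conj ha, h.app hb]

theorem B_right (ha : IsConj z a) (hb : IsConj z b) (d : G) :
    BB σ d (b * a * b⁻¹) = BB σ d a + BB σ b a * BB σ d b := by
  rw [BB, h.cc_bab ha hb, map_add, map_smul]; rfl

theorem B_left (ha : IsConj z a) (hb : IsConj z b) (d : G) :
    BB σ (b * a * b⁻¹) d = BB σ a d + BB σ b d * BB σ a b := by
  rw [BB, h.ff_conj ha, h.inv hb, h.app hb, map_add, map_smul]; rfl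

theorem commute_iff (ha : IsConj z a) (hb : IsConj z b) : Commute a b ↔ BB σ a b = 0 ∧ BB σ b a = 0 := by
  have key : ∀ {a b : G}, IsConj z a → IsConj z b → Commute a b → BB σ b a = 0 := fun {a b} ha hb hc => by
    have := h.cc_bab ha hb
    rw [← hc.eq, mul_inv_cancel_right, left_eq_add] at this
    exact (smul_eq_zero.1 this).resolve_right (h.tvl hb).c0
  refine ⟨fun hc => ⟨key hb ha hc.symm, key ha hb hc⟩, fun ⟨h1, h2⟩ => ?_⟩
  have : b * a * b⁻¹ = a := h.inj (LinearMap.ext fun v => by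
    have e1 : (fc (σ b)).1 (fc (σ a)).2 = 0 := h2
    have e2 : (fc (σ a)).1 (fc (σ b)).2 = 0 := h1
    rw [(h.tvl (isConj_conj ha b)).eq, h.ff_conj ha, h.inv hb, (h.tvl ha).eq, (h.tvl hb).eq, map_add, map_smul,
      e2, smul_zero, add_zero]
    have := h.cc_bab ha hb
    rw [h.inv hb, h2, zero_smul, add_zero] at this
    rw [show (fc (σ (b * a * b))).2 = (fc (σ a)).2 from this])
  exact (mul_inv_eq_iff_eq_mul.1 this).symm

theorem cube (ha : IsConj z a) (hb : IsConj z b) (h1 : BB σ a b = 1) (h2 : BB σ b a = 1) : (a * b) ^ 3 = 1 := by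
  have : a * b * a⁻¹ = b * a * b⁻¹ := h.inj (LinearMap.ext fun v => by
    have e1 : (fc (σ b)).1 (fc (σ a)).2 = 1 := h2
    have e2 : (fc (σ a)).1 (fc (σ b)).2 = 1 := h1
    have c1 := h.cc_bab ha hb
    have c2 := h.cc_bab hb ha
    rw [h2, one_smul] at c1
    rw [h1, one_smul] at c2
    rw [(h.tvl (isConj_conj ha b)).eq, (h.tvl (isConj_conj hb a)).eq, h.ff_conj ha, h.ff_conj hb,
      show (fc (σ (b * a * b⁻¹))).2 = _ from c1, show (fc (σ (a * b * a⁻¹))).2 = _ from c2, h.inv ha, h.inv hb,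
      (h.tvl ha).eq, (h.tvl hb).eq, map_add, map_smul, map_add, map_smul, e1, e2, add_comm (cc σ b),
      add_comm ((fc (σ b)).1 v), smul_eq_mul, smul_eq_mul, mul_one, mul_one])
  rw [h.inv ha, h.inv hb] at this
  calc (a * b) ^ 3 = (a * b * a) * (b * a * b) := by simp only [pow_succ, pow_zero, one_mul, mul_assoc]
    _ = b * a * (b * b) * a * b := by rw [this]; simp only [mul_assoc]
    _ = 1 := by rw [h.mul_self hb, mul_one, mul_assoc b a a, h.mul_self ha, mul_one, h.mul_self hb]

theorem four (ha : IsConj z a) (hb : IsConj z b) (h2 : BB σ b a = 0) : (a * b) ^ 4 = 1 := by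
  have hc : Commute (a * b * a⁻¹) b := (h.commute_iff (isConj_conj hb a) hb).2
    ⟨by rw [h.B_left hb ha, h.B_self hb, h2, mul_zero, add_zero],
      by rw [h.B_right hb ha, h.B_self hb, h2, mul_zero, add_zero]⟩
  have : (a * b) ^ 4 = (a * b * a⁻¹ * b) ^ 2 := by
    rw [h.inv ha]; simp only [pow_succ, pow_zero, one_mul, mul_assoc]
  rw [this, hc.mul_pow, pow_two, pow_two, h.mul_self (isConj_conj hb a), h.mul_self hb, mul_one]

theorem four' (ha : IsConj z a) (hb : IsConj z b) (h2 : BB σ a b = 0) : (a * b) ^ 4 = 1 := by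
  have := h.four hb ha h2
  rw [← inv_eq_one, ← inv_pow, mul_inv_rev, h.inv ha, h.inv hb] at this
  exact this

theorem twelve (ha : IsConj z a) (hb : IsConj z b) : (a * b) ^ 12 = 1 := by
  rcases z2 (BB σ a b) with h1 | h1
  · rw [show 12 = 4 * 3 from rfl, pow_mul, h.four' ha hb h1, one_pow]
  rcases z2 (BB σ b a) with h2 | h2
  · rw [show 12 = 4 * 3 from rfl, pow_mul, h.four ha hb h2, one_pow]
  · rw [show 12 = 3 * 4 from rfl, pow_mul, h.cube ha hb h1 h2, one_pow]

end TS

end Lin

/-- from automorphisms of a group of exponent two to linear maps -/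
theorem exists_ts {G V : Type u} [Group G] [Group V] (ρ : G →* MulAut V) {z : G} (hρ : Function.Injective ρ)
    (hV : ∀ v : V, v * v = 1) (hz : orderOf z = 2) (ht : Tv ρ z) :
    ∃ (W : Type u) (_ : AddCommGroup W) (_ : Module (ZMod 2) W) (σ : G →* Module.End (ZMod 2) W), TS σ z := by
  have hi : ∀ v : V, v⁻¹ = v := fun v => inv_eq_of_mul_eq_one_left (hV v)
  let : CommGroup V := { ‹Group V› with mul_comm := fun a b => by rw [← hi (a * b), mul_inv_rev, hi, hi] }
  let : Module (ZMod 2) (Additive V) := AddCommGroup.zmodModule fun x => by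
    rw [two_nsmul]; exact hV x.toMul
  let σ : G →* Module.End (ZMod 2) (Additive V) :=
    { toFun := fun g => (MonoidHom.toAdditive (ρ g).toMonoidHom).toZModLinearMap 2
      map_one' := LinearMap.ext fun v => by simp
      map_mul' := fun g g' => LinearMap.ext fun v => by simp }
  have hσ : ∀ g v, σ g v = Additive.ofMul (ρ g v.toMul) := fun g v => rfl
  have z2' : z * z = 1 := by rw [← sq, ← hz, pow_orderOf_eq_one]
  have inj : Function.Injective σ := fun g g' e => hρ (MulEquiv.ext fun v => by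
    have := congrArg (fun t => t (Additive.ofMul v)) e
    exact this)
  obtain ⟨c, hc⟩ := ht
  have hc' : ∀ v, σ z v = v ∨ σ z v = v + Additive.ofMul c := fun v => hc v.toMul
  set c' := Additive.ofMul c
  have h1 : ∃ v, σ z v ≠ v := by
    by_contra hn
    push Not at hn
    have : z = 1 := inj (LinearMap.ext fun v => by rw [hn, map_one]; rfl)
    rw [this, orderOf_one] at hz
    omega
  have c0 : c' ≠ 0 := fun e => by
    obtain ⟨v, hv⟩ := h1
    rcases hc' v with h | h
    · exact hv h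
    · exact hv (by rw [h, e, add_zero])
  have ne : ∀ v, v + c' ≠ v := fun v e => c0 (add_eq_left.1 e)
  classical
  let f : Additive V →+ ZMod 2 := AddMonoidHom.mk' (fun v => if σ z v = v then 0 else 1) fun v w => by
    rcases hc' v with h | h <;> rcases hc' w with h' | h'
    · simp [h, h']
    · have : v + (w + c') ≠ v + w := by rw [← add_assoc]; exact ne _
      simp [h, h', ne]
    · have : v + c' + w ≠ v + w := by rw [add_right_comm]; exact ne _
      simp [h, h', ne]
    · have : v + c' + (w + c') = v + w := by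
        rw [add_add_add_comm, w_add_self, add_zero]
      simp only [map_add, h, h', this, ne, if_true, if_false]
      decide
  have hf : ∀ v, f v = if σ z v = v then 0 else 1 := fun v => rfl
  refine ⟨Additive V, inferInstance, inferInstance, σ, inj, z2', (f.toZModLinearMap 2, c'), fun v => ?_, c0, ?_, ?_⟩
  · change σ z v = v + f v • c'
    rcases hc' v with h | h
    · rw [hf, if_pos h, zero_smul, add_zero, h]
    · rw [hf, if_neg (by rw [h]; exact ne v), one_smul, h]
  · obtain ⟨v, hv⟩ := h1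
    exact ⟨v, (hf v).trans (if_neg hv)⟩
  · refine (hf c').trans (if_pos ((hc' c').resolve_right fun e => c0 ?_))
    rw [w_add_self] at e
    rw [← sg_inv σ z c', e, map_zero]

end H66.QG
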