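import Cfsg.Agent.H66.QGTV1

/-! Transvections (slot TV of `blueprints/QTGEN.md`), part 2: facts on `S₅`. -/

set_option autoImplicit false

namespace H66.QG

open Equiv Equiv.Perm

theorem a5_five : ∀ x : Perm (Fin 5), x ≠ 1 → x * x = 1 → sign x = 1 →
    ∃ s : Perm (Fin 5), sign s = 1 ∧ (x * (s * x * s⁻¹)) ^ 12 ≠ 1 := by decide +kernel

theorem s5_swap : ∀ x : Perm (Fin 5), x * x = 1 → sign x ≠ 1 → ∃ a b, a ≠ b ∧ x = swap a b := by decide +kernel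

theorem part5 : ∀ φ : Fin 5 → ZMod 2, (∃ i j k l, i ≠ j ∧ k ≠ l ∧ φ i = φ j ∧ φ k = φ l ∧ φ i ≠ φ k) ∨
    ∃ i, ∀ a b, a ≠ i → b ≠ i → φ a = φ b := by decide +kernel

theorem sw_comm : ∀ i j k l : Fin 5, i ≠ k ∧ i ≠ l ∧ j ≠ k ∧ j ≠ l → swap i j * swap k l = swap k l * swap i j := by
  decide +kernel

theorem sw_ne : ∀ i j k l : Fin 5, i ≠ j ∧ i ≠ k ∧ i ≠ l → swap i j ≠ swap k l := by
  decide +kernel

theorem sw_nc : ∀ i j k : Fin 5, i ≠ j → i ≠ k → j ≠ k → swap i j * swap i k ≠ swap i k * swap i j := by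
  decide +kernel

theorem sw_conj : ∀ i j k : Fin 5, i ≠ j → i ≠ k → swap j k * swap i j * (swap j k)⁻¹ = swap i k := by
  decide +kernel

theorem mem_closure_swaps {π : Perm (Fin 5)} {p : Fin 5} (h : π p = p) :
    π ∈ Subgroup.closure {σ : Perm (Fin 5) | ∃ a b, a ≠ b ∧ a ≠ p ∧ b ≠ p ∧ σ = swap a b} := by
  refine (mem_closure_isSwap ?_).2 ⟨Set.toFinite _, fun x => ?_⟩
  · rintro f ⟨a, b, hab, -, -, e⟩
    exact ⟨a, b, hab, e⟩
  by_cases hx : π x = x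
  · rw [hx]; exact MulAction.mem_orbit_self x
  · have h1 : x ≠ p := by rintro rfl; exact hx h
    have h2 : π x ≠ p := fun e => h1 (π.injective (e.trans h.symm))
    exact ⟨⟨swap x (π x), Subgroup.subset_closure ⟨x, π x, Ne.symm hx, h1, h2, rfl⟩⟩, swap_apply_left x (π x)⟩

end H66.QG
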