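/- Root involutions: `[X_z, W_z] ≤ E(z)` without assuming that `E_z ∪ 1` is a group; partners of order three. -/
import Cfsg.Agent.H66.RITSpec

set_option autoImplicit false

namespace H66.RIT
open Cfsg H70 H66.RST

universe u

variable {G : Type*} [Group G] {D : Set G} {a b c d e f g m n t u w x y z θ : G}

theorem in_Z (he : e ∈ EC D z) : e ∈ EE D z := Subgroup.subset_closure he

theorem self_E (hz : z ∈ D) : z ∈ EC D z := ⟨hz, rfl⟩

theorem E_symm (hz : z ∈ D) (he : e ∈ EC D z) : z ∈ EC D e := ⟨hz, he.2.symm⟩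

theorem E_trans (h1 : e ∈ EC D z) (h2 : f ∈ EC D e) : f ∈ EC D z := ⟨h2.1, h1.2.trans h2.2⟩

theorem EC_of_E (he : e ∈ EC D z) : EC D e = EC D z := E_of_E he

theorem EE_of_E (he : e ∈ EC D z) : EE D e = EE D z := Z_of_E he

theorem E_comm (he : e ∈ EC D z) (hy : y ∈ D) : Commute z y ↔ Commute e y := (mem_E.1 he).2 y hy

theorem Z_comm (he : e ∈ EE D z) (hy : y ∈ D) (c : Commute z y) : Commute e y :=
  H66.RI.commute_of_mem_E he hy c

theorem Z_comm_N (he : e ∈ EE D z) (hg : g ∈ Subgroup.closure (W D z)) : Commute e g :=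
  (H66.RI.commute_of_mem_closure (fun _ ht => (N_comm ht hg).symm) he).symm

theorem mem_of_Z [Finite G] (h : RIC D) (hz : z ∈ D) (he : e ∈ D) (k : e ∈ EE D z) : e ∈ EC D z :=
  mem_E.2 ⟨he, fun y hy => ⟨Z_comm k hy, h.comm_symm hz he (fun _ hy => Z_comm k hy) y hy⟩⟩

theorem U_mul (ha : a ∈ Subgroup.closure (W D z)) (h1 : U D z a) (h2 : U D z b) :
    U D z (a * b) := fun w hw => by
  have := mul_mem (h2 w hw) (h1 w hw)
  rw [← mul_assoc, ← mul_assoc, ← mul_assoc, (Z_comm_N (h2 w hw) ha).eq] at this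
  simpa [mul_assoc] using this

section
variable (hD : IsRootInvolutionSet D)
include hD

theorem opp_E (he : e ∈ EC D z) (hz : z ∈ D) (hy : y ∈ D) (o : IOpp z y) : IOpp e y :=
  opp_of_comm_subset hD hz he.1 (fun _ hy => (E_comm he hy).2) hy o

theorem four_E (hz : z ∈ D) (he : e ∈ EC D z) (hy : y ∈ D) (f : Four y z) : Four y e :=
  ri_four_of hD hy he.1 (fun c => f.not_commute (ri_sq hD hy) (ri_sq hD hz)
    ((E_comm he hy).2 c.symm).symm) fun o => (opp_E hD (E_symm hz he) he.1 hy o.symm).symm.not_four f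

theorem W_E (hw : w ∈ W D z) (hz : z ∈ D) (he : e ∈ EC D w) : e ∈ W D z :=
  ⟨he.1, ((E_comm he hz).1 hw.2.1.symm).symm, fun y hy c o =>
    hw.2.2 y hy c (opp_E hD (E_symm hw.1 he) he.1 hy o)⟩

theorem four_W_left (ha : a ∈ D) (hb : b ∈ D) (f : Four a b) : a ∈ W D (a * b * a * b) :=
  col_W hD (ri_four_mem hD ha hb f) ha (f.comm_left (ri_sq hD ha) (ri_sq hD hb)).symm (four_mul_left hD ha hb)

theorem four_W_right (ha : a ∈ D) (hb : b ∈ D) (f : Four a b) : b ∈ W D (a * b * a * b) :=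
  col_W hD (ri_four_mem hD ha hb f) hb (f.comm_right (ri_sq hD ha) (ri_sq hD hb)).symm (four_mul_right hD ha hb)

theorem U_conj (ha : a ∈ W D z) (h1 : U D z b) : U D z (a * b * a) := fun w hw => by
  have sa := ri_sq hD ha.1
  have k := h1 _ (W_conj' hD hw ha.2.1.symm)
  have := conj_eq_of_commute' (Z_comm k ha.1 ha.2.1).symm sa
  rw [← this] at k
  simpa only [mul_inv_rev, inv_of_sq sa, mul_assoc, sqc sa, sa, mul_one] using k

theorem U_N (h1 : U D z g) (hn : n ∈ Subgroup.closure (W D z)) : g * n * g⁻¹ * n⁻¹ ∈ EE D z := by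
  refine closure_induction_inv (P := fun n => g * n * g⁻¹ * n⁻¹ ∈ EE D z)
    (fun t ht => ri_sq hD ht.1) (by simp) (fun t ht n _ k => ?_) n hn
  have := mul_mem (h1 t ht) k
  rw [← conj_eq_of_commute (Z_comm k ht.1 ht.2.1).symm] at this
  convert this using 1
  group

theorem Z_le_N (hz : z ∈ D) (hw : w ∈ W D z) (he : e ∈ EE D w) : e ∈ Subgroup.closure (W D z) :=
  Subgroup.closure_mono (fun _ k => W_E hD hw hz k) he

theorem conj_Z_N (hz : z ∈ D) (hy : y ∈ D) (f : Four y z) (he : e ∈ EE D z) :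
    y * e * y ∈ Subgroup.closure (W D z) := by
  have sy := ri_sq hD hy
  refine closure_induction_inv (P := fun e => y * e * y ∈ Subgroup.closure (W D z))
    (fun t ht => ri_sq hD ht.1) (by simp [sy]) (fun t ht n _ k => ?_) e he
  have fe := four_E hD hz ht hy f
  have c := fe.comm_right sy (ri_sq hD ht.1)
  have k1 := col_W hD ht.1 (ri_four_mem hD hy ht.1 fe) c (c.eq ▸ four_mul_right hD hy ht.1)
  rw [W_of_E ht] at k1
  have := mul_mem (Subgroup.subset_closure (k := W D z) k1) (Subgroup.subset_closure (E_W hD hz ht))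
  rw [mul_assoc, ri_sq hD ht.1, mul_one] at this
  rw [cj_mul sy]
  exact mul_mem this k

end

variable [Finite G] (h : RIC D)
include h

theorem mid_E (hz : z ∈ D) (hd : d ∈ W D z) (h2 : U D z d) (hy : y ∈ D) (f : Four y z)
    (o : IOpp d y) : mid d y * (y * z * y * z) * mid d y ∈ EC D z := by
  have sd := ri_sq h.ri hd.1; have sy := ri_sq h.ri hy; have sz := ri_sq h.ri hz
  have cc : ∀ e ∈ EE D z, ∀ e' ∈ EE D z, Commute e (y * e' * y) := fun e he e' he' =>
    Z_comm_N he (conj_Z_N h.ri hz hy f he')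
  have zZ := in_Z (self_E hz)
  obtain ⟨e, he, e', he', k⟩ := conj_mem_of_closure (T := {d, y})
    (U := {a | ∃ e ∈ EE D z, ∃ e' ∈ EE D z, a = e * (y * e' * y)}) (by rintro _ (rfl | rfl) <;> assumption) (by
      rintro t (rfl | rfl) _ ⟨e, he, e', he', rfl⟩
      · rw [cj_mul sd, conj_eq_of_commute' (Z_comm he hd.1 hd.2.1).symm sd]
        refine ⟨_, mul_mem he (U_N h.ri h2 (conj_Z_N h.ri hz hy f he')), e', he', ?_⟩
        rw [inv_of_sq sd]; group
      · exact ⟨e', he', e, he, by rw [cj_mul sy, conj_conj_of_sq sy, (cc e' he' e he).eq]⟩)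
    (mid d y) (mid_mem (Subgroup.subset_closure (.inl rfl)) (Subgroup.subset_closure (.inr rfl)))
    (y * z * y * z) ⟨z, zZ, z, zZ, (cc z zZ z zZ).eq.symm⟩
  have st := mid_sq sd sy
  rw [inv_of_sq st] at k
  have c1 : Commute d (e * (y * e' * y)) := by
    have := commute_conj' (f.comm_left sy sz) st
    rwa [mid_swap_right sd sy o.2, k] at this
  have c2 := commute_conj' ((Z_comm he hd.1 hd.2.1).symm.inv_right.mul_right c1) sy
  rw [inv_mul_cancel_left, conj_conj_of_sq sy] at c2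
  have c3 := commute_of_opp_conj o sd sy (Z_comm he' hd.1 hd.2.1) c2.symm
  refine mem_of_Z h hz (ri_conj' h.ri (ri_four_mem h.ri hy hz f) st) ?_
  rw [k, conj_eq_of_commute' c3.symm sy]
  exact mul_mem he he'

theorem core (hz : z ∈ D) (hu : u ∈ D) (c : Commute z u) (hzu : z * u ∈ D) (hθ : θ ∈ W D z)
    (h1 : u * θ * u * θ ∉ EE D z) (h2 : U D z (u * θ * u * θ)) : False := by
  have su := ri_sq h.ri hu; have sθ := ri_sq h.ri hθ.1
  have uW := col_W h.ri hz hu c hzu
  have f1 : Four u θ := ri_four_of h.ri hu hθ.1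
    (fun k => h1 (by rw [mul_assoc, sq_mul_of_commute su sθ k]; exact one_mem _))
    fun o => hθ.2.2 u hu c o.symm
  obtain ⟨d, hd'⟩ : ∃ d, d = u * θ * u * θ := ⟨_, rfl⟩
  have hd : d ∈ D := hd' ▸ ri_four_mem h.ri hu hθ.1 f1
  have sd := ri_sq h.ri hd
  have dW : d ∈ W D z := W_of_N h.ri hz hd (by
    have a1 := Subgroup.subset_closure (k := W D z) uW
    have a2 := Subgroup.subset_closure (k := W D z) hθ
    exact hd' ▸ mul_mem (mul_mem (mul_mem a1 a2) a1) a2)
  have cud : Commute u d := hd' ▸ f1.comm_left su sθ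
  have cθd : Commute θ d := hd' ▸ f1.comm_right su sθ
  have hud : u * d ∈ D := hd' ▸ ri_four_mul h.ri hu hθ.1
  have θu : θ * u * θ = d * u := by rw [four_conj_eq su, ← hd', cud.eq]
  rw [← hd'] at h1 h2
  obtain ⟨g, hg, og, fg⟩ := exists_opp_four h hz dW fun k => h1 (in_Z k)
  obtain ⟨hm, czm, hzm, f2⟩ := four_comm h.ri hz dW hg og fg
  generalize g * z * g * z = m at hm czm hzm f2
  have sm := ri_sq h.ri hm
  have hE : d * m * d * m ∈ EC D z := by
    have := h2 m (col_W h.ri hz hm czm hzm)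
    rw [inv_of_sq sd, inv_of_sq sm] at this
    exact mem_of_Z h hz (ri_four_mem h.ri hd hm f2.symm) this
  by_cases cmu : Commute m u
  · obtain ⟨x, hx, o, h3, hmx, cmx, e1, -⟩ := partner h hd hm f2.symm
    have sx := ri_sq h.ri hx
    have st : d * x * d * (d * x * d) = 1 := ri_sq h.ri (ri_conj' h.ri hx sd)
    have cf := cfg_of h.ri hd hu (cud.eq ▸ hud) cud.symm hx o hm hmx cmx cmu
    obtain ⟨e2, e3⟩ := o3 h.ri cf h3
    have hk := ri_four_mem h.ri hx hu cf.four
    have sk := ri_sq h.ri hk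
    have cuk := cf.four.comm_right sx su
    have c1 := commute_conj' cmu st
    rw [e2, ← e1, conj_conj_of_sq st] at c1
    refine hθ.2.2 _ hk (((mem_E.1 hE).2 _ hk).2 c1) (opp_of_s3 h.ri hθ.1 hk (a := d) (b := u)
      (ri_ne_one h.ri hu) (conj_eq_of_commute' cθd sθ) θu (conj_eq_of_commute' cuk.symm sk) ?_)
    generalize x * u * x * u = k at e3 sk cuk
    calc k * d * k = k * (d * k * d) * d := by simp only [mul_assoc, sd, mul_one]
      _ = d * u := by rw [e3, ← mul_assoc, conj_eq_of_commute' cuk.symm sk, cud.eq]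
  have f3 : Four u m := ri_four_of h.ri hu hm (fun k => cmu k.symm) (uW.2.2 m hm czm)
  obtain ⟨y, hy, o, h3, hmy, cmy, e1, -⟩ := partner h hu hm f3
  have sy := ri_sq h.ri hy
  have ss : u * y * u * (u * y * u) = 1 := ri_sq h.ri (ri_conj' h.ri hy su)
  have cf := cfg_of h.ri hu hz (c.eq ▸ hzu) c.symm hy o hm hmy cmy czm.symm
  have od : IOpp d y := by
    by_contra k
    have nc := ri_not_commute_of_opp h.ri hd hu (cud.eq ▸ hud) cud.symm hy o.symm
    have cf' : Cfg D u d y := ⟨hu, hd, hy, hud, cud, ri_four_of h.ri hy hd nc fun o => k o.symm, o.symm⟩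
    have c1 : Commute (u * m * u * m) d := by
      have a1 := commute_conj' cud sm
      have a2 : Commute (m * u * m) (d * m * d * m) := by
        have b1 := ((mem_E.1 hE).2 u hu).1 c
        have b2 := ((mem_E.1 hE).2 m hm).1 czm
        exact ((b2.mul_right b1).mul_right b2).symm
      have a3 := a2.mul_right a1
      simp only [mul_assoc, sqc sm, sqc sd, sm, mul_one] at a3
      simpa only [mul_assoc] using cud.mul_left a3
    have c2 := commute_conj' c1 ss
    rw [e1, (o3 h.ri cf' h3).1] at c2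
    have c3 := cf'.four.comm_right sy sd
    have se : y * d * y * d * (y * d * y * d) = 1 := cf'.four.pow_four
    have yd : y * d * y = y * d * y * d * d := by simp only [mul_assoc, sd, mul_one]
    refine cf.four.not_commute sy (ri_sq h.ri hz) (((mem_E.1 hE).2 y hy).2
      (commute_of_conj' sy ?_).symm).symm
    rw [cj_mul sy, cj_mul sy, cj_mul sy, conj_eq_of_commute' cmy.symm sy, yd]
    generalize y * d * y * d = e at c2 c3 se
    simp only [mul_assoc]
    rw [c2.left_comm, c3.left_comm, sqc se]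
  have k := mid_E h hz dW h2 hy cf.four od
  have st := mid_sq sd sy
  have g1 : u * y * u * mid d y * (mid d y * (y * z * y * z) * mid d y) * (u * y * u * mid d y)⁻¹ = z := by
    rw [← (o3 h.ri cf h3).1]
    simp only [mul_inv_rev, inv_of_sq st, inv_of_sq su, inv_of_sq sy, mul_assoc, sqc st, sqc su,
      sqc sy, su, mul_one]
  have g2 : u * y * u * mid d y * d * (u * y * u * mid d y)⁻¹ = u := by
    have := mid_swap_left sd sy od.2
    calc _ = u * y * u * (mid d y * d * mid d y) * (u * y * u) := by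
          simp only [mul_inv_rev, inv_of_sq st, inv_of_sq su, inv_of_sq sy, mul_assoc]
      _ = u * (y * u * y) * (u * y * u) := by rw [this]; simp only [mul_assoc]
      _ = u := by rw [braid su sy h3, mul_assoc, ss, mul_one]
  generalize u * y * u * mid d y = g0 at g1 g2
  generalize mid d y * (y * z * y * z) * mid d y = ζ at k g1
  have w1 := W_conj h.ri hθ g0⁻¹
  rw [← g1, show g0⁻¹ * (g0 * ζ * g0⁻¹) * g0⁻¹⁻¹ = ζ by group, W_of_E k] at w1
  have e5 : g0 * (d * (g0⁻¹ * θ * g0⁻¹⁻¹) * d⁻¹ * (g0⁻¹ * θ * g0⁻¹⁻¹)⁻¹) * g0⁻¹ = d := by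
    nth_rewrite 3 [hd']
    nth_rewrite 2 [← inv_of_sq su, ← inv_of_sq sθ]
    rw [← g2]; group
  have k1 := mem_of_Z h hz (by
    have := ri_conj h.ri hd g0⁻¹
    nth_rewrite 1 [← e5] at this
    simpa only [mul_assoc, inv_mul_cancel_left, inv_inv, inv_mul_cancel, mul_one] using this) (h2 _ w1)
  rw [← EC_of_E k] at k1
  have := E_conj h.ri k1 g0
  rw [e5, g1] at this
  exact h1 (in_Z this)

theorem deep (hz : z ∈ D) (ha : a ∈ D) (c : Commute z a) (hza : z * a ∈ D)
    (hdeep : ∀ g ∈ Subgroup.closure (W D z), ∀ n ∈ Subgroup.closure (W D z), ∀ b ∈ D,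
      b = g * a * g⁻¹ * n * (g * a * g⁻¹)⁻¹ * n⁻¹ → ∀ e ∈ EC D z, Commute e b →
      e * b ∈ D → U D z b) : U D z a := by
  intro θ hθ
  by_contra h1
  have sa := ri_sq h.ri ha; have sθ := ri_sq h.ri hθ.1
  rw [inv_of_sq sa, inv_of_sq sθ] at h1
  have aW := col_W h.ri hz ha c hza
  have f1 : Four a θ := ri_four_of h.ri ha hθ.1
    (fun k => h1 (by rw [mul_assoc, sq_mul_of_commute sa sθ k]; exact one_mem _))
    fun o => hθ.2.2 a ha c o.symm
  have hd := ri_four_mem h.ri ha hθ.1 f1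
  have aN := Subgroup.subset_closure (k := W D z) aW
  have θN := Subgroup.subset_closure (k := W D z) hθ
  have dW := W_of_N h.ri hz hd (mul_mem (mul_mem (mul_mem aN θN) aN) θN)
  obtain ⟨g, hg, og, fg⟩ := exists_opp_four h hz dW fun k => h1 (in_Z k)
  obtain ⟨hm, czm, hzm, f2⟩ := four_comm h.ri hz dW hg og fg
  generalize g * z * g * z = m at hm czm hzm f2
  have sm := ri_sq h.ri hm
  have mW := col_W h.ri hz hm czm hzm
  have mN := Subgroup.subset_closure (k := W D z) mW
  by_cases k : m * (a * θ * a * θ) * m * (a * θ * a * θ) ∈ EE D z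
  · exact core h hz ha c hza hθ h1 (hdeep 1 (one_mem _) θ θN _ hd
      (by simp [inv_of_sq sa, inv_of_sq sθ]) _
      (mem_of_Z h hz (ri_four_mem h.ri hm hd f2) k)
      (f2.comm_right sm (ri_sq h.ri hd)).symm (four_mul_right h.ri hm hd))
  refine core h hz hm czm hzm dW k ?_
  have key : ∀ g ∈ W D z, U D z (m * (g * a * g) * m * (g * a * g)) := by
    intro g hg
    have sg := ri_sq h.ri hg.1
    have ha' := ri_conj' h.ri ha sg
    have sa' := ri_sq h.ri ha'
    have e := conj_eq_of_commute' hg.2.1.symm sg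
    have c' : Commute z (g * a * g) := e ▸ commute_conj' c sg
    have hza' : z * (g * a * g) ∈ D := by
      have := ri_conj' h.ri hza sg
      rwa [cj_mul sg, e] at this
    by_cases cm : Commute m (g * a * g)
    · rw [mul_assoc, sq_mul_of_commute sm sa' cm]
      intro w hw
      simp
    have f3 := ri_four_of h.ri hm ha' cm (mW.2.2 _ ha' c')
    rcases tprime h hm ha' f3 hz (czm.eq ▸ hzm) czm.symm (c'.eq ▸ hza') c'.symm with e1 | e1
    · rw [e1]
      intro w hw
      rw [hw.2.1.eq]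
      simp
    · refine hdeep g (Subgroup.subset_closure hg) m mN _ (ri_four_mem h.ri hm ha' f3) ?_ z ⟨hz, rfl⟩
        (((czm.mul_right c').mul_right czm).mul_right c') e1
      rw [inv_of_sq sg, inv_of_sq sa', inv_of_sq sm, f3.swap sm sa']
  have k1 := key a aW
  rw [show a * a * a = a by rw [sa, one_mul]] at k1
  have := U_mul (mul_mem (mul_mem (mul_mem mN aN) mN) aN) k1 (U_conj h.ri aW (key θ hθ))
  convert this using 1
  nth_rewrite 2 [← f1.swap sa sθ]
  simp only [mul_assoc, sqc sa, sqc sm]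

/-- `[X_z, W_z] ≤ E(z)`. -/
theorem tplus (hz : z ∈ D) (hu : u ∈ D) (c : Commute z u) (hzu : z * u ∈ D) : U D z u := by
  by_contra hn
  obtain ⟨a, ⟨ha, ⟨e, he, ce, hea⟩, k⟩, hdeep⟩ := exists_deep (N_pgroup h.ri (z := z))
    (S := {a | a ∈ D ∧ (∃ e ∈ EC D z, Commute e a ∧ e * a ∈ D) ∧ ¬ U D z a})
    (fun a ⟨ha, ⟨e, he, ce, hea⟩, _⟩ =>
      Subgroup.subset_closure (W_of_E he ▸ col_W h.ri he.1 ha ce hea))
    (fun k => ri_ne_one h.ri k.1 rfl) ⟨hu, ⟨z, ⟨hz, rfl⟩, c, hzu⟩, hn⟩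
  refine k (U_of_E he ▸ deep h he.1 ha ce hea ?_)
  rw [W_of_E he, EC_of_E he, U_of_E he]
  intro g hg n hn b hb e1 e' he' c' k'
  by_contra hU
  exact hdeep g hg n hn (e1 ▸ ⟨hb, ⟨e', he', c', k'⟩, hU⟩)

/-- A common neighbour of a pair of order four lies in the class of the commutator. -/
theorem tee (hz : z ∈ D) (ha : a ∈ D) (c : Commute z a) (hza : z * a ∈ D) (hb : b ∈ W D z)
    (f : Four a b) : a * b * a * b ∈ EC D z := by
  have := tplus h hz ha c hza b hb
  rw [ri_inv h.ri ha, ri_inv h.ri hb.1] at this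
  exact mem_of_Z h hz (ri_four_mem h.ri ha hb.1 f) this


omit [Finite G] in
/-- Two members acting as `S₃` on a line have a product of order three. -/
theorem s3ord (ha : a ∈ D) (hx : x ∈ D) (hf : f ∈ D) (h4 : Four a f) (c3 : Commute x f)
    (x2 : x * (a * f * a * f) * x = a * f * a * f * f) : IOpp a x ∧ orderOf (a * x) = 3 := by
  have sa := ri_sq h.ri ha; have sf := ri_sq h.ri hf; have sx := ri_sq h.ri hx
  have hb := ri_four_mem h.ri ha hf h4
  have sb := ri_sq h.ri hb
  have c1 := h4.comm_left sa sf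
  have ef : a * f * a = a * f * a * f * f := by simp only [mul_assoc, sf, mul_one]
  set b := a * f * a * f with hbdef
  have a1 : a * b * a = b := conj_eq_of_commute' c1 sa
  have x1 : x * f * x = f := conj_eq_of_commute' c3 sx
  have o : IOpp a x := opp_of_s3 h.ri ha hx (a := b) (b := f) (ri_ne_one h.ri hf) a1 ef x1 x2
  refine ⟨o, ?_⟩
  have a3 : a * (b * f) * a = f := by rw [← ef]; simp only [mul_assoc, sqc sa, sa, mul_one]
  have x3 : x * (b * f) * x = b := by rw [← x2]; simp only [mul_assoc, sqc sx, sx, mul_one]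
  have k : ∀ u, (a * x) ^ 3 * u * ((a * x) ^ 3)⁻¹ = a * (x * (a * (x * (a * (x * u * x) * a) * x) * a) * x) * a :=
    fun u => by simp only [pow_succ, pow_zero, one_mul, mul_inv_rev, inv_of_sq sa, inv_of_sq sx, mul_assoc]
  have k1 : Commute ((a * x) ^ 3) b := by
    have := k b; rw [x2, a3, x1, ef, x3, a1] at this; exact mul_inv_eq_iff_eq_mul.1 this
  have k2 : Commute ((a * x) ^ 3) f := by
    have := k f; rw [x1, ef, x3, a1, x2, a3] at this; exact mul_inv_eq_iff_eq_mul.1 this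
  have m : a * (a * x) ^ 3 ∈ D := by
    have e : a * (a * x) ^ 3 = x * a * x * a * x := by simp only [pow_succ, pow_zero, one_mul, mul_assoc, sqc sa]
    rw [e]
    simpa only [mul_inv_rev, inv_of_sq sa, inv_of_sq sx, mul_assoc] using ri_conj h.ri hx (x * a)
  have : (a * x) ^ 3 = 1 := by
    by_contra hn
    have o3 : IOpp a (a * (a * x) ^ 3) :=
      ⟨fun e => hn (by simpa using e.symm), by rw [sqc sa]; exact Odd.of_dvd_nat o.2 (orderOf_pow_dvd _)⟩
    refine ri_ne_one h.ri hb (ri_even h.ri m ha o3.symm sb (c1.symm.mul_right k1.symm) c1.symm ?_)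
    have := ri_conj' h.ri m sf
    rwa [mul_assoc, mul_assoc, k2.eq, ← mul_assoc, ← mul_assoc, four_conj_eq sa, ← hbdef, c1.eq,
      mul_assoc] at this
  exact orderOf_eq_prime this fun e => o.1 (by rw [← inv_of_sq sa]; exact inv_eq_of_mul_eq_one_right e)

/-- commutators of class mates are class mates -/
theorem tee_E (ha : a ∈ D) (hb : b ∈ D) (f : Four a b) (he : e ∈ EC D b) :
    a * e * a * e ∈ EC D (a * b * a * b) := by
  have hz := ri_four_mem h.ri ha hb f
  exact tee h hz ha (f.comm_left (ri_sq h.ri ha) (ri_sq h.ri hb)).symm (four_mul_left h.ri ha hb)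
    (W_E h.ri (four_W_right h.ri ha hb f) hz he) (four_E h.ri hb he ha f)

/-- Every class mate `e` of `[f, c]` collinear with `f` is `[f, c']` for a class mate `c'` of `c`. -/
theorem pre_E (hf : f ∈ D) (hc : c ∈ D) (h4 : Four f c) (he : e ∈ EC D (f * c * f * c)) (hfe : f * e ∈ D) :
    ∃ c' ∈ EC D c, Four f c' ∧ f * c' * f * c' = e := by
  have sf := ri_sq h.ri hf; have sc := ri_sq h.ri hc
  obtain ⟨y, hy, o, -, hcy, ccy, -, e2⟩ := partner h hf hc h4
  have sy := ri_sq h.ri hy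
  have hk := ri_four_mem h.ri hf hc h4
  have ck := h4.comm_right sf sc
  have cf := (E_comm he hf).1 (h4.comm_left sf sc).symm
  have cc := (E_comm he hc).1 ck.symm
  have f1 : Four y (f * c * f * c) := ri_four_of h.ri hy hk (fun k => ri_ne_one h.ri hc (by
    rw [conj_eq_of_commute' k sy] at e2; simpa using e2.symm))
    (not_opp h.ri hc hk (ck.eq ▸ four_mul_right h.ri hf hc) ck hy ccy)
  have f2 := four_E h.ri hk he hy f1
  obtain ⟨c', cg, e3⟩ := Cfg.exists_pre h.ri (a := f) (b := e) (x := y) ⟨hf, he.1, hy, hfe, cf.symm, f2, o.symm⟩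
  have k1 := tee h cg.hb hy cg.comm.symm (cg.comm.eq ▸ cg.hab) (e3 ▸ col_W h.ri cg.hb
    (ri_four_mem h.ri hf cg.hb cg.four) (cg.four.comm_right sf (ri_sq h.ri cg.hb))
    ((cg.four.comm_right sf (ri_sq h.ri cg.hb)).eq ▸ four_mul_right h.ri hf cg.hb)) f2
  have k2 := tee h hc hy ccy hcy (W_E h.ri (col_W h.ri hc hk ck (ck.eq ▸ four_mul_right h.ri hf hc)) hc he) f2
  exact ⟨c', E_trans k2 (E_symm cg.hb k1), cg.four, e3⟩

/-- the partner of order three, with the line it acts on -/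
theorem part (hc : c ∈ D) (hb : b ∈ D) (o : IOpp c b) (he : e ∈ D) (ce : Commute c e) (hce : c * e ∈ D)
    (f4 : Four e b) : ∃ c' ∈ EC D c, orderOf (c' * b) = 3 ∧ c' * e ∈ D := by
  have cg : Cfg D c e b := ⟨hc, he, hb, hce, ce, f4.symm, o.symm⟩
  have cg' := cg.step h.ri
  have sb := ri_sq h.ri hb; have se := ri_sq h.ri he
  have hf := cg'.hb
  have c1 := cg.four.comm_right sb se
  have m1 := four_mul_right h.ri hb he
  have k := tee h he hf c1 (c1.eq ▸ m1) (col_W h.ri he hc ce.symm (ce.eq ▸ hce)) cg'.four.symm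
  obtain ⟨c', hc', f5, e1⟩ := pre_E h hf hc cg'.four.symm (E_symm he k) m1
  have sc := ri_sq h.ri hc'.1
  have c2 := (E_comm hc' he).1 ce
  refine ⟨c', hc', ?_, c2.eq ▸ e1 ▸ four_mul_right h.ri hf hc'.1⟩
  rw [orderOf_mul_swap]
  refine (s3ord h hb hc'.1 he cg.four c2 ?_).2
  rw [four_conj_eq (ri_sq h.ri hf), e1]

omit [Finite G] h in
theorem jobPart : JobPart.{u} := fun _ _ _ _ h _ hc _ hb o ⟨_, he, ce, hce, f4⟩ =>
  (part h hc hb o he ce hce f4).imp fun _ k => ⟨k.1, k.2.1⟩

end H66.RIT
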