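/- Root involutions: elements of `E(a)` moving a class at distance two lie in `D`. -/
import Cfsg.Agent.H66.RIT1

set_option autoImplicit false

namespace H66.RIT
open Cfsg H70 H66.RST
open H66.RI (commute_E conj_mem_E sq_of_mem_E)

variable {G : Type*} [Group G] {D : Set G} {a b c d e f g m n p s t u v w x y z ρ : G}

/-- A class of root involutions in which no element centralises `X_d` and an opposite of `d`. -/
structure HZ (D : Set G) : Prop extends RIC D where
  cen : ∀ d ∈ D, ∀ x ∈ D, IOpp d x → ∀ w, (∀ b ∈ D, Commute d b → d * b ∈ D → Commute w b) →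
    Commute w x → w = 1

theorem conj_E' (hD : IsRootInvolutionSet D) (hw : w ∈ EE D d) (hg : g * g = 1) : g * w * g ∈ EE D (g * d * g) := by
  simpa only [inv_of_sq hg] using conj_mem_E hD hw g

theorem conj_EC' (hD : IsRootInvolutionSet D) (hw : w ∈ EC D d) (hg : g * g = 1) : g * w * g ∈ EC D (g * d * g) := by
  simpa only [inv_of_sq hg] using E_conj hD hw g

theorem cm_mul' (ha : a * a = 1) (c : Commute w v) (c' : Commute w (a * v * a * v)) :
    a * (w * v) * a * (w * v) = a * w * a * w * (a * v * a * v) := by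
  calc _ = a * w * a * (a * v * a * (v * w)) := by rw [← c.eq]; simp only [mul_assoc, sqc ha]
    _ = a * w * a * (a * v * a * v * w) := by simp only [mul_assoc]
    _ = _ := by rw [← c'.eq]; simp only [mul_assoc]

theorem commute_of_cm (h1 : t * u * t = x * u)
    (h2 : t * v * t = x * v) (ht : t * t = 1) (hx : x * x = 1) (c' : Commute x u) : Commute (u * v) t :=
  (commute_of_conj' ht (by rw [cj_mul ht, h1, h2, c'.eq]; simp only [mul_assoc, sqc hx])).symm

variable [Finite G]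

section
variable (h : RIC D)
include h

theorem bil (ha : a ∈ D) (hf : f ∈ D) (h4 : Four a f) (hw : w ∈ EE D f) :
    a * w * a * w ∈ EE D (a * f * a * f) := by
  have sa := ri_sq h.ri ha
  refine closure_induction_inv (P := fun w => a * w * a * w ∈ EE D (a * f * a * f))
    (fun t ht => ri_sq h.ri ht.1) (by simp [sa]) (fun t ht g hg k => ?_) w hw
  rw [cm_mul' sa (commute_E hf (Commute.refl f) (in_Z ht) hg)
    (commute_E hf (h4.comm_right sa (ri_sq h.ri hf)) (in_Z ht) k)]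
  exact mul_mem (in_Z (tee_E h ha hf h4 ht)) k

theorem cm_mul (ha : a ∈ D) (hf : f ∈ D) (h4 : Four a f) (hw : w ∈ EE D f) (hv : v ∈ EE D f) :
    a * (w * v) * a * (w * v) = a * w * a * w * (a * v * a * v) :=
  cm_mul' (ri_sq h.ri ha) (commute_E hf (Commute.refl f) hw hv)
    (commute_E hf (h4.comm_right (ri_sq h.ri ha) (ri_sq h.ri hf)) hw (bil h ha hf h4 hv))

theorem kzero (hp : p ∈ D) (hy : y ∈ D) (h4 : Four y p) (hw : w ∈ EE D p) (c : Commute w y) :
    w ∈ EE D (y * p * y * p) := by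
  have sp := ri_sq h.ri hp; have sy := ri_sq h.ri hy
  obtain ⟨x, hx, -, -, -, cx, -, e⟩ := partner h hy hp h4
  have sx := ri_sq h.ri hx
  have := conj_E' h.ri (conj_E' h.ri hw sy) sx
  rw [conj_eq_of_commute' c.symm sy, conj_eq_of_commute' (Z_comm hw hx cx).symm sx,
    show y * p * y = y * p * y * p * p by simp only [mul_assoc, sp, mul_one], cj_mul sx, e,
    conj_eq_of_commute' cx.symm sx, conj_eq_of_commute' (h4.comm_right sy sp) sp] at this
  exact this

theorem comm_conj (hd : d ∈ D) (hw : w ∈ EE D d) (ht : t ∈ D) (o : ¬ IOpp t d) : Commute t (w * t * w) := by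
  have st := ri_sq h.ri ht
  by_cases c : Commute t d
  · rw [conj_eq_of_commute' (Z_comm hw ht c.symm) (sq_of_mem_E h.ri hd hw)]
  have f := ri_four_of h.ri ht hd c o
  have := (Commute.refl t).mul_right (Z_comm (bil h ht hd f hw) ht (f.comm_left st (ri_sq h.ri hd)).symm).symm
  simpa only [mul_assoc, sqc st] using this

/-- the orbit of `ρ ∈ E([f, a])` under `⟨y, f⟩ ≅ S₃` -/
theorem orb (k : Cfg D y a f) (h3 : orderOf (y * f) = 3) (hρ : ρ ∈ EE D (f * a * f * a)) :
    ∃ w π, w = y * f * y * ρ * (y * f * y) ∧ w ∈ EE D a ∧ π ∈ EE D a ∧ Commute π f ∧ (f * ρ * y) ^ 3 = π ∧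
      f * w * f * w = ρ * π := by
  have sy := ri_sq h.ri k.ha; have sf := ri_sq h.ri k.hx; have sa := ri_sq h.ri k.hb
  have hz := ri_four_mem h.ri k.hx k.hb k.four
  have sρ := sq_of_mem_E h.ri hz hρ
  have br := braid sy sf h3
  obtain ⟨e1, e2⟩ := o3 h.ri k h3
  have sn : y * f * y * (y * f * y) = 1 := ri_sq h.ri (ri_conj' h.ri k.hx sy)
  have hw := conj_E' h.ri hρ sn
  rw [← e1, conj_conj_of_sq sn] at hw
  have c1 := Z_comm hρ k.hx (k.four.comm_left sf sa).symm
  have e3 : f * (y * f * y * ρ * (y * f * y)) * f = y * ρ * y := by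
    rw [← br]; simp only [mul_assoc, sqc sf, sf, mul_one]; rw [c1.symm.left_comm, sqc sf]
  have e4 : y * (f * a * f * a) * y * (f * a * f * a) = a := by
    rw [e2, mul_assoc, k.four.pow_four, mul_one]
  have h1 := bil h k.ha hz (k.step h.ri).four hρ
  rw [e4] at h1
  have e5 : (f * ρ * y) ^ 3 = ρ * (y * f * y * ρ * (y * f * y)) * (y * ρ * y) := by
    nth_rewrite 1 [← br]
    simp only [pow_succ, pow_zero, one_mul, mul_assoc, sqc sy]
    rw [c1.symm.left_comm]
  generalize hw' : y * f * y * ρ * (y * f * y) = w at hw e3 e5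
  have sw := sq_of_mem_E h.ri k.hb hw
  have c2 : Commute ρ w := commute_E hz (k.four.comm_right sf sa).symm hρ hw
  have c3 : Commute (y * ρ * y) w := by
    have := commute_conj' c2 sy
    rwa [conj_eq_of_commute' (Z_comm hw k.ha k.comm.symm).symm sy] at this
  have c4 : Commute ρ (y * ρ * y) := by
    have := commute_conj' c2 sf
    rwa [e3, conj_eq_of_commute' c1.symm sf] at this
  refine ⟨w, _, rfl, hw, ?_, ?_, e5, ?_⟩
  · rw [mul_assoc, ← c3.eq, ← mul_assoc, c4.eq]; exact mul_mem h1 hw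
  · refine (commute_of_conj' sf ?_).symm
    rw [cj_mul sf, cj_mul sf, conj_eq_of_commute' c1.symm sf, e3, ← e3, conj_conj_of_sq sf, e3, mul_assoc, c3.eq,
      ← mul_assoc]
  · rw [e3, c3.eq]; simp only [mul_assoc, sqc sρ]

end

namespace HZ
variable (h : HZ D)
include h

omit [Finite G] in
theorem zl (hw : w ∈ EE D d) (hd : d ∈ D) (hx : x ∈ D) (o : IOpp d x) (c : Commute w x) : w = 1 :=
  h.cen d hd x hx o w (fun _ hb k _ => Z_comm hw hb k) c

theorem indep (ha : a ∈ D) (hf : f ∈ D) (h4 : Four f a) (h1 : ρ ∈ EE D (f * a * f * a)) (h2 : ρ ∈ EE D f)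
    (hu : u ∈ EC D f) (hv : v ∈ EC D f) (huρ : u * ρ ∈ D) : v * ρ ∈ D := by
  have sa := ri_sq h.ri ha; have sf := ri_sq h.ri hf
  have sρ := sq_of_mem_E h.ri hf h2
  obtain ⟨y, hy, o, -, hay, cay, -, -⟩ := partner h.toRIC hf ha h4
  obtain ⟨t, ht, ot, -, -, cft, -, -⟩ := partner h.toRIC ha hf h4.symm
  have key : ∀ u ∈ EC D f, ∃ y' ∈ EC D y, Cfg D y' a u ∧ orderOf (y' * u) = 3 ∧ ρ ∈ EE D (u * a * u * a) := by
    intro u hu
    have f1 := four_E h.ri hf hu ha h4.symm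
    have o1 := opp_E h.ri hu hf hy o
    obtain ⟨y', hy', h3, m⟩ := part h.toRIC hy hu.1 o1.symm ha cay.symm (cay.eq ▸ hay) f1
    refine ⟨y', hy', ⟨hy'.1, ha, hu.1, m, (E_comm hy' ha).1 cay.symm, f1.symm,
      (opp_E h.ri hy' hy hu.1 o1.symm).symm⟩, h3, ?_⟩
    rw [f1.swap sa (ri_sq h.ri hu.1), EE_of_E (tee_E h.toRIC ha hf h4.symm hu), h4.swap sf sa]
    exact h1
  obtain ⟨y4, hy4, k4, o4, r4⟩ := key u hu
  obtain ⟨y5, hy5, k5, o5, r5⟩ := key v hv
  obtain ⟨w4, π4, d4, hw4, hπ4, -, p4, q4⟩ := orb h.toRIC k4 o4 r4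
  obtain ⟨w5, π5, d5, hw5, hπ5, c5, -, q5⟩ := orb h.toRIC k5 o5 r5
  have su := ri_sq h.ri hu.1; have sv := ri_sq h.ri hv.1
  have s4 := ri_sq h.ri hy4.1; have s5 := ri_sq h.ri hy5.1
  have huE : u * ρ ∈ EC D u := mem_of_Z h.toRIC hu.1 huρ (mul_mem (in_Z (self_E hu.1)) (EE_of_E hu ▸ h2))
  have e4 : π4 = 1 := eq_one_of_odd_of_pow (n := 1) (p4 ▸ Odd.of_dvd_nat (opp_E h.ri huE hu.1 hy4.1 k4.opp).2
    (orderOf_pow_dvd 3)) (by rw [pow_one, pow_two, sq_of_mem_E h.ri ha hπ4])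
  rw [e4, mul_one] at q4
  have sn4 : y4 * u * y4 * (y4 * u * y4) = 1 := ri_sq h.ri (ri_conj' h.ri hu.1 s4)
  have sn5 : y5 * v * y5 * (y5 * v * y5) = 1 := ri_sq h.ri (ri_conj' h.ri hv.1 s5)
  have n4 : y4 * u * y4 * u * (y4 * u * y4) = y4 := by
    nth_rewrite 1 [← braid s4 su o4]; simp only [mul_assoc, sqc su, sqc s4]
  have n5 : y5 * v * y5 * y5 * (y5 * v * y5) = v := by
    rw [← braid s5 sv o5]; nth_rewrite 1 [braid s5 sv o5]
    simp only [mul_assoc, sqc sv, sqc s5]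
  have m1 : ρ * y4 * ρ ∈ EC D y4 := by
    have := conj_EC' h.ri huE sn4
    rw [show u * ρ = w4 * u * w4 by rw [← q4]; simp only [mul_assoc, sqc su], cj_mul sn4, cj_mul sn4, n4, d4,
      conj_conj_of_sq sn4] at this
    exact this
  have m2 : ρ * y5 * ρ ∈ EC D y5 := by
    have := conj_EC' h.ri (E_trans (E_symm hy hy4) hy5) sρ
    rw [EC_of_E m1, EC_of_E hy4] at this
    rwa [EC_of_E hy5]
  have m3 := conj_EC' h.ri m2 sn5
  rw [cj_mul sn5, cj_mul sn5, n5, ← d5] at m3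
  have e5 : π5 = 1 := by
    refine h.zl hπ5 ha ht ot (Z_comm (z := f) ?_ ht cft)
    have := mul_mem h2 (EE_of_E hv ▸ mul_mem (in_Z (self_E hv.1)) (in_Z m3))
    rwa [← mul_assoc v, ← mul_assoc v, q5, sqc sρ] at this
  rw [← mul_one ρ, ← e5, ← q5]
  simpa only [mul_assoc, sqc sv] using m3.1

theorem rr (ha : a ∈ D) (hf : f ∈ D) (h4 : Four a f) (h1 : ρ ∈ EE D (a * f * a * f)) (h2 : ρ ∈ EE D f) :
    (∀ v ∈ EC D f, v * ρ ∈ D) ∧ ∀ v ∈ EC D (a * f * a * f), v * ρ ∈ D := by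
  have sa := ri_sq h.ri ha; have sf := ri_sq h.ri hf
  have hz := ri_four_mem h.ri ha hf h4
  have ind := fun {ρ u v : G} (h1 : ρ ∈ EE D (a * f * a * f)) => h.indep (u := u) (v := v) ha hf h4.symm
    (h4.swap sa sf ▸ h1)
  obtain ⟨t, ht, ot, h3, hft, cft, e1, e2⟩ := partner h.toRIC ha hf h4
  have st := ri_sq h.ri ht
  have br := braid sa st h3
  have sn : a * t * a * (a * t * a) = 1 := ri_sq h.ri (ri_conj' h.ri ht sa)
  have ca := h4.comm_left sa sf
  have cz := h4.comm_right sa sf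
  have e3 : t * (a * f * a * f) * t * (a * f * a * f) = f := by rw [e2, mul_assoc, h4.pow_four, mul_one]
  have f1 : Four t (a * f * a * f) := (Cfg.step h.ri ⟨ht, hf, ha, cft.eq ▸ hft, cft.symm, h4, ot⟩).four.symm.symm
  have cn : ∀ ρ ∈ EE D (a * f * a * f), ρ ∈ EE D f → a * t * a * ρ * (a * t * a) = ρ := fun ρ h1 h2 =>
    conj_eq_of_commute' (((Z_comm h1 ha ca.symm).symm.mul_left (Z_comm h2 ht cft).symm).mul_left
      (Z_comm h1 ha ca.symm).symm) sn
  have tr : ∀ ρ ∈ EE D (a * f * a * f), ρ ∈ EE D f → ∀ v, v * ρ ∈ D → a * t * a * v * (a * t * a) * ρ ∈ D :=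
    fun ρ h1 h2 v hv => by
      have := ri_conj' h.ri hv sn
      rwa [cj_mul sn, cn ρ h1 h2] at this
  obtain ⟨η, hη, π, p1, p2, p3, e⟩ := closure_induction_inv (T := EC D (a * f * a * f))
    (P := fun ε => ∃ η ∈ EE D f, ∃ π ∈ EE D (a * f * a * f), π ∈ EE D f ∧ f * π ∈ D ∧ ε = a * η * a * η * π)
    (fun t ht => ri_sq h.ri ht.1) ⟨1, one_mem _, 1, one_mem _, one_mem _, by rwa [mul_one], by simp [sa]⟩ (by
      rintro d hd - - ⟨η, hη, π, p1, p2, p3, rfl⟩
      have sd := ri_sq h.ri hd.1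
      have f2 := four_E h.ri hz hd ht f1
      have hf5 := tee_E h.toRIC ht hz f1 hd
      rw [e3] at hf5
      have td : t * d * t = t * d * t * d * d := by simp only [mul_assoc, sd, mul_one]
      have c5 := f2.comm_right st sd
      have k5 : Cfg D t (t * d * t * d) a := ⟨ht, hf5.1, ha, ri_four_mul h.ri ht hd.1, f2.comm_left st sd,
        four_E h.ri hf hf5 ha h4, ot⟩
      generalize t * d * t * d = f5 at hf5 td c5 k5
      obtain ⟨g1, g2⟩ := o3 h.ri k5 (by rw [orderOf_mul_swap]; exact h3)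
      have hd' := tee_E h.toRIC ha hf h4 hf5
      have hπ : d * (a * f5 * a * f5) ∈ EE D (a * f * a * f) := mul_mem (in_Z hd) (in_Z hd')
      have hπ' := kzero h.toRIC hz ht f1 hπ (commute_of_cm td g2 st (ri_sq h.ri hf5.1) c5.symm)
      rw [e3] at hπ'
      have cd : Commute d (a * f5 * a * f5) := commute_E hz (Commute.refl _) (in_Z hd) (in_Z hd')
      have sd' := ri_sq h.ri hd'.1
      have m1 := tr _ hπ hπ' (a * f5 * a * f5) (by rw [cd.eq, sqc sd']; exact hd.1)
      rw [← g1, br, conj_conj_of_sq sn] at m1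
      rw [← br, g1] at m1
      have m2 := ind hπ hπ' hf5 (self_E hf) m1
      refine ⟨f5 * η, mul_mem (in_Z hf5) hη, d * (a * f5 * a * f5) * π, mul_mem hπ p1, mul_mem hπ' p2, ?_, ?_⟩
      · rw [← mul_assoc]
        exact ind p1 p2 (self_E hf) (mem_of_Z h.toRIC hf m2 (mul_mem (in_Z (self_E hf)) hπ')) p3
      · rw [cm_mul h.toRIC ha hf h4 (in_Z hf5) hη]
        have c6 := commute_E hz (Commute.refl _) (bil h.toRIC ha hf h4 hη) hπ
        generalize a * η * a * η = β at c6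
        generalize a * f5 * a * f5 = d' at c6 cd sd'
        rw [mul_assoc d', ← mul_assoc β, c6.eq, cd.eq]; simp only [mul_assoc, sqc sd']) ρ h1
  have sη := sq_of_mem_E h.ri hf hη
  have hβ := bil h.toRIC ha hf h4 hη
  have hβ' : a * η * a * η ∈ EE D f := by
    have := mul_mem h2 p2
    rwa [e, mul_assoc, sq_of_mem_E h.ri hf p2, mul_one] at this
  have m : a * η * a ∈ EE D (a * f * a * f) := by
    have k1 := conj_E' h.ri hη sn
    have k2 : a * η * a ∈ EE D f := by simpa only [mul_assoc, sη, mul_one] using mul_mem hβ' hη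
    have k3 := conj_conj_of_sq sn (a * f * a * f)
    rw [e1] at k3
    rw [k3, ← br] at k1
    rw [← conj_eq_of_commute' (Z_comm k2 ht cft).symm st, ← conj_eq_of_commute' (Z_comm hη ht cft).symm st]
    simpa only [mul_assoc] using k1
  have c7 := commute_conj' (Z_comm m ha ca.symm) sa
  rw [conj_conj_of_sq sa, mul_assoc, sa, mul_one] at c7
  rw [conj_eq_of_commute' c7.symm sa, sη, one_mul] at e
  subst e
  refine ⟨fun v hv => ind h1 h2 (self_E hf) hv p3, fun v hv => ?_⟩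
  have := tr _ h1 h2 _ (ind h1 h2 (self_E hf) (e1 ▸ conj_EC' h.ri hv sn) p3)
  rwa [conj_conj_of_sq sn] at this

/-- an element of `E(a)` moving a class at distance two lies in `D` -/
theorem mem_of_move (ha : a ∈ D) (hf : f ∈ D) (h4 : Four a f) (hw : w ∈ EE D a)
    (hn : f * w * f * w ∉ EE D f) : w ∈ D := by
  have sa := ri_sq h.ri ha; have sf := ri_sq h.ri hf; have sw := sq_of_mem_E h.ri ha hw
  have hz := ri_four_mem h.ri ha hf h4
  obtain ⟨t, ht, ot, h3, hft, cft, e1, e2⟩ := partner h.toRIC ha hf h4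
  have st := ri_sq h.ri ht
  have cz := h4.comm_right sa sf
  have e3 : t * (a * f * a * f) * t * (a * f * a * f) = f := by rw [e2, mul_assoc, h4.pow_four, mul_one]
  have f1 : Four t (a * f * a * f) := (Cfg.step h.ri ⟨ht, hf, ha, cft.eq ▸ hft, cft.symm, h4, ot⟩).four
  have hε := bil h.toRIC hf ha h4.symm hw
  rw [h4.swap sa sf] at hε
  have hv : f * (f * w * f * w) ∈ D := by simpa only [mul_assoc, sqc sf] using ri_conj' h.ri hf sw
  obtain ⟨ε, dε⟩ : ∃ ε, ε = f * w * f * w := ⟨_, rfl⟩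
  rw [← dε] at hn hε hv
  have sε := sq_of_mem_E h.ri hz hε
  have cε := Z_comm hε hf cz.symm
  have f2 : Four t (f * ε) := ri_four_of h.ri ht hv (fun c => hn (e3 ▸ kzero h.toRIC hz ht f1 hε (by
    simpa only [sqc sf] using (cft.symm.mul_right c).symm))) fun o => (W_of_N h.ri hf hv (mul_mem
      (Subgroup.subset_closure (E_W h.ri hf (self_E hf))) (Z_le_N h.ri hf (col_W h.ri hf hz cz
        (cz.eq ▸ four_mul_right h.ri ha hf)) hε))).2.2 t ht cft o.symm
  have hb := bil h.toRIC ht hz f1 hε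
  rw [e3] at hb
  have e4 : t * (f * ε) * t * (f * ε) = t * ε * t * ε := by
    have := (commute_conj' cε st).symm
    rw [conj_eq_of_commute' cft.symm st] at this
    rw [cj_mul st, conj_eq_of_commute' cft.symm st, this.eq, mul_assoc, sqc sf]
  have hf5 := mem_of_Z h.toRIC hf (e4 ▸ ri_four_mem h.ri ht hv f2) hb
  have tε : t * ε * t = t * ε * t * ε * ε := by simp only [mul_assoc, sε, mul_one]
  have k5 : Cfg D t (t * ε * t * ε) a := ⟨ht, hf5.1, ha, e4 ▸ ri_four_mul h.ri ht hv,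
    e4 ▸ f2.comm_left st (ri_sq h.ri hv), four_E h.ri hf hf5 ha h4, ot⟩
  generalize t * ε * t * ε = f5 at hf5 tε k5
  have g2 := (o3 h.ri k5 (by rw [orderOf_mul_swap]; exact h3)).2
  have hd := tee_E h.toRIC ha hf h4 hf5
  have hρ := mul_mem (in_Z hd) hε
  have hρ' := kzero h.toRIC hz ht f1 hρ (commute_of_cm g2 tε st (ri_sq h.ri hf5.1)
    (k5.four.comm_right sa (ri_sq h.ri hf5.1)))
  rw [e3] at hρ'
  have m1 := (h.rr ha hf h4 hρ hρ').2 _ hd
  rw [sqc (ri_sq h.ri hd.1)] at m1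
  obtain ⟨a', ha', f6, e6⟩ := pre_E h.toRIC hf ha h4.symm (h4.swap sa sf ▸ mem_of_Z h.toRIC hz m1 hε) hv
  have sa' := ri_sq h.ri ha'.1
  have hρ1 := mul_mem (in_Z ha') hw
  have := (h.rr hf ha h4.symm (kzero h.toRIC ha hf h4.symm hρ1 (commute_of_cm (x := ε)
    (by rw [← e6]; simp only [mul_assoc, sa', mul_one]) (by rw [dε]; simp only [mul_assoc, sw, mul_one]) sf sε
    (e6 ▸ (f6.comm_right sf sa').symm))) hρ1).1 _ ha'
  rwa [sqc sa'] at this

end HZ

end H66.RIT
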