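/- Root involutions: `E_d ∪ 1` is a group when `O₂(G) = Z(G) = 1`. -/
import Cfsg.Agent.H66.RIT2
import Cfsg.Agent.H70.RI4

set_option autoImplicit false

namespace H66.RIT
open Cfsg H70 H66.RST
open H66.RI (commute_E conj_mem_E sq_of_mem_E)

universe u

variable {G : Type*} [Group G] [Finite G] {D : Set G} {a b c d e f g m n p s t u v w x y z : G}

theorem not_opp_mid (h : RIC D) (k : Cfg D f t x) : ¬ IOpp (mid f x) t := by
  have sf := ri_sq h.ri k.ha; have st := ri_sq h.ri k.hb; have sx := ri_sq h.ri k.hx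
  have k' := k.step h.ri
  have c := k.four.comm_right sx st
  have hE := tee h k.hb k.ha k.comm.symm (k.comm.eq ▸ k.hab)
    (col_W h.ri k.hb k'.hb c (c.eq ▸ four_mul_right h.ri k.hx k.hb)) k'.four
  obtain ⟨ε, hε, η, hη, e⟩ := conj_mem_of_closure (T := {f, x})
    (U := {g | ∃ ε ∈ EE D t, ∃ η ∈ EE D (x * t * x * t), g = ε * η}) (by rintro _ (rfl | rfl) <;> assumption) (by
      rintro s (rfl | rfl) _ ⟨ε, hε, η, hη, rfl⟩
      · refine ⟨_, mul_mem hε (EE_of_E hE ▸ bil h k.ha k'.hb k'.four hη), η, hη, ?_⟩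
        rw [cj_mul sf, conj_eq_of_commute' (Z_comm hε k.ha k.comm.symm).symm sf]
        simp only [mul_assoc, sq_of_mem_E h.ri k'.hb hη, mul_one]
      · have b := bil h k.hx k.hb k.four hε
        refine ⟨ε, hε, _, mul_mem b hη, ?_⟩
        rw [cj_mul sx, conj_eq_of_commute' (Z_comm hη k.hx k'.comm.symm).symm sx, ← mul_assoc ε,
          (commute_E k.hb c hε b).eq]
        simp only [mul_assoc, sqc (sq_of_mem_E h.ri k.hb hε)])
    (mid f x) (mid_mem (Subgroup.subset_closure (.inl rfl)) (Subgroup.subset_closure (.inr rfl)))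
    t ⟨t, in_Z (self_E k.hb), 1, one_mem _, (mul_one t).symm⟩
  have ss := mid_sq sf sx
  rw [inv_of_sq ss] at e
  have c1 : Commute (mid f x * t * mid f x) t :=
    e ▸ (Z_comm hε k.hb (Commute.refl t)).mul_left (Z_comm hη k.hb c.symm)
  intro o
  refine o.pow_ne ss 2 ?_
  simpa only [show 2 ^ 2 = 4 from rfl, pow_succ, pow_zero, one_mul, mul_assoc] using
    sq_mul_of_commute (H66.RI.conj_sq st ss) st c1

namespace HZ
variable (h : HZ D)
include h

theorem m4 (hd : d ∈ D) (hw : w ∈ EE D d) (ht : t ∈ D) : ¬ Four t (w * t * w) := fun f => by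
  have sw := sq_of_mem_E h.ri hd hw; have st := ri_sq h.ri ht
  have ht' := ri_conj' h.ri ht sw
  have st' := ri_sq h.ri ht'
  have nc := f.not_commute st st'
  have o : IOpp t d := by_contra fun o => nc (comm_conj h.toRIC hd hw ht o)
  have hμ := ri_four_mem h.ri ht ht' f
  have c1 := f.comm_left st st'
  have c2 : Commute w (t * (w * t * w) * t * (w * t * w)) := commute_of_conj' sw (by
    rw [cj_mul sw, cj_mul sw, cj_mul sw, conj_conj_of_sq sw, f.swap st st'])
  have m1 := four_mul_left h.ri ht ht'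
  generalize t * (w * t * w) * t * (w * t * w) = μ at hμ c1 c2 m1
  have f1 : Four μ d := ri_four_of h.ri hμ hd (fun c => ri_not_commute_of_opp h.ri hμ ht m1 c1.symm hd o.symm c.symm)
    fun o' => nc (by rw [h.zl hw hd hμ o'.symm c2, one_mul, mul_one])
  exact nc (comm_conj h.toRIC (ri_four_mem h.ri hμ hd f1) (kzero h.toRIC hd hμ f1 hw c2) ht
    (not_opp h.ri hμ (ri_four_mem h.ri hμ hd f1) (ri_four_mul h.ri hμ hd)
      (f1.comm_left (ri_sq h.ri hμ) (ri_sq h.ri hd)) ht c1.symm))

theorem prop (hd : d ∈ D) (hw : w ∈ EE D d) (hy : y ∈ D) (k : w * y * w ∈ EC D y) (ht : t ∈ D)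
    (c : Commute y t) (hyt : y * t ∈ D) : Commute t (w * t * w) := by
  have sw := sq_of_mem_E h.ri hd hw
  have ht' := ri_conj' h.ri ht sw
  refine by_contra fun nc => h.m4 hd hw ht (ri_four_of h.ri ht ht' nc fun o => ?_)
  exact not_opp h.ri hy ht hyt c ht' ((E_comm k ht').2 (commute_conj' c sw)) o.symm

variable (hn : w ∉ D)
include hn

theorem fix_near (hd : d ∈ D) (hw : w ∈ EE D d) (hy : y ∈ D) (o : ¬ IOpp y d) : w * y * w ∈ EC D y := by
  have sw := sq_of_mem_E h.ri hd hw
  by_cases c : Commute y d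
  · rw [conj_eq_of_commute' (Z_comm hw hy c.symm) sw]; exact self_E hy
  have k : y * w * y * w ∈ EE D y := by_contra fun k =>
    hn (h.mem_of_move hd hy (ri_four_of h.ri hy hd c o).symm hw k)
  refine mem_of_Z h.toRIC hy (ri_conj' h.ri hy sw) ?_
  simpa only [mul_assoc, sqc (ri_sq h.ri hy)] using mul_mem (in_Z (self_E hy)) k

theorem fix_good (ha : a ∈ D) (hw : w ∈ EE D a) (ht : t ∈ D) (o : IOpp t a) (hf : f ∈ D) (c : Commute t f)
    (htf : t * f ∈ D) (h4 : Four f a) : w * t * w ∈ EC D t := by
  have sw := sq_of_mem_E h.ri ha hw; have st := ri_sq h.ri ht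
  have ht' := ri_conj' h.ri ht sw
  have c1 := h.prop ha hw hf (h.fix_near hn ha hw hf fun o => o.not_four h4) ht c.symm (c.eq ▸ htf)
  have k := Cfg.step h.ri (a := t) (b := f) (x := a) ⟨ht, hf, ha, htf, c, h4.symm, o.symm⟩
  obtain ⟨a', ha', h3, -⟩ := part h.toRIC ha ht o.symm k.hb k.comm k.hab k.four.symm
  have hz := k.hb
  have f1 := k.four
  generalize a * f * a * f = z at hz f1
  have sz := ri_sq h.ri hz
  have sa := ri_sq h.ri ha'.1
  have o' := opp_E h.ri ha' ha ht o.symm
  rw [← EE_of_E ha'] at hw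
  have ca := Z_comm hw ha'.1 (Commute.refl _)
  have br := braid sa st h3
  have sn : a' * t * a' * (a' * t * a') = 1 := ri_sq h.ri (ri_conj' h.ri ht sa)
  have hw' := conj_E' h.ri hw sn
  have n1 : a' * t * a' * a' * (a' * t * a') = t := by
    nth_rewrite 2 [← br]; simp only [mul_assoc, sqc sa, sqc st]
  rw [n1] at hw'
  have nw : a' * t * a' * w * (a' * t * a') ∉ D := fun k => hn (by
    have := ri_conj' h.ri k sn
    rwa [conj_conj_of_sq sn] at this)
  have e1 : a' * (t * w * t) * a' = a' * t * a' * w * (a' * t * a') := by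
    simp only [mul_assoc]; rw [ca.left_comm, sqc sa]
  have c2 : Commute w (t * w * t) := by
    have := sq_mul_of_commute st (ri_sq h.ri ht') c1
    refine (commute_of_sq_mul (H66.RI.conj_sq sw st) sw ?_).symm
    simpa only [mul_assoc] using this
  have c3 : Commute (a' * t * a' * w * (a' * t * a')) (t * w * t) := by
    have := commute_conj' (commute_conj' c2 st) sa
    rw [conj_conj_of_sq st, conj_eq_of_commute' ca.symm sa] at this
    have := commute_conj' this st
    rw [e1, conj_eq_of_commute' (Z_comm hw' ht (Commute.refl t)).symm st] at this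
    exact this
  generalize a' * t * a' * w * (a' * t * a') = w' at hw' nw e1 c3
  have hu := mul_mem (in_Z (self_E ht)) hw'
  have hu' : t * w' ∈ D := h.mem_of_move ht hz f1 hu fun k => by
    have k1 : z * w' * z * w' ∈ EE D z := by_contra fun k => nw (h.mem_of_move ht hz f1 hw' k)
    rw [cm_mul h.toRIC hz ht f1.symm (in_Z (self_E ht)) hw'] at k
    have k2 := mem_of_Z h.toRIC hz (ri_four_mem h.ri hz ht f1.symm) ((mul_mem_cancel_right k1).1 k)
    exact f1.not_commute st sz ((E_comm k2 ht).2 (f1.symm.comm_right sz st).symm).symm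
  have c4 := Z_comm hu ht' c1
  have ct := Z_comm hw' ht (Commute.refl t)
  have e2 : t * w' * (w * t * w) = w' * (t * w * t) * w := by rw [← ct.eq]; simp only [mul_assoc]
  have := ri_even h.ri ht' ha'.1 (z := t * w' * (w * t * w))
    (by simpa only [conj_eq_of_commute' ca sw] using o'.symm.conj' sw)
    (sq_mul_of_commute (ri_sq h.ri hu') (ri_sq h.ri ht') c4) (c4.mul_left (Commute.refl _))
    (commute_of_conj' sa (by
      rw [e2, cj_mul sa, cj_mul sa, e1, ← e1, conj_conj_of_sq sa, e1, conj_eq_of_commute' ca.symm sa, c3.eq])).symm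
    (by rwa [mul_assoc, ri_sq h.ri ht', mul_one])
  rw [← H66.RI.eq_of_mul_eq_one (ri_sq h.ri hu') this]
  exact mem_of_Z h.toRIC ht hu' hu

theorem fix_comm (ha : a ∈ D) (hw : w ∈ EE D a) (w1 : w ≠ 1) (ht : t ∈ D) (c : Commute t (w * t * w)) :
    w * t * w ∈ EC D t := by
  by_contra hE
  have sw := sq_of_mem_E h.ri ha hw; have st := ri_sq h.ri ht
  have ht' := ri_conj' h.ri ht sw
  have st' := ri_sq h.ri ht'
  have op : ∀ d ∈ D, w ∈ EE D d → IOpp t d := fun d hd k => by_contra fun o => hE (h.fix_near hn hd k ht o)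
  have near : ∀ s ∈ D, Commute w s → ∃ d ∈ D, w ∈ EE D d ∧ Commute s d := fun s hs cs => by
    rcases ri_tri h.ri hs ha with k | k | k
    · exact ⟨a, ha, hw, k⟩
    · exact absurd (h.zl hw ha hs k.symm cs) w1
    · exact ⟨_, ri_four_mem h.ri hs ha k, kzero h.toRIC ha hs k hw cs, k.comm_left (ri_sq h.ri hs) (ri_sq h.ri ha)⟩
  have A : ∀ f ∈ D, Commute t f → t * f ∈ D → Commute (w * t * w) f := fun f hf cf htf => by
    by_contra nc
    have sf := ri_sq h.ri hf
    have hf' := ri_conj' h.ri hf sw
    have sf' := ri_sq h.ri hf'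
    have f1 := ri_four_of h.ri ht' hf nc (not_opp h.ri ht hf htf cf ht' c)
    have f2 := f1.conj' sw
    rw [conj_conj_of_sq sw] at f2
    have cf' := commute_conj' cf sw
    by_cases o : IOpp f (w * f * w)
    · have hs := ri_mid_mem h.ri hf hf' o
      have ss := ri_sq h.ri hs
      have f3 : Four (mid f (w * f * w)) t := ri_four_of h.ri hs ht (fun k => f2.not_commute st sf' (by
        have := commute_conj' cf ss
        rwa [conj_eq_of_commute' k ss, mid_swap_left sf sf' o.2] at this))
        (not_opp_mid h.toRIC ⟨hf, ht, hf', cf.eq ▸ htf, cf.symm, f2.symm, o.symm⟩)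
      obtain ⟨d, hd, hwd, cd⟩ := near _ hs (H66.RI.commute_mid_conj sw sf o)
      generalize mid f (w * f * w) = s at hs ss f3 cd
      have hp := ri_four_mem h.ri hs ht f3
      have c1 := f3.comm_right ss st
      have m1 := four_mul_right h.ri hs ht
      refine hE (h.fix_good hn hd hwd ht (op d hd hwd) hp c1 (c1.eq ▸ m1) (ri_four_of h.ri hp hd
        (fun k => ri_not_commute_of_opp h.ri hp ht m1 c1.symm hd (op d hd hwd).symm k.symm) fun o => ?_))
      exact not_opp h.ri hs hp (ri_four_mul h.ri hs ht) (f3.comm_left ss st) hd cd o.symm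
    have c1 : Commute f (w * f * w) := by_contra fun k => h.m4 ha hw hf (ri_four_of h.ri hf hf' k o)
    have hμ := ri_four_mem h.ri ht' hf f1
    have a1 := f1.comm_left st' sf
    have a2 := f1.comm_right st' sf
    have a3 : Commute t (w * t * w * f * (w * t * w) * f) := ((c.mul_right cf).mul_right c).mul_right cf
    have a4 : Commute (w * f * w) (w * t * w * f * (w * t * w) * f) :=
      ((cf'.symm.mul_right c1.symm).mul_right cf'.symm).mul_right c1.symm
    have b1 := f2.comm_left st sf'
    have b2 : Commute f (t * (w * f * w) * t * (w * f * w)) := ((cf.symm.mul_right c1).mul_right cf.symm).mul_right c1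
    have b3 : Commute (w * t * w) (t * (w * f * w) * t * (w * f * w)) :=
      ((c.symm.mul_right cf').mul_right c.symm).mul_right cf'
    have b4 : Commute (t * (w * f * w) * t * (w * f * w)) (w * t * w * f * (w * t * w) * f) :=
      ((a3.mul_left a4).mul_left a3).mul_left a4
    have e1 : w * (w * t * w * f * (w * t * w) * f) * w = t * (w * f * w) * t * (w * f * w) := by
      rw [cj_mul sw, cj_mul sw, cj_mul sw, conj_conj_of_sq sw]
    have e2 : w * f * w * t * (w * f * w) = t * (t * (w * f * w) * t * (w * f * w)) := four_conj_eq st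
    have e3 : w * t * w * f * (w * t * w) = w * t * w * f * (w * t * w) * f * f := by
      simp only [mul_assoc _ f f, sf, mul_one]
    have m1 := four_mul_left h.ri ht' hf
    have p1 := f1.pow_four; have p2 := f2.pow_four
    have hg := h.m4 ha hw htf
    rw [cj_mul sw] at hg
    have cw : Commute w (w * t * w * f * (w * t * w) * f) := by
      refine commute_of_conj' sw ?_
      rw [e1]
      by_contra ne
      generalize w * t * w = t' at *
      generalize w * f * w = f' at *
      generalize t' * f * t' * f = μ at *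
      generalize t * f' * t * f' = μ' at *
      have e4 : t * f * (t' * f') * (t * f) * (t' * f') = μ' * μ := by
        calc _ = t * f * (t' * (f' * t * f') * (f' * f * f') * (f' * t' * f')) := by simp only [mul_assoc, sqc sf']
          _ = t * f * ((t' * t * t') * (t' * μ' * t') * (t' * f * t')) := by
            rw [e2, conj_eq_of_commute' c1.symm sf', conj_eq_of_commute' cf'.symm sf']
            simp only [mul_assoc, sqc st']
          _ = _ := by
            rw [e3, conj_eq_of_commute' c.symm st', conj_eq_of_commute' b3 st', ← a2.eq]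
            simp only [mul_assoc]
            rw [cf.symm.left_comm, sqc st, b2.left_comm, sqc sf]
      have sg := ri_sq h.ri htf
      have sg' := sq_mul_of_commute st' sf' cf'
      refine hg (four_of_pow sg sg' (fun k => ne ?_) (by rw [e4]; exact sq_mul_of_commute p2 p1 b4))
      rw [mul_assoc, sq_mul_of_commute sg sg' k] at e4
      exact H66.RI.eq_of_mul_eq_one p2 e4.symm
    obtain ⟨d, hd, hwd, cd⟩ := near _ hμ cw
    have od := (op d hd hwd).conj' sw
    rw [conj_eq_of_commute' (Z_comm hwd hd (Commute.refl d)) sw] at od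
    exact ri_not_commute_of_opp h.ri hμ ht' m1 a1.symm hd od.symm cd.symm
  have tW : t ∈ W D (w * t * w) := ⟨ht, c.symm, fun y hy cy o =>
    ri_ne_one h.ri ht' (h.cen t ht y hy o _ A cy)⟩
  obtain ⟨g, hg, og, fg⟩ := exists_opp_four h.toRIC ht' tW fun k => hE (E_symm ht' k)
  obtain ⟨hm, c1, m1, f2⟩ := four_comm h.ri ht' tW hg og fg
  generalize g * (w * t * w) * g * (w * t * w) = m at hm c1 m1 f2
  have sm := ri_sq h.ri hm
  have k := tee h.toRIC ht' hm c1 m1 tW f2
  obtain ⟨f, hf, f3, e⟩ := h.exists_four k.1 ht (four_mul_right h.ri hm ht) (f2.comm_right sm st).symm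
    fun k' => f2.not_commute sm st (k' m hm (f2.comm_left sm st).symm).symm
  have sk := ri_sq h.ri k.1; have sf := ri_sq h.ri hf
  exact f3.not_commute sk sf ((E_comm k hf).1 (A f hf (e ▸ (f3.comm_right sk sf).symm)
    (e ▸ four_mul_right h.ri k.1 hf)))

end HZ

theorem jobHE : JobHE.{u} := by
  intro G _ _ D h hO hZ
  have hc := h.prod_connected
  have z : HZ D := ⟨h.toRIC, fun d hd x hx o w h1 h2 => Subgroup.mem_bot.1 (hZ ▸ Subgroup.mem_center_iff.2 fun g =>
    Subgroup.mem_centralizer_singleton_iff.1 (h.generation hc hd hx o (H := Subgroup.centralizer {w})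
      (fun b hb c k => Subgroup.mem_centralizer_singleton_iff.2 (h1 b hb c k).symm.eq)
      (Subgroup.mem_centralizer_singleton_iff.2 h2.symm.eq) ▸ Subgroup.mem_top g))⟩
  refine ⟨h.toRIC, fun d hd => Set.Subset.antisymm (fun w hw => ?_) ?_⟩
  · by_contra hn
    have w1 : w ≠ 1 := fun e => hn (.inr e)
    have wD : w ∉ D := fun k => hn (.inl (mem_of_Z h.toRIC hd k hw))
    have key : ∀ y, Relation.ReflTransGen (ProdAdj D) d y → w * y * w ∈ EC D y := fun y p => by
      induction p with
      | refl => exact z.fix_near wD hd hw hd fun o => o.1 rfl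
      | tail _ k ih => exact z.fix_comm wD hd hw w1 k.2.1 (z.prop hd hw k.1 ih k.2.1 k.2.2.2.1 k.2.2.2.2)
    exact w1 (Subgroup.mem_bot.1 (hO ▸ H66.RI.mem_pCore_of_mem_E h.ri hd hw fun y hy =>
      ((E_comm (key y (hc d hd y hy)) hy).1 (Commute.refl y)).symm))
  · rintro w (k | rfl)
    · exact in_Z k
    · exact one_mem _

end H66.RIT
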