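import Cfsg.Agent.H83.SVInd

/-! U42E, slot W1a: an odd element normalising a `2`-group over `U₁ U₂` normalises `A₁`, `A₂`. -/

set_option autoImplicit false
set_option linter.unusedSectionVars false

namespace H66.SVW

open H64.SG (Syl Cz Cs Ns cjs Is2 Inv2 fx mem_Cs mem_Cz mem_fx is2_of_sq isPGroup_iff_is2
  mem_of_sq_mem)
open H67.SA (St cI cm mem_cI mem_St_of_finite)
open H83.SV H98 Subgroup

universe u

variable {F K : Type} [Field F] [Finite F] [_root_.CharP F 2] [Field K] [Algebra F K] [StarRing K]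
  [_root_.CharP K 2] [Qe F K] [Finite K] {G : Type u} [Group G] [Finite G] {e e₁ e₂ : X K →* G}
  {g n t : G} {β β₁ β₂ : MulAut (X K)} {a b : X K} {W Y : Subgroup G}

theorem mem_Z : a ∈ ZX K ↔ a = 1 ∨ a = zX F K := by
  rw [mem_ZX (F := F)]
  refine ⟨fun ⟨c, h⟩ => (F_cases K c).imp (fun k => ?_) fun k => by rw [h, k], ?_⟩
  · rw [h, k]; exact xa_zero
  · rintro (rfl | rfl)
    exacts [⟨0, xa_zero.symm⟩, ⟨1, rfl⟩]

theorem z_ne : zX F K ≠ 1 := fun h => by simpa using xa_eq_one.1 h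

theorem z_mem : zX F K ∈ ZX K := (mem_Z (F := F)).2 (Or.inr rfl)

theorem z_sq : zX F K * zX F K = 1 := xa_sq _

/-- the standing hypotheses -/
structure WS (F : Type) [Field F] [Algebra F K] [Qe F K] (e : X K →* G) (t : G) (e₁ e₂ : X K →* G)
    (W : Subgroup G) : Prop where
  o : FO F K
  n : FN F K
  l : FL F K
  s : FS F K
  c : CW e t e₁ e₂
  w : GW e t e₁ e₂
  two : IsPGroup 2 W
  nor : W ≤ Ns (G12 e₁ e₂)
  le : pr e₁ e₂ (UX K) (UX K) ≤ W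

namespace WS

variable (h : WS F e t e₁ e₂ W)
include h

theorem symm : WS F e t e₂ e₁ W :=
  ⟨h.o, h.n, h.l, h.s, h.c.symm h.w.uf.inv.1, h.w.symm, h.two, by rw [G12_comm]; exact h.nor,
    (pr_comm _ _).le.trans h.le⟩

theorem inf_eq : W ⊓ G12 e₁ e₂ = pr e₁ e₂ (UX K) (UX K) :=
  (H64.SG.syl_iff.1 (h.c.syl h.o.syl)).eq_of_le (h.two.to_le inf_le_left)
    (le_inf h.le (pr_le _ _)) inf_le_right

theorem mem1 (ha : a ∈ UX K) : e₁ a ∈ W := h.le (mem_sup_left ⟨a, ha, rfl⟩)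

theorem mem2 (ha : a ∈ UX K) : e₂ a ∈ W := h.le (mem_sup_right ⟨a, ha, rfl⟩)

theorem of1 (ha : e₁ a ∈ W) : a ∈ UX K := by
  have : e₁ a * e₂ 1 ∈ W ⊓ G12 e₁ e₂ := ⟨by simpa using ha, h.c.mem_G12.2 ⟨a, 1, rfl⟩⟩
  rw [h.inf_eq, h.c.mem_pr' h.o.cen] at this
  exact this.1

theorem stU (hg : g ∈ W) (i : Ind e₁ g β) : β ∈ St (UX K) := mem_St_of_finite fun a ha =>
  h.of1 (i a ▸ mul_mem (mul_mem hg (h.mem1 ha)) (inv_mem hg))

theorem fz (hβ : β ∈ St (UX K)) : β (zX F K) = zX F K :=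
  ((mem_Z (F := F)).1 (((h.n.nu β hβ).2.2 _).1 z_mem)).resolve_left fun k =>
    z_ne (F := F) (K := K) (by simpa using k)

theorem eq_one (hg : g ∈ W) (h1 : g ∈ Cs e₁.range) (h2 : g ∈ Cs e₂.range) : g = 1 :=
  (isPGroup_iff_is2.1 h.two g hg).eq_one (H64.SG.odd_orderOf_of_mem h.w.odd (mem_Cs_G12.2 ⟨h1, h2⟩))

theorem mem_pr {A B : Subgroup (X K)} (hA : A ≤ UX K) (hB : B ≤ UX K) (hg : g ∈ W) (i1 : Ind e₁ g β₁)
    (i2 : Ind e₂ g β₂) (b1 : β₁ ∈ cI A) (b2 : β₂ ∈ cI B) : g ∈ pr e₁ e₂ A B := by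
  obtain ⟨a, ha, rfl⟩ := mem_cI.1 b1
  obtain ⟨b, hb, rfl⟩ := mem_cI.1 b2
  exact h.c.mem_pr.2 ⟨a, ha, b, hb, mul_inv_eq_one.1 (h.eq_one
    (mul_mem hg (inv_mem (h.le (h.c.mem_pr.2 ⟨a, hA ha, b, hB hb, rfl⟩))))
    (ind_one_iff.1 (by simpa using i1.mul (h.c.ind₁ a b).inv))
    (ind_one_iff.1 (by simpa using i2.mul (h.c.ind₂ a b).inv)))⟩

theorem e12 (k : e₁ a = e₂ b) : a = 1 :=
  (h.c.inj2 h.o.cen (b := 1) (c := 1) (d := b) (by simpa using k)).1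

/-- The two kinds of elements of `W`. -/
theorem kinds (hg : g ∈ W) : (∃ β₁ β₂, β₁ ∈ St (UX K) ∧ β₂ ∈ St (UX K) ∧ Ind e₁ g β₁ ∧ Ind e₂ g β₂) ∨
    ∃ β₁ β₂, β₁ ∈ St (UX K) ∧ β₂ ∈ St (UX K) ∧ (∀ s, g * e₁ s * g⁻¹ = e₂ (β₁ s)) ∧
      ∀ s, g * e₂ s * g⁻¹ = e₁ (β₂ s) := by
  refine (h.w.pm g (h.nor hg)).imp (fun k => ?_) fun k => ?_
  · obtain ⟨β₁, i1⟩ := exists_ind h.c.inj k.1
    obtain ⟨β₂, i2⟩ := exists_ind h.c.inj₂ k.2
    exact ⟨β₁, β₂, h.stU hg i1, h.symm.stU hg i2, i1, i2⟩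
  have key : ∀ {e₁ e₂ : X K →* G}, WS F e t e₁ e₂ W → cjs g e₁.range = e₂.range →
      ∃ β ∈ St (UX K), ∀ s, g * e₁ s * g⁻¹ = e₂ (β s) := fun {e₁ e₂} h k => by
    obtain ⟨β, i⟩ := exists_ind h.c.inj₂ (g := g * t⁻¹) (cj_eq_self_iff.1 (by
      nth_rewrite 1 [← h.c.cjs_range]
      rw [cj_cj, inv_mul_cancel_right]; exact k))
    have i' : ∀ s, g * e₁ s * g⁻¹ = e₂ (β s) := fun s => by rw [← i, ← h.c.sw]; group
    exact ⟨β, mem_St_of_finite fun a ha =>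
      h.symm.of1 (i' a ▸ mul_mem (mul_mem hg (h.mem1 ha)) (inv_mem hg)), i'⟩
  obtain ⟨β₁, a1, a2⟩ := key h k.1
  obtain ⟨β₂, b1, b2⟩ := key h.symm k.2
  exact ⟨β₁, β₂, a1, b1, a2, b2⟩

theorem conj_z (hg : g ∈ W) :
    g * e₁ (zX F K) * g⁻¹ = e₁ (zX F K) ∧ g * e₂ (zX F K) * g⁻¹ = e₂ (zX F K) ∨
    g * e₁ (zX F K) * g⁻¹ = e₂ (zX F K) ∧ g * e₂ (zX F K) * g⁻¹ = e₁ (zX F K) :=
  (h.kinds hg).imp (fun ⟨_, _, a, b, c, d⟩ => ⟨by rw [c, h.fz a], by rw [d, h.fz b]⟩)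
    fun ⟨_, _, a, b, c, d⟩ => ⟨by rw [c, h.fz a], by rw [d, h.fz b]⟩

theorem ind_of (hg : g ∈ W) (k : g ∈ Cz (e₂ (zX F K))) :
    ∃ β₁ β₂, β₁ ∈ St (UX K) ∧ β₂ ∈ St (UX K) ∧ Ind e₁ g β₁ ∧ Ind e₂ g β₂ :=
  (h.kinds hg).resolve_right fun ⟨_, _, _, b, _, d⟩ => z_ne (F := F) (h.e12 (by
    rw [← h.fz b, ← d, ← mem_Cz.1 k, mul_inv_cancel_right]))

/-- (0) -/
theorem zero (hg : g ∈ W) (k : ∀ w ∈ W, cm g w = 1 ∨ cm g w = e₁ (zX F K) * e₂ (zX F K)) :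
    g ∈ pr e₁ e₂ (ZX K) (ZX K) := by
  rcases h.kinds hg with ⟨β₁, β₂, -, -, i1, i2⟩ | ⟨β₁, -, -, -, i1, -⟩
  · refine h.mem_pr ZX_le_UX ZX_le_UX hg i1 i2 (h.n.ctQ _ fun a ha => ?_) (h.n.ctQ _ fun a ha => ?_)
    · have e1 : cm g (e₁ a) = e₁ (β₁ a * a⁻¹) * e₂ 1 := by rw [cm, i1]; simp
      rcases k _ (h.mem1 (QX_le_UX ha)) with r | r <;> rw [e1] at r
      · exact mul_inv_eq_one.1 (h.c.inj (by simpa using r))
      · exact absurd (h.c.inj2 h.o.cen r).2.symm z_ne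
    · have e1 : cm g (e₂ a) = e₁ 1 * e₂ (β₂ a * a⁻¹) := by rw [cm, i2]; simp
      rcases k _ (h.mem2 (QX_le_UX ha)) with r | r <;> rw [e1] at r
      · exact mul_inv_eq_one.1 (h.c.inj₂ (by simpa using r))
      · exact absurd (h.c.inj2 h.o.cen r).1.symm z_ne
  · have e1 : cm g (e₁ (xs 1)) = e₁ (xs 1) * e₂ (β₁ (xs 1)) := by
      rw [cm, i1, ← map_inv, xs_inv, h.c.comm]
    refine absurd (xs_mem_AX.1 (ZX_le_AX ((mem_Z (F := F)).2 ?_))) (one_ne_zero (α := K))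
    exact (k _ (h.mem1 (xs_mem_UX 1))).imp (fun r => (h.c.inj2 h.o.cen (c := 1) (d := 1)
      (by rw [← e1, r]; simp)).1) fun r => (h.c.inj2 h.o.cen (e1.symm.trans r)).1

theorem mem_ZZ : g ∈ pr e₁ e₂ (ZX K) (ZX K) ↔ g = 1 ∨ g = e₁ (zX F K) ∨ g = e₂ (zX F K) ∨
    g = e₁ (zX F K) * e₂ (zX F K) := by
  rw [h.c.mem_pr]
  constructor
  · rintro ⟨a, ha, b, hb, rfl⟩
    rcases (mem_Z (F := F)).1 ha with rfl | rfl <;> rcases (mem_Z (F := F)).1 hb with rfl | rfl <;> simp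
  · rintro (rfl | rfl | rfl | rfl)
    exacts [⟨1, one_mem _, 1, one_mem _, by simp⟩, ⟨_, z_mem (F := F), 1, one_mem _, by simp⟩,
      ⟨1, one_mem _, _, z_mem (F := F), by simp⟩, ⟨_, z_mem (F := F), _, z_mem (F := F), rfl⟩]

theorem z12_ne : e₁ (zX F K) * e₂ (zX F K) ≠ 1 := fun k =>
  z_ne (F := F) (h.c.inj2 h.o.cen (c := 1) (d := 1) (by simpa using k)).1

theorem cen12 (hg : g ∈ W) :
    g * (e₁ (zX F K) * e₂ (zX F K)) * g⁻¹ = e₁ (zX F K) * e₂ (zX F K) := by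
  rw [← conj_mul]
  rcases h.conj_z hg with k | k <;> rw [k.1, k.2]
  exact (h.c.comm _ _).symm

omit h in
theorem cm_conj (n x w : G) : cm (n * x * n⁻¹) w = n * cm x (n⁻¹ * w * n) * n⁻¹ := by
  simp only [cm]; group

/-- A conjugate of a central element of `W` lies in `Z*`. -/
theorem cenZ (hn : n ∈ Ns W) (hg : g ∈ W) (k : ∀ w ∈ W, w * g * w⁻¹ = g) :
    n * g * n⁻¹ ∈ pr e₁ e₂ (ZX K) (ZX K) :=
  h.zero (conj_mem_of_mem_normalizer hn hg) fun w hw => Or.inl (by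
    rw [cm_conj, H67.SA.cm_eq_one.2 (mul_inv_eq_iff_eq_mul.1
      (k _ (conj_mem_of_mem_normalizer' hn hw))).symm]; simp)

/-- (2) -/
theorem two' (hn : n ∈ Ns W) (hW : W ≤ Cz (e₂ (zX F K))) :
    n * (e₁ (zX F K) * e₂ (zX F K)) * n⁻¹ ≠ e₁ (zX F K) := fun k => by
  have hN : W ≤ Ns e₁.range := fun g hg => by
    obtain ⟨_, _, -, -, i, -⟩ := h.ind_of hg (hW hg)
    exact i.mem_Ns
  let ψ := (indH h.c.inj).comp (inclusion hN)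
  have hψ : ∀ g : W, Ind e₁ g (ψ g) := fun g => ind_indH h.c.inj ⟨g, hN g.2⟩
  obtain ⟨-, b, b0, b1⟩ := h.s.fr ψ.range (by rintro _ ⟨g, rfl⟩; exact h.stU g.2 (hψ g))
    (h.two.of_surjective _ ψ.rangeRestrict_surjective)
  have bU : xm b ∈ UX K := by rw [xm_eq (F := F)]; exact xa_mem_UX _
  have y1 := h.zero (g := n⁻¹ * e₁ (xm b) * n⁻¹⁻¹)
    (conj_mem_of_mem_normalizer (inv_mem hn) (h.mem1 bU)) fun w hw => by
      have w1 := conj_mem_of_mem_normalizer hn hw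
      have := b1 _ ⟨⟨_, w1⟩, rfl⟩
      have e1 : cm (e₁ (xm b)) (n * w * n⁻¹) = (e₁ (ψ ⟨_, w1⟩ (xm b) * (xm b)⁻¹))⁻¹ := by
        rw [map_mul, ← hψ, map_inv, cm]; group
      rw [cm_conj, inv_inv, e1]
      rcases (mem_Z (F := F)).1 this with r | r <;> rw [r]
      · simp
      · right
        rw [← map_inv, inv_eq_of_mul_eq_one_right z_sq]
        nth_rewrite 1 [← k]; group
  have y2 : e₁ (xm b) * e₂ 1 ∈ pr e₁ e₂ (ZX K) (ZX K) := by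
    have := h.cenZ hn ((pr_mono ZX_le_UX ZX_le_UX).trans h.le y1) fun w hw => by
      have k2 := mul_inv_eq_iff_eq_mul.2 (mem_Cz.1 (hW hw)).symm
      have k1 : w * e₁ (zX F K) * w⁻¹ = e₁ (zX F K) := ((h.conj_z hw).resolve_right fun r =>
        z_ne (F := F) (h.e12 (r.2.symm.trans k2))).1
      rcases h.mem_ZZ.1 y1 with r | r | r | r <;> rw [r]
      exacts [by simp, k1, k2, h.cen12 hw]
    simpa [mul_assoc] using this
  rw [h.c.mem_pr' h.o.cen, xm_eq (F := F), xa_mem_ZX] at y2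
  exact b0 y2.1.1

theorem fix12 (hn : n ∈ Ns W) :
    n * (e₁ (zX F K) * e₂ (zX F K)) * n⁻¹ = e₁ (zX F K) * e₂ (zX F K) := by
  have zW := mul_mem (h.mem1 (ZX_le_UX (z_mem (F := F)))) (h.mem2 (ZX_le_UX (z_mem (F := F))))
  have k := h.mem_ZZ.1 (h.cenZ hn zW fun w hw => h.cen12 hw)
  have c : ∀ w ∈ W, w * (n * (e₁ (zX F K) * e₂ (zX F K)) * n⁻¹) * w⁻¹ =
      n * (e₁ (zX F K) * e₂ (zX F K)) * n⁻¹ := fun w hw => by
    nth_rewrite 2 [← h.cen12 (conj_mem_of_mem_normalizer' hn hw)]; group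
  rcases k with r | r | r | r
  · exact absurd (conj_eq_one_iff.1 r) h.z12_ne
  · refine absurd r (h.two' hn fun w hw => mem_Cz.2 (mul_inv_eq_iff_eq_mul.1 ?_).symm)
    refine ((h.conj_z hw).resolve_right fun s => z_ne (F := F) (h.e12 (b := zX F K) ?_)).2
    rw [← s.1, ← r, c w hw]
  · refine absurd (h.c.comm _ _ ▸ r) (h.symm.two' hn fun w hw =>
      mem_Cz.2 (mul_inv_eq_iff_eq_mul.1 ?_).symm)
    refine ((h.conj_z hw).resolve_right fun s => z_ne (F := F) (h.e12 (b := zX F K) ?_)).1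
    rw [← s.2, ← r, c w hw]
  · exact r

theorem z1_or (hn : n ∈ Ns W) :
    n * e₁ (zX F K) * n⁻¹ = e₁ (zX F K) ∨ n * e₁ (zX F K) * n⁻¹ = e₂ (zX F K) := by
  have k := h.zero (conj_mem_of_mem_normalizer hn (h.mem1 (ZX_le_UX (z_mem (F := F))))) fun w hw => by
    have i1 : (e₁ (zX F K))⁻¹ = e₁ (zX F K) := by rw [← map_inv, inv_eq_of_mul_eq_one_right z_sq]
    have e1 : ∀ w, cm (e₁ (zX F K)) w = e₁ (zX F K) * (w * e₁ (zX F K) * w⁻¹) := fun w => by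
      rw [cm, i1]; group
    rw [cm_conj, e1]
    rcases h.conj_z (conj_mem_of_mem_normalizer' hn hw) with r | r <;> rw [r.1]
    · left; rw [← map_mul, z_sq]; simp
    · exact Or.inr (h.fix12 hn)
  rcases h.mem_ZZ.1 k with r | r | r | r
  · exact absurd (h.c.inj ((conj_eq_one_iff.1 r).trans (map_one _).symm)) z_ne
  · exact Or.inl r
  · exact Or.inr r
  · rw [← h.fix12 hn] at r
    exact absurd (h.c.inj₂ (by simpa using r : e₂ (zX F K) = e₂ 1)) z_ne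

theorem fix1 (hn : n ∈ Ns W) (ho : Odd (orderOf n)) : n ∈ Cz (e₁ (zX F K)) := by
  refine mem_of_sq_mem (mem_Cz.2 (mul_inv_eq_iff_eq_mul.1 ?_).symm) ho
  have : n * n * e₁ (zX F K) * (n * n)⁻¹ = n * (n * e₁ (zX F K) * n⁻¹) * n⁻¹ := by group
  rw [this]
  rcases h.z1_or hn with r | r <;> rw [r]
  · exact r
  · refine (h.symm.z1_or hn).resolve_left fun s => z_ne (F := F) (h.e12 (b := zX F K) ?_)
    simpa using r.trans s.symm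

end WS

/-- `K₀` -/
abbrev K0 (F : Type) [Field F] [Algebra F K] [Qe F K] (e₂ : X K →* G) (W : Subgroup G) : Subgroup G :=
  W ⊓ Cz (e₂ (zX F K))

/-- `K₁` -/
abbrev K1 (e₂ : X K →* G) (W : Subgroup G) : Subgroup G := W ⊓ Cs ((UX K).map e₂)

namespace WS

variable (h : WS F e t e₁ e₂ W)
include h

omit h in
theorem K1_le : K1 e₂ W ≤ K0 F e₂ W := fun _ hg =>
  ⟨hg.1, mem_Cz.2 (hg.2 _ ⟨_, ZX_le_UX z_mem, rfl⟩)⟩

theorem ind1 (hg : g ∈ K1 e₂ W) : ∃ β₁ β₂, β₁ ∈ St (UX K) ∧ β₂ ∈ cI (ZX K) ∧ Ind e₁ g β₁ ∧ Ind e₂ g β₂ := by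
  obtain ⟨β₁, β₂, a, -, c, d⟩ := h.ind_of hg.1 (K1_le hg).2
  exact ⟨β₁, β₂, a, h.n.ctQ _ fun u hu => d.fix h.c.inj₂ hg.2 u (QX_le_UX hu), c, d⟩

theorem cmK : ⁅K1 e₂ W, K0 F e₂ W⁆ ≤ Cs e₂.range := commutator_le.2 fun x hx k hk => by
  obtain ⟨-, _, -, r, -, i⟩ := h.ind1 hx
  obtain ⟨-, β, -, s, -, j⟩ := h.ind_of hk.1 hk.2
  obtain ⟨ζ, hζ, rfl⟩ := mem_cI.1 r
  have e1 : β ζ = ζ := by
    rcases (mem_Z (F := F)).1 hζ with rfl | rfl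
    exacts [map_one _, h.fz s]
  refine ind_one_iff.1 ?_
  have := i.cm j
  rwa [(H67.SA.cm_eq_one (b := β)).2 (by ext a; simp [e1]), H67.SA.cm_eq] at this

theorem le_K1 (hY : Y ≤ K0 F e₂ W) (k : e₂ (zX F K) ∉ ⁅Y, K0 F e₂ W⁆) : Y ≤ K1 e₂ W := fun x hx => by
  refine ⟨(hY hx).1, ?_⟩
  obtain ⟨-, β, -, s, -, j⟩ := h.ind_of (hY hx).1 (hY hx).2
  by_contra r
  obtain ⟨u, hu, r⟩ : ∃ u ∈ UX K, β u ≠ u := by
    by_contra s
    push Not at s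
    exact r (mem_Cs_map.2 fun u hu => (j.comm (s u hu)).symm)
  have UK : ∀ u ∈ UX K, e₂ u ∈ K0 F e₂ W := fun u hu => ⟨h.mem2 hu, mem_Cz.2 (by
    rw [← map_mul, ← map_mul, UX_le_Cs hu _ z_mem])⟩
  have := inf_centralizer_ne_bot (p := 2) (Q := ⁅Y, K0 F e₂ W⁆.comap e₂ ⊓ UX K) (A := UX K)
    (isP_UX.to_le inf_le_right) isP_UX (le_normalizer_inf (fun u hu => le_normalizer_comap e₂
      (normalizer_commutator_ge_right _ _ (UK u hu))) le_normalizer) fun q => r (by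
      have : β u * u⁻¹ ∈ ⁅Y, K0 F e₂ W⁆.comap e₂ ⊓ UX K := mem_inf.2 ⟨by
        rw [mem_comap, map_mul, ← j, map_inv]
        exact commutator_mem_commutator hx (UK u hu), mul_mem ((s u).1 hu) (inv_mem hu)⟩
      rw [q] at this
      exact mul_inv_eq_one.1 this)
  obtain ⟨y, ⟨⟨y1, y2⟩, y3⟩, y4⟩ := (Subgroup.bot_or_exists_ne_one _).resolve_left this
  have : y ∈ ZX K := h.l.zU ▸ ⟨y2, y3⟩
  exact k (((mem_Z (F := F)).1 this).resolve_left y4 ▸ y1)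

/-- (3) -/
theorem nK1 (hn : n ∈ Ns W) (ho : Odd (orderOf n)) : n ∈ Ns (K1 e₂ W) := by
  have c := mem_Cz.1 (h.symm.fix1 hn ho)
  have n0 : cj n (K0 F e₂ W) = K0 F e₂ W := by
    rw [cj_inf, cj_eq_self hn]
    exact congrArg _ ((H64.SG.cj_Cz _ _).trans (by rw [← c, mul_inv_cancel_right]))
  refine mem_normalizer_of_cj_le (h.le_K1 ((cj_mono n K1_le).trans n0.le) fun k => ?_)
  nth_rewrite 1 [← n0] at k
  rw [← cj_commutator, mem_cj, mul_assoc, c, inv_mul_cancel_left] at k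
  exact z_ne (F := F) (h.c.inj₂ ((eq_one_of_Cs h.c.inj₂ h.o.cen ⟨_, rfl⟩ (h.cmK k)).trans
    (map_one _).symm))

theorem U_le : (UX K).map e₁ ≤ K1 e₂ W := by
  rintro _ ⟨u, hu, rfl⟩
  exact ⟨h.mem1 hu, mem_Cs_map.2 fun s _ => (h.c.comm _ _).symm⟩

/-- (4) -/
theorem nA3 (hn : n ∈ Ns W) (ho : Odd (orderOf n)) : n ∈ Ns ((AX K ⊓ QX K).map e₁) := by
  have hN : K1 e₂ W ≤ Ns e₁.range := fun g hg => by
    obtain ⟨_, _, -, -, i, -⟩ := h.ind1 hg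
    exact i.mem_Ns
  let ψ := (indH h.c.inj).comp (inclusion hN)
  have hψ : ∀ g : K1 e₂ W, Ind e₁ g (ψ g) := fun g => ind_indH h.c.inj ⟨g, hN g.2⟩
  obtain ⟨⟨a, ha⟩, -⟩ := h.s.fr ψ.range (by rintro _ ⟨g, rfl⟩; exact h.stU g.2.1 (hψ g))
    ((h.two.to_le inf_le_left).of_surjective _ ψ.rangeRestrict_surjective)
  have r1 : ⁅K1 e₂ W, K1 e₂ W⁆ ≤ (AX K ⊓ QX K ⊔ zpowers (xs a)).map e₁ := fun r hr => by
    have r2 := commutator_le_self _ hr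
    have r3 : ψ ⟨r, r2⟩ ∈ ⁅ψ.range, ψ.range⁆ := by
      rw [MonoidHom.range_eq_map, ← map_commutator]
      refine mem_map_of_mem _ ?_
      rw [← mem_map_iff_mem (subtype_injective _), map_commutator, ← MonoidHom.range_eq_map,
        range_subtype]
      exact hr
    have := h.mem_pr (B := ⊥) (sup_le (inf_le_left.trans AX_le_UX) (zpowers_le.2 (xs_mem_UX a))) bot_le
      r2.1 (hψ ⟨r, r2⟩) (ind_one_iff.2 (h.cmK (commutator_mono le_rfl K1_le hr))) (ha r3) (one_mem _)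
    rwa [pr, Subgroup.map_bot, sup_bot_eq] at this
  have r4 := le_normalizer_commutator (H := zpowers n) (zpowers_le.2 (h.nK1 hn ho))
    (zpowers_le.2 (h.nK1 hn ho)) (mem_zpowers n)
  have r5 : ∀ x ∈ ⁅K1 e₂ W, K1 e₂ W⁆.comap e₁, ∃ y ∈ ⁅K1 e₂ W, K1 e₂ W⁆.comap e₁,
      e₁ y = n * e₁ x * n⁻¹ := fun x hx => by
    have := conj_mem_of_mem_normalizer r4 hx
    obtain ⟨y, -, hy⟩ := r1 this
    exact ⟨y, by rwa [mem_comap, hy], hy⟩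
  choose! θ t1 t2 using r5
  have r6 : AX K ⊓ QX K ≤ ⁅K1 e₂ W, K1 e₂ W⁆.comap e₁ := by
    rw [← map_le_iff_le_comap, ← h.l.cU, map_commutator]
    exact commutator_mono h.U_le h.U_le
  have r7 := h.s.fr2 a _ θ r6 (fun x hx => (mem_map_iff_mem h.c.inj).1 (r1 hx))
    (((Set.toFinite _).injOn_iff_bijOn_of_mapsTo t1).1 fun x hx y hy k => h.c.inj (by
      have := (t2 x hx).symm.trans (k ▸ t2 y hy)
      rwa [mul_left_inj, mul_right_inj] at this))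
    fun x hx y hy => h.c.inj (by rw [map_mul, t2 _ (mul_mem hx hy), t2 x hx, t2 y hy, map_mul, conj_mul])
  refine mem_of_sq_mem (mem_normalizer_of_cj_le ?_) ho
  rintro _ ⟨_, ⟨x, hx, rfl⟩, rfl⟩
  refine ⟨_, r7 x hx, ?_⟩
  rw [t2 _ (t1 x (r6 hx)), t2 x (r6 hx)]
  simp [mul_assoc]

/-- (5) -/
theorem nA (hn : n ∈ Ns W) (ho : Odd (orderOf n)) : n ∈ Ns ((AX K).map e₁) := by
  have n3 := h.nA3 hn ho
  have c := mem_Cz.1 (h.symm.fix1 hn ho)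
  have nB := le_normalizer_inf (H := zpowers n) (zpowers_le.2 (h.nK1 hn ho))
    (zpowers_le.2 (normalizer_le_normalizer_centralizer _ n3)) (mem_zpowers n)
  have A3 : ∀ v : VA F K, v.2.2 = 0 → xa v ∈ AX K ⊓ QX K := fun v k => ⟨xa_mem_AX v, xa_mem_QX.2 k⟩
  refine mem_of_sq_mem (mem_normalizer_of_cj_le ?_) ho
  rintro _ ⟨_, ⟨a, ha, rfl⟩, rfl⟩
  change n * n * e₁ a * (n * n)⁻¹ ∈ _
  rw [show n * n * e₁ a * (n * n)⁻¹ = n * (n * e₁ a * n⁻¹) * n⁻¹ by group]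
  by_cases a3 : a ∈ AX K ⊓ QX K
  · exact map_mono inf_le_left (conj_mem_of_mem_normalizer n3
      (conj_mem_of_mem_normalizer n3 ⟨a, a3, rfl⟩))
  have b1 := conj_mem_of_mem_normalizer nB (x := e₁ a) ⟨h.U_le ⟨a, AX_le_UX ha, rfl⟩,
    map_mem_Cs fun b hb => AX_le_Cs ha b hb.1⟩
  obtain ⟨β₁, β₂, -, s, i, j⟩ := h.ind1 b1.1
  obtain ⟨a', a1, ζ, hζ, a2⟩ := h.c.mem_pr.1 (h.mem_pr AX_le_UX ZX_le_UX b1.1.1 i j
    (h.n.ctA3 _ (i.fix h.c.inj b1.2)) s)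
  have z1 : n * e₂ ζ * n⁻¹ = e₂ ζ := by
    rcases (mem_Z (F := F)).1 hζ with rfl | rfl
    · simp
    · rw [← c, mul_inv_cancel_right]
  have z2 : e₂ ζ * e₂ ζ = 1 := by rw [← map_mul, sq_AX (ZX_le_AX hζ), map_one]
  have a4 : a' ∉ AX K ⊓ QX K := fun k => by
    obtain ⟨d, hd, k⟩ := conj_mem_of_mem_normalizer' n3 ⟨a', k, rfl⟩
    have : e₁ a * e₂ 1 = e₁ d * e₂ ζ := by
      rw [k, map_one, mul_one]
      calc _ = n⁻¹ * (n * e₁ a * n⁻¹) * n := by group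
        _ = _ := by rw [a2]; nth_rewrite 1 [← z1]; group
    exact a3 ((h.c.inj2 h.o.cen this).1 ▸ hd)
  obtain ⟨v, rfl⟩ := (mem_AX (F := F)).1 ha
  obtain ⟨v', rfl⟩ := (mem_AX (F := F)).1 a1
  obtain ⟨d, hd, k⟩ := conj_mem_of_mem_normalizer n3 ⟨_, A3 (v + v') (by
    rw [Prod.snd_add, Prod.snd_add, (F_cases K _).resolve_left fun k => a3 (A3 v k),
      (F_cases K _).resolve_left fun k => a4 (A3 v' k)]
    exact k2 _), rfl⟩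
  refine ⟨xa v' * d, mul_mem a1 hd.1, ?_⟩
  have e1 : e₁ (xa v') = e₁ (xa v) * e₁ (xa (v + v')) := by
    rw [← map_mul, ← xa_add, ← add_assoc, va2, zero_add]
  rw [a2, ← conj_mul, z1, congrArg (n * · * n⁻¹) e1, ← conj_mul, a2, ← k, map_mul, mul_assoc, mul_assoc, h.c.comm d, ← mul_assoc (e₂ ζ), z2, one_mul]

end WS

theorem jobW1a : JobW1a.{u} := by
  intro F K _ _ _ _ _ _ _ _ _ a G _ _ e t e₁ e₂ _ _ c w W h1 h2 h3 n hn ho
  have h : WS F e t e₁ e₂ W := ⟨a.o, a.n, a.l, a.s, c, w, h1, h2, h3⟩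
  exact ⟨h.nA hn ho, h.symm.nA hn ho⟩

end H66.SVW
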