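import Cfsg.Agent.H66.CCChar
import Cfsg.Agent.H66.SzBin

/-! The principal series and the Steinberg character of the Suzuki groups. -/

set_option autoImplicit false

open Cfsg H28
open scoped ComplexConjugate

namespace H66

theorem card_dvd_degree_of_vanish {A : Type*} [Group A] [Finite A] {χ : A → ℂ}
    (hχ : IsCharacter A χ) (h : ∀ a, a ≠ 1 → χ a = 0) : Nat.card A ∣ charDegree χ := by
  have := Fintype.ofFinite A
  obtain ⟨n, hn⟩ := hχ.classInner_nat isCharacter_one
  have h1 := card_mul_classInner χ fun _ => 1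
  rw [hn, Finset.sum_eq_single 1 (fun a _ ha => by simp [h a ha]) (by simp),
    (hχ.charDegree_eq_iff).mp rfl] at h1
  exact ⟨n, by exact_mod_cast (by simpa using h1.symm : (charDegree χ : ℂ) = Nat.card A * n)⟩

theorem classInner_eq_zero_of_support {A : Type*} [Group A] [Fintype A] {φ ψ : A → ℂ}
    (h1 : φ 1 = 0) (h : ∀ a, a ≠ 1 → ψ a = 0) : classInner φ ψ = 0 := by
  rw [classInner_def, Finset.sum_eq_zero, mul_zero]
  intro a _
  by_cases ha : a = 1
  · simp [ha, h1]
  · simp [h a ha]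

namespace Model

variable {F : Type*} [Field F] {T : Tits F} {G : Type*} [Group G] (M : Model T G) {m : ℕ}

/-- The elements of the Borel subgroup. -/
noncomputable def uh (p : F × F) (k : Fˣ) : M.B := ⟨M.u p.1 p.2 * M.h k, M.mem_B'.mpr ⟨_, _, _, rfl⟩⟩

theorem uh_bij : Function.Bijective fun x : Fˣ × (F × F) => M.uh x.2 x.1 := by
  refine ⟨fun x y h => ?_, fun g => ?_⟩
  · obtain ⟨h1, h2, h3⟩ := M.uh_inj (congrArg Subtype.val h)
    exact Prod.ext h3 (Prod.ext h1 h2)
  · obtain ⟨a, b, k, h⟩ := M.mem_B'.mp g.2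
    exact ⟨(k, (a, b)), Subtype.ext h.symm⟩

theorem exists_pB : ∃ p : M.B →* Fˣ, ∀ x k, p (M.uh x k) = k := by
  let e := Equiv.ofBijective _ M.uh_bij
  have he : ∀ x k, (e.symm (M.uh x k)).1 = k := fun x k =>
    congrArg Prod.fst (e.symm_apply_apply (k, x))
  refine ⟨MonoidHom.mk' (fun g => (e.symm g).1) fun g g' => ?_, he⟩
  obtain ⟨⟨k, x⟩, rfl⟩ := M.uh_bij.2 g
  obtain ⟨⟨l, y⟩, rfl⟩ := M.uh_bij.2 g'
  have : M.uh x k * M.uh y l = M.uh (_, _) (k * l) := Subtype.ext (M.uh_mul_uh ..)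
  simp only [this, he]

/-- The projection of the Borel subgroup on the split torus. -/
noncomputable def pB : M.B →* Fˣ := M.exists_pB.choose

theorem pB_uh (x : F × F) (k : Fˣ) : M.pB (M.uh x k) = k := M.exists_pB.choose_spec x k

/-- Coset representatives of the Borel subgroup. -/
noncomputable def rep : M.Pt → G
  | none => 1
  | some p => M.u p.1 p.2 * M.w

theorem rep_inf : M.rep M.inf = 1 := rfl

theorem rep_zero : M.rep (M.pt 0 0) = M.w := by
  change M.u 0 0 * M.w = _
  simp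

theorem rep_smul (p : M.Pt) : M.rep p • M.inf = p := by
  rcases M.pt_cases p with rfl | ⟨x, y, rfl⟩
  · simp [rep_inf]
  · change (M.u x y * M.w) • _ = _
    simp [mul_smul]

theorem rep_bij : Function.Bijective fun x : M.Pt × M.B => M.rep x.1 * x.2 := by
  have key : ∀ (p : M.Pt) (b : M.B), (M.rep p * b) • M.inf = p := fun p b => by
    rw [mul_smul, M.mem_B.mp b.2, rep_smul]
  refine ⟨fun x y h => ?_, fun g => ⟨(g • M.inf, ⟨(M.rep (g • M.inf))⁻¹ * g, ?_⟩), by simp⟩⟩
  · have h1 : x.1 = y.1 := by rw [← key x.1 x.2, ← key y.1 y.2]; exact congrArg (· • M.inf) h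
    simp only [h1, mul_right_inj] at h
    exact Prod.ext h1 (Subtype.ext h)
  · rw [mem_B, mul_smul, inv_smul_eq_iff, rep_smul]

variable [Fintype G]

/-- The principal series. -/
noncomputable def ps (l : Fˣ →* ℂˣ) : G → ℂ := indFun M.B fun g => l (M.pB g)

theorem isCharacter_ps (l : Fˣ →* ℂˣ) : IsCharacter G (M.ps l) :=
  (isCharacter_of_hom (l.comp M.pB)).indFun

theorem ps_apply [Fintype M.Pt] (l : Fˣ →* ℂˣ) (g : G) : M.ps l g =
    ∑ p, extendByZero M.B (fun g => (l (M.pB g) : ℂ)) ((M.rep p)⁻¹ * g * M.rep p) :=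
  H33.indFun_eq_sum_transversal _ _ M.rep_bij
    (isCharacter_of_hom (l.comp M.pB)).isClassFunction g

omit [Fintype G] in
theorem ext_eq_zero (θ : M.B → ℂ) {g : G} {p : M.Pt} (h : g • p ≠ p) :
    extendByZero M.B θ ((M.rep p)⁻¹ * g * M.rep p) = 0 :=
  H33.ext0_of_not_mem _ _ fun e => h (by
    rwa [mem_B, mul_smul, mul_smul, inv_smul_eq_iff, rep_smul] at e)

theorem ps_one [Finite F] (l : Fˣ →* ℂˣ) : M.ps l 1 = (Nat.card F ^ 2 + 1 : ℕ) := by
  simp [ps, H33.indFun_apply_one, M.index_B]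

theorem ps_u [Finite F] (l : Fˣ →* ℂˣ) {g : G} (hg : g ∈ M.Q) (h1 : g ≠ 1) : M.ps l g = 1 := by
  have := Fintype.ofFinite M.Pt
  rw [ps_apply, Finset.sum_eq_single M.inf
    (fun p _ hp => M.ext_eq_zero _ fun e => hp (M.eq_inf_of_fix hg h1 e)) (by simp)]
  obtain ⟨a, b, rfl⟩ := M.mem_Q.mp hg
  have : (M.rep M.inf)⁻¹ * M.u a b * M.rep M.inf = M.uh (a, b) 1 := by simp [rep_inf, uh]
  rw [this, H33.ext0_coe, pB_uh]
  simp

theorem ps_h [Finite F] (l : Fˣ →* ℂˣ) {k : Fˣ} (h1 : k ≠ 1) :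
    M.ps l (M.h k) = l k + l k⁻¹ := by
  have := Fintype.ofFinite M.Pt
  rw [ps_apply, Finset.sum_eq_add M.inf (M.pt 0 0) (M.inf_ne_pt 0 0)
    (fun p _ hp => M.ext_eq_zero _ fun e => by
      rcases M.fix_of_mem_H (M.h_mem_H k) (by rwa [Ne, M.h_eq_one]) e with h | h
      exacts [hp.1 h, hp.2 h]) (by simp) (by simp)]
  have e1 : (M.rep M.inf)⁻¹ * M.h k * M.rep M.inf = M.uh (0, 0) k := by simp [rep_inf, uh]
  have e2 : (M.rep (M.pt 0 0))⁻¹ * M.h k * M.rep (M.pt 0 0) = M.uh (0, 0) k⁻¹ := by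
    rw [rep_zero, w_inv, w_h_w]
    simp [uh]
  rw [e1, e2, H33.ext0_coe, H33.ext0_coe, pB_uh, pB_uh]

theorem ps_eq_zero (hT : T.IsFin m) (l : Fˣ →* ℂˣ) {g : G} (h1 : g ≠ 1)
    (h : g ^ (Nat.card F ^ 2 + 1) = 1) : M.ps l g = 0 := by
  refine H33.indFun_eq_zero_of _ _ _ fun y c => absurd (eq_one_of_pow_coprime (a := Nat.card M.B)
    ?_ ?_ h) h1
  · rw [M.card_B]
    exact Nat.Coprime.mul_left (by simp) hT.coprime_sub_one
  · obtain ⟨x, e⟩ := isConj_iff.mp c.symm
    rw [← e, conj_pow, show (y : G) ^ Nat.card M.B = 1 from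
      congrArg Subtype.val (pow_card_eq_one' (x := y))]
    simp

variable [Fintype F] [Fintype Fˣ]

/-- The average of a function over the cosets of the Sylow subgroup in the Borel subgroup. -/
noncomputable def avg (χ : G → ℂ) (k : Fˣ) : ℂ :=
  ((Nat.card F : ℂ) ^ 2)⁻¹ * ∑ x : F × F, χ (M.uh x k)

theorem classInner_ps {χ : G → ℂ} (hχ : IsClassFunction G χ) (l : Fˣ →* ℂˣ) :
    classInner χ (M.ps l) = classInner (M.avg χ) fun k => l k := by
  classical
  rw [ps, H33.classInner_indFun_right _ _ hχ, classInner_def, classInner_def,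
    ← M.uh_bij.sum_comp, Fintype.sum_prod_type, M.card_B, ← Nat.card_units]
  simp only [pB_uh, avg, mul_assoc, Finset.sum_mul, ← Finset.mul_sum]
  push_cast
  rw [mul_inv]
  ring

omit [Fintype G] [Fintype Fˣ] in
theorem avg_of_ne {χ : G → ℂ} (hχ : IsClassFunction G χ) {k : Fˣ} (hk : k ≠ 1) :
    M.avg χ k = χ (M.h k) := by
  have : ∀ x : F × F, χ (M.uh x k) = χ (M.h k) := fun x => by
    obtain ⟨c, d, e⟩ := M.exists_conj_uh hk x.1 x.2
    rw [← e, hχ.apply_conj']
    rfl
  have c0 : (Nat.card F : ℂ) ≠ 0 := by exact_mod_cast Nat.card_pos.ne'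
  simp only [avg, this, Finset.sum_const, Finset.card_univ, ← Nat.card_eq_fintype_card,
    Nat.card_prod, nsmul_eq_mul]
  push_cast
  field_simp

omit [Fintype Fˣ] in
theorem avg_ps (l : Fˣ →* ℂˣ) : M.avg (M.ps l) = (fun k => (l k : ℂ)) + fun k => (l⁻¹ k : ℂ) := by
  classical
  ext k
  by_cases hk : k = 1
  · subst hk
    have : ∀ x : F × F, M.ps l (M.uh x 1) = 1 + if x = 0 then (Nat.card F : ℂ) ^ 2 else 0 :=
      fun x => by
        split_ifs with h
        · subst h
          simp [uh, ps_one, add_comm]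
        · simpa [uh] using M.ps_u l (M.u_mem_Q x.1 x.2)
            fun e => h (Prod.ext (M.u_eq_one.mp e).1 (M.u_eq_one.mp e).2)
    have c0 : (Nat.card F : ℂ) ≠ 0 := by exact_mod_cast Nat.card_pos.ne'
    simp only [avg, this, Finset.sum_add_distrib, Finset.sum_const, Finset.card_univ,
      ← Nat.card_eq_fintype_card, Nat.card_prod, nsmul_eq_mul, Finset.sum_ite_eq',
      Finset.mem_univ, if_true, Pi.add_apply, map_one, Units.val_one]
    push_cast
    field_simp
  · rw [M.avg_of_ne (M.isCharacter_ps l).isClassFunction hk, M.ps_h l hk]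
    simp

open Classical in
theorem classInner_ps_ps (l l' : Fˣ →* ℂˣ) : classInner (M.ps l) (M.ps l') =
    (if l = l' then 1 else 0) + if l⁻¹ = l' then 1 else 0 := by
  rw [M.classInner_ps (M.isCharacter_ps l).isClassFunction, avg_ps, classInner_add_left,
    H33.classInner_hom, H33.classInner_hom]

omit [Fintype F] [Fintype Fˣ] in
theorem isIrr_ps (hT : T.IsFin m) {l : Fˣ →* ℂˣ} (hl : l ≠ 1) : IsIrrCharacter G (M.ps l) := by
  have := hT.finite
  have := Fintype.ofFinite F
  have := Fintype.ofFinite Fˣ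
  refine (M.isCharacter_ps l).irr_of_norm_one ?_
  rw [classInner_ps_ps, if_pos rfl, if_neg, add_zero]
  refine fun e => hl (MonoidHom.ext fun k => ?_)
  obtain ⟨a, rfl⟩ := hT.sq_surj_units k
  have := DFunLike.congr_fun e a
  rw [MonoidHom.inv_apply, inv_eq_iff_mul_eq_one] at this
  rw [map_pow, pow_two, this, MonoidHom.one_apply]

omit [Fintype F] [Fintype Fˣ] in
theorem classInner_ps_one : classInner (M.ps 1) (fun _ => 1) = 1 := by
  classical
  rw [ps, H33.classInner_indFun_left _ _ (isClassFunction_const 1)]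
  simpa using classInner_one_one (G := M.B)

omit [Fintype F] [Fintype Fˣ] in
/-- The Steinberg character. -/
noncomputable def st : G → ℂ := M.ps 1 - fun _ => 1

omit [Fintype F] [Fintype Fˣ] in
theorem classInner_st_one : classInner M.st (fun _ => 1) = 0 := by
  rw [st, classInner_sub_left, classInner_ps_one, classInner_one_one, sub_self]

omit [Fintype F] [Fintype Fˣ] in
theorem isIrr_st [Finite F] : IsIrrCharacter G M.st := by
  have := Fintype.ofFinite F
  have := Fintype.ofFinite Fˣ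
  refine ((M.isCharacter_ps 1).sub_irr isIrrCharacter_one
    (by rw [classInner_ps_one]; exact one_ne_zero)).irr_of_norm_one ?_
  rw [classInner_sub_right, ← st, classInner_st_one, st, classInner_sub_left, classInner_ps_ps,
    classInner_comm_of_nat (n := 1) (by simpa using M.classInner_ps_one), if_pos rfl,
    if_pos (MonoidHom.ext fun _ => by simp)]
  simp

omit [Fintype F] [Fintype Fˣ] in
theorem st_one [Finite F] : M.st 1 = (Nat.card F ^ 2 : ℕ) := by simp [st, ps_one]

omit [Fintype F] [Fintype Fˣ] in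
/-- A function orthogonal to the principal series. -/
def Cusp (χ : G → ℂ) : Prop := ∀ l, classInner χ (M.ps l) = 0

omit [Fintype F] [Fintype Fˣ] in
theorem cusp_or (hT : T.IsFin m) {χ : G → ℂ} (hχ : IsIrrCharacter G χ) :
    M.Cusp χ ∧ (χ ≠ fun _ => 1) ∧ χ ≠ M.st ∨ (χ = fun _ => 1) ∨ χ = M.st ∨
      ∃ l, l ≠ 1 ∧ χ = M.ps l := by
  have := hT.finite
  by_contra h
  push Not at h
  obtain ⟨h0, h1, h2, h3⟩ := h
  refine h2 (h0 (fun l => ?_) h1)
  by_cases hl : l = 1
  · have : M.ps 1 = M.st + fun _ => 1 := by simp [st]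
    rw [hl, this, classInner_add_right, hχ.classInner_of_ne M.isIrr_st h2,
      hχ.classInner_of_ne isIrrCharacter_one h1, add_zero]
  · exact hχ.classInner_of_ne (M.isIrr_ps hT hl) (h3 l hl)

omit [Fintype F] [Fintype Fˣ] in
theorem Cusp.dvd [Finite F] {χ : G → ℂ} (hχ : IsCharacter G χ) (h : M.Cusp χ) :
    Nat.card F - 1 ∣ charDegree χ := by
  have := Fintype.ofFinite F
  have := Fintype.ofFinite Fˣ
  have h0 : M.avg χ = 0 := by
    refine (isClassFunction_of_isConj fun a b c => by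
      rw [isConj_iff_eq.mp c]).eq_zero_of_classInner fun ψ hψ => ?_
    obtain ⟨l, rfl⟩ := hψ.isCharacter.exists_hom (hψ.apply_one_of_comm mul_comm)
    rw [← M.classInner_ps hχ.isClassFunction, h l]
  rw [← Nat.card_units, ← charDegree_comp χ M.h]
  refine card_dvd_degree_of_vanish (hχ.comp M.h) fun k hk => ?_
  rw [← M.avg_of_ne hχ.isClassFunction hk, h0, Pi.zero_apply]

end Model

end H66
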