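import Cfsg.Agent.H98.ZjSpec
import Cfsg.Agent.H2.MinNormal

/-! ZJF: `JobLoc → JobBase`. -/

set_option autoImplicit false

namespace H66.Zj

open Subgroup Cfsg H98 H98.Zj H96
open scoped commutatorElement

universe u

theorem jobBase (hL : JobLoc.{u}) : JobBase.{u} := by
  intro p _ G _ _ T Z hp hT hZ hn hQ
  obtain ⟨K, ⟨k1, k2⟩, k3⟩ := H2.exists_minimal_subgroup
    (fun K : Subgroup G => T ≤ K ∧ ¬ K ≤ normalizer (Z : Set G))
    ⟨⊤, le_top, fun h => hn (normal_of_top_le_normalizer h)⟩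
  have hM : UMax T (K ⊓ normalizer (Z : Set G)) K := ⟨le_inf k1 hZ, inf_lt_left.2 k2, fun X h1 h2 => by
    by_cases h : X ≤ normalizer (Z : Set G)
    · exact Or.inl (le_inf h2 h)
    · exact Or.inr (k3 X ⟨h1, h⟩ h2)⟩
  have hTK := hT.of_le k1 le_top
  obtain ⟨B, b1, b2, b3, a, a1, a2, a3⟩ := hQ K k1 k2
  have e1 : K ⊓ normalizer ((B ⊓ Z : Subgroup G) : Set G) = K ⊓ normalizer (Z : Set G) :=
    le_antisymm (hM.inf_le_of_not_le (le_normalizer_inf (k1.trans b2) hZ) b3)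
      (le_inf inf_le_left (le_normalizer_inf (inf_le_left.trans b2) inf_le_right))
  obtain ⟨L, l1, g, g1, l2, U, l3⟩ := lLemma hTK hM (zpowers_le.2 a1) fun h => a2 (h (mem_zpowers a))
  have e2 : cj g (K ⊓ normalizer (Z : Set G)) =
      K ⊓ normalizer ((B ⊓ cj g Z : Subgroup G) : Set G) := by
    rw [← e1, cj_inf, cj_eq_self_of_mem g1, cj_normalizer, cj_inf, cj_eq_self (b2 g1)]
  obtain ⟨x, x1, x2⟩ := U.exists_not_mem
  have x3 : x * a * x⁻¹ ∉ L ⊓ cj g (K ⊓ normalizer (Z : Set G)) := fun h =>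
    l3 x x1 (fun h' => x2 ⟨x1, h'⟩) (by
      rw [cj, MonoidHom.map_zpowers]; exact zpowers_le.2 h.2)
  have aL : a ∈ L := l2 (mem_sup_left (mem_zpowers a))
  have bL : B ≤ L := (le_pCoreOf (hT.isPGroup.to_le b1) (b1.trans k1) b2).trans (le_sup_right.trans l2)
  have e3 : closure {a, x * a * x⁻¹} ⊔ pCoreOf p L = L := U.eq_of_not_le
    (sup_le_sup_right (zpowers_le.2 (subset_closure (by simp))) _)
    (sup_le ((closure_le _).2 (by
      rintro _ (rfl | rfl)
      exacts [aL, mul_mem (mul_mem x1 aL) (inv_mem x1)])) (pCoreOf_le L))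
    fun h => x3 (h (mem_sup_left (subset_closure (by simp))))
  obtain ⟨S, s1, s2⟩ := exists_isSyl_le ((hT.isPGroup.to_le (zpowers_le.2 a1)).to_sup_of_normal_right'
    (isPGroup_pCoreOf L) (le_normalizer_pCoreOf_of_le (zpowers_le.2 aL))) U.le_top'
  have aS : a ∈ S := s2 (mem_sup_left (mem_zpowers a))
  have s3 := U.inf_le_of_not_le (s2.trans le_normalizer) fun h => x3 (U.le (mem_sup_right
    (conj_mem_of_mem_normalizer (self_le_normalizer_pCoreOf L x1) (s1.eq_pCoreOf h ▸ aS))))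
  have s4 := (le_inf s1.le le_normalizer).trans s3
  have U' := (U.mono s2 s4).subgroupOf
  rw [e2, ← inf_assoc, inf_eq_left.2 l1, inf_subgroupOf_left,
    subgroupOf_normalizer_eq (inf_le_left.trans bL)] at U'
  obtain ⟨X, h1, t, h2, c, h3, h4⟩ := hL p L _ (B.subgroupOf L) _ ⟨a, aL⟩ ⟨x, x1⟩ hp s1.subgroupOf_top U'
    ((normal_subgroupOf_iff_le_normalizer bL).2 (l1.trans b2))
    (isPGroup_subgroupOf (hT.isPGroup.to_le b1) L) (comap_mono inf_le_left) aS
    (map_injective L.subtype_injective (by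
      rw [Subgroup.map_sup, MonoidHom.map_closure, Set.image_pair, map_subtype_top]; exact e3))
    ((map_eq_bot_iff_of_injective _ L.subtype_injective).1 (by
      rw [map_commutator, map_commutator, MonoidHom.map_zpowers, subgroupOf_map_subtype,
        inf_eq_left.2 bL]; exact a3))
  obtain ⟨m, m1, m2⟩ := (hTK.of_le hM.le hM.le').exists_cj_le (isPGroup_cj g⁻¹ s1.isPGroup)
    (cj_le_iff.2 (by rw [inv_inv]; exact s4.trans inf_le_right))
  rw [cj_cj] at m2
  have e4 : cj (m * g⁻¹) (cj g Z) = Z := by rw [← cj_cj, cj_inv_cj, cj_eq_self m1.2]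
  rw [← subgroupOf_normalizer_eq s1.le] at h2
  refine ⟨_, (cj_mono _ ?_).trans m2, _, m2 (conj_mem_cj aS), _, ?_, _, e4 ▸ conj_mem_cj h3.2,
    (h4.map L.subtype L.subtype_injective).cj (m * g⁻¹)⟩
  · exact (map_le_iff_le_comap.2 h1).trans ((le_pCoreOf (hT.isPGroup.to_le b1) bL
      (l1.trans b2)).trans s1.pCoreOf_le)
  · rw [← e4, ← cj_normalizer, ← cj_normalizer]
    exact conj_mem_cj (cj_mono g inf_le_right (s3 ⟨t.2, h2⟩).2)

end H66.Zj
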