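import Cfsg.Agent.H98.ZjSpec

/-! The section `F(p)` from a datum (job `F` of blueprint `ZJF.md`). -/

set_option autoImplicit false

namespace H66.Zj

open Subgroup Cfsg Matrix MatrixGroups H11 H98.Zj

universe u

/-- The upper triangular matrices. -/
def bor (F : Type*) [Field F] : Subgroup SL(2, F) where
  carrier := {m | m 1 0 = 0}
  one_mem' := by simp
  mul_mem' := by
    intro a b ha hb
    change a 1 0 = 0 at ha
    change b 1 0 = 0 at hb
    change (a * b) 1 0 = 0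
    rw [sl_mul_apply, ha, hb]; simp
  inv_mem' := by
    intro a ha
    change a 1 0 = 0 at ha
    change (a⁻¹) 1 0 = 0
    rw [sl_inv_10, ha, neg_zero]

theorem mem_bor {F : Type*} [Field F] {m : SL(2, F)} : m ∈ bor F ↔ m 1 0 = 0 := Iff.rfl

theorem mem_fOver_iff {F : Type*} [Field F] {M : SL(3, F)} :
    M ∈ fOver F ↔ ∃ A ∈ bor F, ∃ v, M = aff A v := by
  constructor
  · intro h
    induction h using Subgroup.closure_induction with
    | mem x hx =>
      obtain ⟨A, v, rfl⟩ := exists_eq_aff x hx.2.1 hx.2.2.1 hx.2.2.2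
      exact ⟨A, hx.1, v, rfl⟩
    | one => exact ⟨1, one_mem _, 0, aff_one.symm⟩
    | mul x y _ _ hx hy =>
      obtain ⟨A, hA, v, rfl⟩ := hx
      obtain ⟨B, hB, w, rfl⟩ := hy
      exact ⟨_, mul_mem hA hB, _, aff_mul A B v w⟩
    | inv x _ hx =>
      obtain ⟨A, hA, v, rfl⟩ := hx
      refine ⟨A⁻¹, inv_mem hA, -((A⁻¹ : SL(2, F)) : Matrix (Fin 2) (Fin 2) F) *ᵥ v, ?_⟩
      rw [inv_eq_iff_eq_inv, eq_inv_iff_mul_eq_one, mul_eq_one_comm, aff_mul, inv_mul_cancel,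
        Matrix.neg_mulVec, neg_add_cancel, aff_one]
  · rintro ⟨A, hA, v, rfl⟩
    exact Subgroup.subset_closure ⟨hA, rfl, rfl, rfl⟩

variable {p : ℕ} [Fact p.Prime]

theorem involves_aff_aux (hp : p ≠ 2) {X : Type*} [Group X] [Finite X]
    (P : Subgroup SL(2, ZMod p)) (hP1 : -1 ∈ P) (A : Subgroup SL(3, ZMod p))
    (hA : ∀ M, M ∈ A ↔ ∃ m ∈ P, ∃ v, M = aff m v)
    (ι : Multiplicative (Fin 2 → ZMod p) →* X) (hι : Function.Injective ι)
    (ψ : X →* SL(2, ZMod p)) (hψ : ∀ m ∈ P, ∃ x, ψ x = m) (hψP : ∀ x, ψ x ∈ P)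
    (hc : ∀ x v, x * ι (.ofAdd v) * x⁻¹ = ι (.ofAdd ((ψ x : Matrix (Fin 2) (Fin 2) (ZMod p)) *ᵥ v))) :
    Involves A X := by
  have hpp : p.Prime := Fact.out
  have : Fact (Nat.Prime 2) := ⟨Nat.prime_two⟩
  let T : Subgroup X := (Subgroup.center SL(2, ZMod p)).comap ψ
  have hcen : ∀ z ∈ Subgroup.center SL(2, ZMod p), z = 1 ∨ z = -1 := by
    intro z hz
    obtain ⟨r, hr, hz⟩ := Matrix.SpecialLinearGroup.mem_center_iff.mp hz
    rw [Fintype.card_fin, sq_eq_one_iff] at hr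
    rcases hr with rfl | rfl
    · left; apply Subtype.ext; rw [← hz]; simp
    · right; apply Subtype.ext; rw [← hz, map_neg]; simp
  have hm1 : (-1 : SL(2, ZMod p)) ∈ Subgroup.center SL(2, ZMod p) := by
    rw [Subgroup.mem_center_iff]; simp
  obtain ⟨t, htp, ht⟩ : ∃ t : X, (∃ k, t ^ 2 ^ k = 1) ∧ ψ t = -1 := by
    obtain ⟨t, ht⟩ := hψ (-1) hP1
    obtain ⟨k, m, hm, hkm⟩ := Nat.exists_eq_two_pow_mul_odd (orderOf_pos t).ne'
    refine ⟨t ^ m, ⟨k, ?_⟩, by rw [map_pow, ht, hm.neg_one_pow]⟩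
    rw [← pow_mul, mul_comm, ← hkm, pow_orderOf_eq_one]
  have htT : t ∈ T := by rw [Subgroup.mem_comap, ht]; exact hm1
  have hP : IsPGroup 2 (Subgroup.zpowers (⟨t, htT⟩ : T)) := by
    obtain ⟨k, hk⟩ := htp
    apply IsPGroup.of_card_dvd_pow (n := k)
    rw [Nat.card_zpowers]
    exact orderOf_dvd_of_pow_eq_one (Subtype.ext hk)
  obtain ⟨S, hS⟩ := hP.exists_le_sylow
  set S' := (S : Subgroup T).map T.subtype with hS'
  have htS : t ∈ S' := ⟨⟨t, htT⟩, hS (Subgroup.mem_zpowers _), rfl⟩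
  set N := Subgroup.normalizer (S' : Set X) with hN
  have hfr : N ⊔ T = ⊤ := S.normalizer_sup_eq_top
  have htN : t ∈ N := Subgroup.le_normalizer htS
  have hψN : ∀ m ∈ P, ∃ n ∈ N, ψ n = m := by
    intro m hm
    obtain ⟨x, rfl⟩ := hψ m hm
    have hx : x ∈ N ⊔ T := hfr ▸ Subgroup.mem_top x
    obtain ⟨n, hn, y, hy, rfl⟩ := Subgroup.mem_sup_of_normal_right.mp hx
    rcases hcen _ hy with h | h
    · exact ⟨n, hn, by rw [map_mul, h, mul_one]⟩
    · exact ⟨n * t, N.mul_mem hn htN, by rw [map_mul, map_mul, h, ht]⟩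
  have hNU : ∀ v, ι (.ofAdd v) ∈ N → v = 0 := by
    intro v hv
    have h1 : t * (ι (.ofAdd v) * t⁻¹ * (ι (.ofAdd v))⁻¹) ∈ S' :=
      S'.mul_mem htS ((Subgroup.mem_normalizer_iff.mp hv _).mp (S'.inv_mem htS))
    have h2 : t * (ι (.ofAdd v) * t⁻¹ * (ι (.ofAdd v))⁻¹) = ι (.ofAdd (-(2 • v))) := by
      rw [← mul_assoc, ← mul_assoc, hc, ht, ← map_inv, ← map_mul]
      congr 1
      apply Multiplicative.toAdd.injective
      simp [Matrix.neg_mulVec, two_smul]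
    rw [h2] at h1
    obtain ⟨k, hk⟩ := (S.isPGroup'.map T.subtype) ⟨_, h1⟩
    have hk' : ι (.ofAdd (-(2 • v))) ^ 2 ^ k = 1 := congrArg Subtype.val hk
    rw [← map_pow, map_eq_one_iff _ hι] at hk'
    have e : (2 ^ k : ℕ) • (-((2 : ℕ) • v)) = (0 : Fin 2 → ZMod p) :=
      congrArg Multiplicative.toAdd hk'
    have h2' : (2 : ZMod p) ≠ 0 := char_ne_two_of p hp
    ext i
    have := congrFun e i
    simp only [Pi.smul_apply, Pi.neg_apply, nsmul_eq_mul, Pi.zero_apply, Nat.cast_pow,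
      Nat.cast_ofNat] at this
    simpa [h2'] using this
  let D : Subgroup (X × SL(3, ZMod p)) :=
    { carrier := {z | ∃ v, ∃ n ∈ N, z = (ι (.ofAdd v) * n, aff (ψ n) v)}
      one_mem' := ⟨0, 1, N.one_mem, by simp [aff_one]; rfl⟩
      mul_mem' := by
        rintro _ _ ⟨v, n, hn, rfl⟩ ⟨w, m, hm, rfl⟩
        refine ⟨v + (ψ n : Matrix (Fin 2) (Fin 2) (ZMod p)) *ᵥ w, n * m, N.mul_mem hn hm, ?_⟩
        rw [Prod.mk_mul_mk, aff_mul, map_mul, ofAdd_add, map_mul, ← hc]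
        congr 1; group
      inv_mem' := by
        rintro _ ⟨v, n, hn, rfl⟩
        refine ⟨-((ψ n⁻¹ : Matrix (Fin 2) (Fin 2) (ZMod p)) *ᵥ v), n⁻¹, N.inv_mem hn, ?_⟩
        rw [inv_eq_iff_eq_inv, eq_inv_iff_mul_eq_one, mul_eq_one_comm, Prod.mk_mul_mk, aff_mul,
          ← map_mul, inv_mul_cancel, map_one, neg_add_cancel, aff_one, ofAdd_neg, map_inv, ← hc]
        congr 1; group }
  refine H94.involves_of_span ((MonoidHom.fst _ _).comp D.subtype) ?_
    (((MonoidHom.snd _ _).comp D.subtype).codRestrict A ?_) ?_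
  · rw [injective_iff_map_eq_one]
    rintro ⟨_, v, n, hn, rfl⟩ h
    change ι (.ofAdd v) * n = 1 at h
    have hv : v = 0 := hNU v (by rw [eq_inv_of_mul_eq_one_left h]; exact N.inv_mem hn)
    subst hv
    have hn1 : n = 1 := by simpa using h
    subst hn1
    apply Subtype.ext
    simp [aff_one]
  · rintro ⟨_, v, n, hn, rfl⟩
    exact (hA _).2 ⟨_, hψP n, v, rfl⟩
  · rintro ⟨q, hq⟩
    obtain ⟨m, hm, v, rfl⟩ := (hA q).1 hq
    obtain ⟨n, hn, rfl⟩ := hψN m hm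
    exact ⟨⟨_, v, n, hn, rfl⟩, rfl⟩

theorem involves_aff_of_nat (hp : p ≠ 2) {X : Type*} [Group X] [Finite X]
    (P : Subgroup SL(2, ZMod p)) (hP1 : -1 ∈ P) (A : Subgroup SL(3, ZMod p))
    (hA : ∀ M, M ∈ A ↔ ∃ m ∈ P, ∃ v, M = aff m v)
    (ι : Multiplicative (Fin 2 → ZMod p) →* X) (hι : Function.Injective ι)
    (h : ∀ m ∈ P, ∃ x : X, ∀ v,
      x * ι (.ofAdd v) * x⁻¹ = ι (.ofAdd ((m : Matrix (Fin 2) (Fin 2) (ZMod p)) *ᵥ v))) :
    Involves A X := by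
  obtain ⟨L, ψ, hL, hψ⟩ := exists_relHom (fun (x y : X) => x * y * x⁻¹) (by simp)
    (fun g h v => by simp [mul_assoc])
    (fun (m : P) (v : Fin 2 → ZMod p) =>
      ((m : SL(2, ZMod p)) : Matrix (Fin 2) (Fin 2) (ZMod p)) *ᵥ v)
    (by simp) (fun g h x => (Matrix.mulVec_mulVec x _ _).symm)
    (fun m m' h => Subtype.ext (sl_mulVec_faithful _ _ h))
    (fun v => ι (.ofAdd v)) (fun v w h => hι h)
  have hιL : ∀ v, ι v ∈ L := by
    intro v
    refine (hL _).mpr ⟨1, fun w => ?_⟩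
    rw [← map_inv, ← map_mul, ← map_mul, mul_inv_cancel_comm]; simp
  refine H94.involves_trans (involves_aff_aux hp P hP1 A hA (ι.codRestrict L hιL) ?_
    (P.subtype.comp ψ) ?_ (fun x => (ψ x).2) ?_) (H94.involves_subgroup L)
  · intro v w h; exact hι (Subtype.mk.inj h)
  · intro m hm
    obtain ⟨x, hx⟩ := h m hm
    refine ⟨⟨x, (hL x).mpr ⟨⟨m, hm⟩, hx⟩⟩, sl_mulVec_faithful _ _ fun v => ?_⟩
    have := (hψ ⟨x, (hL x).mpr ⟨⟨m, hm⟩, hx⟩⟩ v).symm.trans (hx v)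
    exact hι this
  · intro x v
    exact Subtype.ext (hψ x v)

theorem involves_aff_of_actsAs (hp2 : p ≠ 2) {G : Type*} [Group G] [Finite G]
    (P : Subgroup SL(2, ZMod p)) (hP1 : -1 ∈ P) (A : Subgroup SL(3, ZMod p))
    (hA : ∀ M, M ∈ A ↔ ∃ m ∈ P, ∃ v, M = aff m v) {Q Y : Subgroup G} (hQY : Q ≤ Y)
    {φ : Q →* Multiplicative (Fin 2 → ZMod p)} (hφ : Function.Surjective φ)
    (h : ∀ m ∈ P, ∃ y ∈ Y, ActsAs φ y m) : Involves A Y := by
  set R := φ.ker.map Q.subtype with hR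
  set Z := Y ⊓ normalizer (R : Set G) with hZ
  have hQZ : Q ≤ Z := le_inf hQY (by
    have := le_normalizer_map (H := φ.ker) Q.subtype
    rwa [normalizer_eq_top, ← MonoidHom.range_eq_map, range_subtype] at this)
  have hn : (R.subgroupOf Z).Normal := normal_subgroupOf_of_le_normalizer inf_le_right
  let j : Q →* Z ⧸ R.subgroupOf Z := (QuotientGroup.mk' _).comp (inclusion hQZ)
  have hj : j.ker = φ.ker := by
    ext q
    change ((inclusion hQZ q : Z) : Z ⧸ R.subgroupOf Z) = 1 ↔ _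
    rw [QuotientGroup.eq_one_iff, mem_subgroupOf]
    exact mem_map_iff_mem Q.subtype_injective
  let ι := φ.liftOfSurjective hφ ⟨j, hj.ge⟩
  have hι : ∀ q, ι (φ q) = j q := fun q => φ.liftOfRightInverse_comp_apply _ _ _ q
  refine H94.involves_trans (involves_aff_of_nat hp2 P hP1 A hA ι ?_ fun m hmP => ?_)
    (H94.involves_trans (H94.involves_quotient _) (H94.involves_of_le inf_le_left))
  · rw [injective_iff_map_eq_one]
    intro v hv
    obtain ⟨q, rfl⟩ := hφ v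
    rw [hι, ← MonoidHom.mem_ker, hj] at hv
    exact hv
  · obtain ⟨y, hy, hm⟩ := h m hmP
    refine ⟨((⟨y, hy, hm.mem_normalizer_ker⟩ : Z) : Z ⧸ R.subgroupOf Z), fun v => ?_⟩
    obtain ⟨q, hq⟩ := hφ (.ofAdd v)
    obtain ⟨q', h1, h2⟩ := hm q
    rw [hq, toAdd_ofAdd] at h2
    rw [← h2, ← hq, hι, hι]
    change ((_ * inclusion hQZ q * _⁻¹ : Z) : Z ⧸ R.subgroupOf Z) = (inclusion hQZ q' : Z)
    congr 1
    exact Subtype.ext h1.symm

theorem actsAs_pow {G : Type*} [Group G] {Q : Subgroup G}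
    {φ : Q →* Multiplicative (Fin 2 → ZMod p)} {y : G} {m : SL(2, ZMod p)} (h : ActsAs φ y m)
    (n : ℕ) : ActsAs φ (y ^ n) (m ^ n) := by
  induction n with
  | zero => simpa using actsAs_one φ
  | succ n ih => rw [pow_succ, pow_succ]; exact ih.mul h

theorem jobF : JobF.{u} := by
  intro p _ G _ _ H X a t c hp2 hXH ha ht ⟨u, v, w, hD⟩
  have hpp : p.Prime := Fact.out
  have hw0 : w ≠ 0 := hD.gen.ne_zero (by have := hpp.two_le; omega)
  let φ : X →* Multiplicative (Fin 2 → ZMod p) := MonoidHom.mk'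
    (fun x => .ofAdd ![u x, v x]) fun x y => by
      apply Multiplicative.toAdd.injective
      ext i
      fin_cases i
      · exact hD.uadd _ x.2 _ y.2
      · exact hD.vadd _ x.2 _ y.2
  have hφ : Function.Surjective φ := fun r => by
    obtain ⟨x, hx, h1, h2⟩ := hD.surj (r.toAdd 0) (r.toAdd 1)
    refine ⟨⟨x, hx⟩, Multiplicative.toAdd.injective ?_⟩
    ext i
    fin_cases i
    · exact h1
    · exact h2
  let d : SL(2, ZMod p) := ⟨!![w, 0; 0, w⁻¹], by simp [det_fin_two, hw0]⟩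
  have hdn : ∀ n : ℕ, (d ^ n) 0 0 = w ^ n ∧ (d ^ n) 0 1 = 0 ∧ (d ^ n) 1 0 = 0 ∧
      (d ^ n) 1 1 = w⁻¹ ^ n := by
    intro n
    induction n with
    | zero => simp
    | succ n ih =>
      obtain ⟨a, b, c, e⟩ := ih
      rw [pow_succ]
      simp only [sl_mul_apply, a, b, c, e]
      simp [d, pow_succ, mul_comm]
  have hA : ActsAs φ a (uMat 1) := fun q => by
    refine ⟨⟨_, hD.amem q q.2⟩, rfl, Multiplicative.toAdd.injective ?_⟩
    ext i
    fin_cases i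
    · simpa [φ, Matrix.mulVec, dotProduct] using hD.au q q.2
    · simpa [φ, Matrix.mulVec, dotProduct] using hD.av q q.2
  have hT : ActsAs φ t d := fun q => by
    refine ⟨⟨_, hD.fmem q q.2⟩, rfl, Multiplicative.toAdd.injective ?_⟩
    ext i
    fin_cases i
    · simpa [φ, d, Matrix.mulVec, dotProduct, mul_comm] using hD.fu q q.2
    · have := hD.fv q q.2
      simp only [φ, d]
      simp
      rw [← this, mul_comm w, mul_inv_cancel_right₀ hw0]
  refine involves_aff_of_actsAs hp2 (bor _) (by simp [mem_bor]) _ (fun _ => mem_fOver_iff) hXH hφ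
    fun m hm => ?_
  have hdet := sl_det m
  rw [mem_bor.1 hm, mul_zero, sub_zero] at hdet
  have hm0 : m 0 0 ≠ 0 := left_ne_zero_of_mul_eq_one hdet
  have : NeZero (p - 1) := ⟨by have := hpp.two_le; omega⟩
  obtain ⟨k, -, hk⟩ := hD.gen.eq_pow_of_pow_eq_one (ZMod.pow_card_sub_one_eq_one hm0)
  have e : m = uMat 1 ^ (m 0 1 * m 0 0).val * d ^ k := by
    obtain ⟨a, b, c, e⟩ := hdn k
    have h11 : m 1 1 = (m 0 0)⁻¹ := eq_inv_of_mul_eq_one_right hdet
    rw [uMat_pow, mul_one, ZMod.natCast_zmod_val]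
    apply sl_ext <;> simp only [sl_mul_apply, a, b, c, e, inv_pow, hk] <;>
      simp [mem_bor.1 hm, h11, hm0]
  rw [e]
  exact ⟨_, mul_mem (pow_mem ha _) (pow_mem ht _), (actsAs_pow hA _).mul (actsAs_pow hT _)⟩

end H66.Zj
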